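import Cfsg.Agent.H35.JT.Tools
import Cfsg.Agent.H62.PushL2
import Cfsg.Agent.H27.QuaternionSylow
import Cfsg.Agent.Fusion.Basic
import Cfsg.Agent.S0809
import Cfsg.Agent.Linear.Simple

/-!
# Sylow 2-subgroups of `L₂(q)`

Each is dihedral of order at least eight, or elementary abelian with a scalar element in its normaliser.
-/

set_option autoImplicit false

namespace Cfsg.Agent.H35.JT

open Subgroup

/-- `x` normalises `P`, permutes its non-trivial elements transitively, and `N(P)` acts by powers of it. -/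
structure Scalar {L : Type*} [Group L] (P : Subgroup L) (x : L) : Prop where
  norm : ∀ p ∈ P, x * p * x⁻¹ ∈ P
  trans : ∀ a ∈ P, ∀ b ∈ P, a ≠ 1 → b ≠ 1 → ∃ k : ℕ, x ^ k * a * (x ^ k)⁻¹ = b
  powers : ∀ n : L, (∀ p ∈ P, n * p * n⁻¹ ∈ P) → ∃ k : ℕ, ∀ p ∈ P, n * p * n⁻¹ = x ^ k * p * (x ^ k)⁻¹

theorem Scalar.conj {L : Type*} [Group L] {P : Subgroup L} {x : L} (h : Scalar P x) (l : L) :
    Scalar (P.map (MulAut.conj l).toMonoidHom) (l * x * l⁻¹) := by
  refine ⟨?_, ?_, ?_⟩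
  · rintro _ ⟨p, hp, rfl⟩
    exact ⟨x * p * x⁻¹, h.norm p hp, by simp [mul_assoc]⟩
  · rintro _ ⟨a, ha, rfl⟩ _ ⟨b, hb, rfl⟩ h1 h2
    obtain ⟨k, hk⟩ := h.trans a ha b hb (fun e => h1 (by simp [e])) (fun e => h2 (by simp [e]))
    refine ⟨k, ?_⟩
    rw [conj_pow, ← hk]
    simp [mul_assoc]
  · intro n hn
    obtain ⟨k, hk⟩ := h.powers (l⁻¹ * n * l) (fun p hp => by
      obtain ⟨q, hq, e⟩ := hn (l * p * l⁻¹) ⟨p, hp, by simp⟩
      have e' : l * q * l⁻¹ = n * (l * p * l⁻¹) * n⁻¹ := by simpa using e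
      rwa [show l⁻¹ * n * l * p * (l⁻¹ * n * l)⁻¹ = l⁻¹ * (n * (l * p * l⁻¹) * n⁻¹) * l by group, ← e',
        show l⁻¹ * (l * q * l⁻¹) * l = q by group])
    refine ⟨k, ?_⟩
    rintro _ ⟨p, hp, rfl⟩
    simp only [MulEquiv.coe_toMonoidHom, MulAut.conj_apply, conj_pow]
    have := congrArg (fun y => l * y * l⁻¹) (hk p hp)
    simpa [mul_assoc] using this

/-- A four-group Sylow 2-subgroup, all involutions conjugate, has a scalar element. -/
theorem scalar_of_four {L : Type*} [Group L] [Finite L] (P : Sylow 2 L) (h4 : Nat.card (P : Subgroup L) = 4)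
    (hsq : ∀ p ∈ (P : Subgroup L), p * p = 1)
    (hone : ∀ a b : L, orderOf a = 2 → orderOf b = 2 → IsConj a b) : ∃ x, Scalar (P : Subgroup L) x := by
  classical
  have : Fact (Nat.Prime 2) := ⟨Nat.prime_two⟩
  set Q : Subgroup L := (P : Subgroup L) with hQ
  have hab : ∀ a ∈ Q, ∀ b ∈ Q, b * a = a * b := fun a ha b hb => by
    have h := inv_eq_of_mul_eq_one_right (hsq _ (mul_mem ha hb))
    rw [mul_inv_rev, inv_eq_of_mul_eq_one_right (hsq _ ha), inv_eq_of_mul_eq_one_right (hsq _ hb)] at h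
    exact h
  -- the action of the normaliser has odd order
  have hodd : ∀ n : L, (∀ p ∈ Q, n * p * n⁻¹ ∈ Q) → ∀ a ∈ Q, n * (n * a * n⁻¹) * n⁻¹ = a → n * a * n⁻¹ = a := by
    intro n hn a ha h2
    have heven : ∀ j : ℕ, n ^ (2 * j) * a * (n ^ (2 * j))⁻¹ = a := by
      intro j
      induction j with
      | zero => simp
      | succ j ih =>
        rw [Nat.mul_succ, pow_add,
          show n ^ (2 * j) * n ^ 2 * a * (n ^ (2 * j) * n ^ 2)⁻¹
            = n ^ (2 * j) * (n * (n * a * n⁻¹) * n⁻¹) * (n ^ (2 * j))⁻¹ by rw [pow_two]; group, h2, ih]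
    obtain ⟨e, m, hm, hd⟩ := Nat.exists_eq_two_pow_mul_odd (orderOf_pos n).ne'
    have h2g : IsPGroup 2 (zpowers (n ^ m)) := IsPGroup.of_card (n := e) (by
      rw [Nat.card_zpowers, orderOf_pow' n hm.pos.ne', hd, Nat.gcd_eq_right (dvd_mul_left m (2 ^ e)),
        Nat.mul_div_cancel _ hm.pos])
    have hnQ : zpowers (n ^ m) ≤ normalizer (Q : Set L) := by
      rw [zpowers_le]
      refine pow_mem ?_ m
      rw [Subgroup.mem_normalizer_iff_map_conj_eq]
      refine Subgroup.eq_of_le_of_card_ge ?_ (Subgroup.card_map_of_injective (MulAut.conj n).injective).ge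
      rintro _ ⟨p, hp, rfl⟩
      simpa using hn p hp
    have heq := P.is_maximal' (P.isPGroup'.to_sup_of_normal_left' h2g hnQ) le_sup_left
    have hmQ : n ^ m ∈ Q := (SetLike.ext_iff.1 heq _).1 (mem_sup_right (mem_zpowers _))
    have hfix : n ^ m * a * (n ^ m)⁻¹ = a := by rw [hab a ha _ hmQ, mul_inv_cancel_right]
    obtain ⟨j, rfl⟩ := hm
    have := heven j
    rw [pow_succ', show n * n ^ (2 * j) * a * (n * n ^ (2 * j))⁻¹
      = n * (n ^ (2 * j) * a * (n ^ (2 * j))⁻¹) * n⁻¹ by group, this] at hfix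
    exact hfix
  have hord : ∀ a ∈ Q, a ≠ 1 → orderOf a = 2 := fun a ha h1 =>
    orderOf_eq_prime (by rw [pow_two]; exact hsq a ha) h1
  obtain ⟨a, ha, ha1⟩ : ∃ a ∈ Q, a ≠ 1 := by
    refine Q.bot_or_exists_ne_one.resolve_left fun e => ?_
    rw [e, Subgroup.card_bot] at h4
    omega
  obtain ⟨b, hb, hb1, hba⟩ : ∃ b ∈ Q, b ≠ 1 ∧ b ≠ a := by
    by_contra h
    push Not at h
    have hsub : (Q : Set L) ⊆ {1, a} := fun b hb => by
      by_cases hb1 : b = 1
      · exact Or.inl hb1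
      · exact Or.inr (h b hb hb1)
    have h1 := Set.ncard_le_ncard hsub (Set.toFinite _)
    rw [← Nat.card_coe_set_eq (Q : Set L), SetLike.coe_sort_coe, h4] at h1
    have h2 := Set.ncard_insert_le (1 : L) {a}
    rw [Set.ncard_singleton] at h2
    omega
  have hQ4 : ∀ p ∈ Q, p = 1 ∨ p = a ∨ p = b ∨ p = a * b := by
    have hne : a * b ∉ ({1, a, b} : Set L) := by
      simp only [Set.mem_insert_iff, Set.mem_singleton_iff, mul_eq_left, mul_eq_right]
      rintro (h | h | h)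
      · exact hba ((inv_eq_of_mul_eq_one_right h).symm.trans (inv_eq_of_mul_eq_one_right (hsq a ha)))
      · exact hb1 h
      · exact ha1 h
    have hsub : ({a * b, 1, a, b} : Set L) ⊆ Q := by
      simp [Set.insert_subset_iff, ha, hb, one_mem, mul_mem ha hb]
    have h1 : ({a * b, 1, a, b} : Set L).ncard = 4 := by
      rw [Set.ncard_insert_of_notMem hne, Set.ncard_insert_of_notMem (by simp [Ne.symm ha1, Ne.symm hb1]),
        Set.ncard_pair (Ne.symm hba)]
    have heq := Set.eq_of_subset_of_ncard_le hsub (by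
      rw [h1, ← Nat.card_coe_set_eq, SetLike.coe_sort_coe, h4])
    intro p hp
    have : p ∈ ({a * b, 1, a, b} : Set L) := by rw [heq]; exact hp
    simp only [Set.mem_insert_iff, Set.mem_singleton_iff] at this
    tauto
  obtain ⟨g, hg⟩ := isConj_iff.1 (hone a b (hord a ha ha1) (hord b hb hb1))
  have hnorm : ∀ y ∈ Q, Q ≤ normalizer ({y} : Set L) := fun y hy p hp => by
    rw [Subgroup.mem_normalizer_iff_conj_image_eq, Set.image_singleton, Set.singleton_eq_singleton_iff,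
      MulAut.conj_apply, hab y hy p hp, mul_inv_cancel_right]
  obtain ⟨x, hx, he⟩ := Fusion.burnside_fusion_sets P (hnorm a ha) (hnorm b hb) (g := g) (by simp [hg])
  rw [Set.image_singleton, Set.singleton_eq_singleton_iff] at he
  have hxn : ∀ p ∈ Q, x * p * x⁻¹ ∈ Q := fun p hp => (Subgroup.mem_normalizer_iff.1 hx p).1 hp
  have hinj : ∀ {n p q : L}, n * p * n⁻¹ = n * q * n⁻¹ → p = q := fun e => mul_left_cancel (mul_right_cancel e)
  have hxb : x * b * x⁻¹ = a * b := by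
    rcases hQ4 _ (hxn b hb) with h | h | h | h
    · exact absurd (conj_eq_one_iff.1 h) hb1
    · have := hodd x hxn a ha (by rw [he, h])
      exact absurd (this.symm.trans he).symm hba
    · exact absurd (hinj (h.trans he.symm)) hba
    · exact h
  have hfix : ∀ n : L, (∀ p ∈ Q, n * p * n⁻¹ ∈ Q) → n * a * n⁻¹ = a → ∀ p ∈ Q, n * p * n⁻¹ = p := by
    intro n hn hna p hp
    have hnb : n * b * n⁻¹ = b := by
      rcases hQ4 _ (hn b hb) with h | h | h | h
      · exact absurd (conj_eq_one_iff.1 h) hb1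
      · exact absurd (hinj (h.trans hna.symm)) hba
      · exact h
      · refine hodd n hn b hb ?_
        rw [h, show n * (a * b) * n⁻¹ = n * a * n⁻¹ * (n * b * n⁻¹) by group, hna, h, ← mul_assoc, hsq a ha,
          one_mul]
    rcases hQ4 p hp with rfl | rfl | rfl | rfl
    · group
    · exact hna
    · exact hnb
    · rw [show n * (a * b) * n⁻¹ = n * a * n⁻¹ * (n * b * n⁻¹) by group, hna, hnb]
  have hx2 : x ^ 2 * a * (x ^ 2)⁻¹ = a * b := by
    rw [pow_two, show x * x * a * (x * x)⁻¹ = x * (x * a * x⁻¹) * x⁻¹ by group, he, hxb]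
  have hxpow : ∀ k : ℕ, ∀ p ∈ Q, x ^ k * p * (x ^ k)⁻¹ ∈ Q := by
    intro k
    induction k with
    | zero => intro p hp; simpa using hp
    | succ k ih =>
      intro p hp
      rw [pow_succ', show x * x ^ k * p * (x * x ^ k)⁻¹ = x * (x ^ k * p * (x ^ k)⁻¹) * x⁻¹ by group]
      exact hxn _ (ih p hp)
  have horb : ∀ c ∈ Q, c ≠ 1 → ∃ k : ℕ, x ^ k * a * (x ^ k)⁻¹ = c := by
    intro c hc hc1
    rcases hQ4 c hc with h | h | h | h
    · exact absurd h hc1
    · exact ⟨0, by simp [h]⟩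
    · exact ⟨1, by rw [pow_one, he, h]⟩
    · exact ⟨2, by rw [hx2, h]⟩
  have hpow : ∀ n : L, (∀ p ∈ Q, n * p * n⁻¹ ∈ Q) → ∀ k : ℕ, x ^ k * a * (x ^ k)⁻¹ = n * a * n⁻¹ →
      ∀ p ∈ Q, n * p * n⁻¹ = x ^ k * p * (x ^ k)⁻¹ := by
    intro n hn k hk p hp
    have hm : ∀ q ∈ Q, (x ^ k)⁻¹ * n * q * ((x ^ k)⁻¹ * n)⁻¹ ∈ Q := by
      intro q hq
      have hxi : x ^ k ∈ normalizer (Q : Set L) := pow_mem hx k
      have := (Subgroup.mem_normalizer_iff.1 (inv_mem hxi) _).1 (hn q hq)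
      simpa [mul_assoc] using this
    have := hfix _ hm (by
      rw [show (x ^ k)⁻¹ * n * a * ((x ^ k)⁻¹ * n)⁻¹ = (x ^ k)⁻¹ * (n * a * n⁻¹) * x ^ k by group, ← hk]
      group) p hp
    conv_rhs => rw [← this]
    group
  refine ⟨x, hxn, fun c hc d hd hc1 hd1 => ?_, fun n hn => ?_⟩
  · obtain ⟨i, hi⟩ := horb c hc hc1
    obtain ⟨j, hj⟩ := horb d hd hd1
    -- `x ^ (3 i)` fixes `a`, so `x ^ (j + 2 i)` maps `c` to `d`
    have h3 : x ^ 3 * a * (x ^ 3)⁻¹ = a := by
      rw [pow_succ', show x * x ^ 2 * a * (x * x ^ 2)⁻¹ = x * (x ^ 2 * a * (x ^ 2)⁻¹) * x⁻¹ by group, hx2,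
        show x * (a * b) * x⁻¹ = x * a * x⁻¹ * (x * b * x⁻¹) by group, he, hxb, ← mul_assoc, hab a ha b hb,
        mul_assoc, hsq b hb, mul_one]
    have h3i : ∀ i : ℕ, x ^ (3 * i) * a * (x ^ (3 * i))⁻¹ = a := by
      intro i
      induction i with
      | zero => simp
      | succ i ih =>
        rw [Nat.mul_succ, pow_add, show x ^ (3 * i) * x ^ 3 * a * (x ^ (3 * i) * x ^ 3)⁻¹
          = x ^ (3 * i) * (x ^ 3 * a * (x ^ 3)⁻¹) * (x ^ (3 * i))⁻¹ by group, h3, ih]
    refine ⟨j + 2 * i, ?_⟩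
    rw [← hi, ← hj, show x ^ (j + 2 * i) * (x ^ i * a * (x ^ i)⁻¹) * (x ^ (j + 2 * i))⁻¹
      = x ^ j * (x ^ (3 * i) * a * (x ^ (3 * i))⁻¹) * (x ^ j)⁻¹ by
        rw [pow_add, show 3 * i = 2 * i + i by ring, pow_add]; group, h3i]
  · obtain ⟨k, hk⟩ := horb _ (hn a ha) (fun e => ha1 (conj_eq_one_iff.1 e))
    exact ⟨k, hpow n hn k hk⟩

section PSL

variable {F : Type*} [Field F] [Fintype F]

local notation "P2" => Matrix.ProjectiveSpecialLinearGroup (Fin 2) F
local notation "S2" => Matrix.SpecialLinearGroup (Fin 2) F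

/-- All involutions of `L₂(q)` are conjugate. -/
theorem psl_one_class (a b : P2) (ha : orderOf a = 2) (hb : orderOf b = 2) : IsConj a b := by
  have : Fact (Nat.Prime 2) := ⟨Nat.prime_two⟩
  by_cases hodd : Odd (Fintype.card F)
  · obtain ⟨A, hA⟩ : ∃ A : Subgroup S2, Nat.card A = 4 := by
      obtain ⟨PS⟩ : Nonempty (Sylow 2 S2) := inferInstance
      obtain ⟨k, -, ⟨e⟩⟩ := H27.QuaternionSylow.sylow_equiv_quaternion hodd PS
      have h4 : 2 ^ 2 ∣ Nat.card S2 := by
        refine Dvd.dvd.trans ?_ PS.toSubgroup.card_subgroup_dvd_card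
        rw [Nat.card_congr e.toEquiv, Nat.card_eq_fintype_card, QuaternionGroup.card]
        exact ⟨2 ^ k, by ring⟩
      obtain ⟨A, hA⟩ := Sylow.exists_subgroup_card_pow_prime 2 h4
      exact ⟨A, by rw [hA]; norm_num⟩
    exact (S0809.result rfl hodd A hA).2.2.2 a b ha hb
  · obtain ⟨p, hp⟩ := CharP.exists F
    obtain ⟨n, hpr, hn⟩ := FiniteField.card F p
    have hp2 : p = 2 := (hpr.eq_two_or_odd').resolve_right fun ho => hodd (hn ▸ ho.pow)
    subst hp2
    obtain ⟨c, hc⟩ := H62.PU.psl_involutions_conj (s := a) (t := b)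
      (fun e => by rw [e, orderOf_one] at ha; omega)
      (by rw [← pow_two]; exact orderOf_dvd_iff_pow_eq_one.1 (dvd_of_eq ha))
      (fun e => by rw [e, orderOf_one] at hb; omega)
      (by rw [← pow_two]; exact orderOf_dvd_iff_pow_eq_one.1 (dvd_of_eq hb))
    exact isConj_iff.2 ⟨c, hc⟩

/-- Characteristic two: the upper unitriangular group. -/
theorem psl_sylow_char_two [CharP F 2] (hF : 3 < Fintype.card F) (P : Sylow 2 P2) :
    (∀ p ∈ (P : Subgroup P2), p * p = 1) ∧ 4 ≤ Nat.card (P : Subgroup P2) ∧ ∃ x, Scalar (P : Subgroup P2) x := by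
  classical
  have : Fact (Nat.Prime 2) := ⟨Nat.prime_two⟩
  obtain ⟨n, -, hq⟩ := FiniteField.card F 2
  let u : F → S2 := fun x => ⟨!![1, x; 0, 1], by simp [Matrix.det_fin_two_of]⟩
  have humul : ∀ x y, u x * u y = u (x + y) := fun x y => Subtype.ext (by
    show (!![1, x; 0, 1] : Matrix (Fin 2) (Fin 2) F) * !![1, y; 0, 1] = !![1, x + y; 0, 1]
    ext i j; fin_cases i <;> fin_cases j <;> simp [Matrix.mul_apply, Fin.sum_univ_two, add_comm])
  have hu0 : u 0 = 1 := Subtype.ext (by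
    show (!![1, 0; 0, 1] : Matrix (Fin 2) (Fin 2) F) = 1
    ext i j; fin_cases i <;> fin_cases j <;> simp)
  have huinj : Function.Injective u := fun x y e => by
    simpa [u] using congrArg (fun Z : S2 => (Z : Matrix (Fin 2) (Fin 2) F) 0 1) e
  let U : Subgroup S2 :=
    { carrier := Set.range u
      one_mem' := ⟨0, hu0⟩
      mul_mem' := by rintro _ _ ⟨x, rfl⟩ ⟨y, rfl⟩; exact ⟨x + y, (humul x y).symm⟩
      inv_mem' := by
        rintro _ ⟨x, rfl⟩
        exact ⟨x, (inv_eq_of_mul_eq_one_right (by rw [humul, CharTwo.add_self_eq_zero, hu0])).symm⟩ }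
  have hUc : Nat.card U = Fintype.card F := by
    rw [← Nat.card_eq_fintype_card]
    exact (Nat.card_congr (Equiv.ofInjective u huinj)).symm
  let φ : S2 ≃* P2 := H62.PU.pslEquiv F
  have hU' : Nat.card (U.map φ.toMonoidHom) = Fintype.card F := by
    rw [← hUc]
    exact Subgroup.card_map_of_injective φ.injective
  let P₀ : Sylow 2 P2 := Sylow.ofCard (U.map φ.toMonoidHom) (by
    rw [hU', H62.PU.psl_card F, Nat.factorization_mul (by positivity) (by
      have := Nat.le_self_pow (n := 2) (by norm_num) (Fintype.card F); omega), Finsupp.add_apply, hq,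
      Nat.Prime.factorization_pow Nat.prime_two, Finsupp.single_eq_same]
    rw [Nat.factorization_eq_zero_of_not_dvd, add_zero]
    intro h
    have h2 : 2 ∣ (2 ^ (n : ℕ)) ^ 2 := dvd_pow (dvd_pow_self 2 n.ne_zero) (by norm_num)
    have h3 : 1 ≤ (2 ^ (n : ℕ)) ^ 2 := Nat.one_le_pow _ _ (by positivity)
    omega)
  obtain ⟨ω, hω⟩ := IsCyclic.exists_generator (α := Fˣ)
  let d : Fˣ → S2 := fun a => ⟨!![(a : F), 0; 0, ((a⁻¹ : Fˣ) : F)], by simp [Matrix.det_fin_two_of]⟩
  have hdmul : ∀ a b, d a * d b = d (a * b) := fun a b => Subtype.ext (by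
    show (!![(a : F), 0; 0, ((a⁻¹ : Fˣ) : F)] : Matrix (Fin 2) (Fin 2) F) * !![(b : F), 0; 0, ((b⁻¹ : Fˣ) : F)]
      = !![((a * b : Fˣ) : F), 0; 0, (((a * b)⁻¹ : Fˣ) : F)]
    ext i j; fin_cases i <;> fin_cases j <;> simp [Matrix.mul_apply, Fin.sum_univ_two, mul_comm])
  have hdpow : ∀ k : ℕ, d ω ^ k = d (ω ^ k) := by
    intro k
    induction k with
    | zero =>
      rw [pow_zero, pow_zero]
      exact Subtype.ext (by
        show (1 : Matrix (Fin 2) (Fin 2) F) = !![((1 : Fˣ) : F), 0; 0, (((1 : Fˣ)⁻¹ : Fˣ) : F)]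
        ext i j; fin_cases i <;> fin_cases j <;> simp)
    | succ k ih => rw [pow_succ, ih, hdmul, ← pow_succ]
  have hdu : ∀ (a : Fˣ) x, d a * u x = u ((a : F) ^ 2 * x) * d a := fun a x => Subtype.ext (by
    show (!![(a : F), 0; 0, ((a⁻¹ : Fˣ) : F)] : Matrix (Fin 2) (Fin 2) F) * !![1, x; 0, 1]
      = !![1, (a : F) ^ 2 * x; 0, 1] * !![(a : F), 0; 0, ((a⁻¹ : Fˣ) : F)]
    ext i j; fin_cases i <;> fin_cases j <;> simp [Matrix.mul_apply, Fin.sum_univ_two]
    field_simp)
  have hdconj : ∀ (a : Fˣ) x, d a * u x * (d a)⁻¹ = u ((a : F) ^ 2 * x) := fun a x => by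
    rw [hdu, mul_inv_cancel_right]
  have hS : Scalar U (d ω) := by
    refine ⟨?_, ?_, fun N hN => ?_⟩
    · rintro _ ⟨x, rfl⟩; exact ⟨_, (hdconj ω x).symm⟩
    · rintro _ ⟨x, rfl⟩ _ ⟨y, rfl⟩ hx hy
      have hx0 : x ≠ 0 := fun e => hx (by rw [e, hu0])
      have hy0 : y ≠ 0 := fun e => hy (by rw [e, hu0])
      obtain ⟨s, hs⟩ : IsSquare (y / x) := FiniteField.isSquare_of_char_two (CharP.ringChar_of_prime_eq_zero
        Nat.prime_two CharTwo.two_eq_zero) _
      have hs0 : s ≠ 0 := fun e => by rw [e, mul_zero, div_eq_zero_iff] at hs; tauto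
      obtain ⟨k, hk⟩ := Submonoid.mem_powers_iff _ _ |>.1
        ((IsOfFinOrder.mem_powers_iff_mem_zpowers (isOfFinOrder_of_finite ω)).2 (hω (Units.mk0 s hs0)))
      refine ⟨k, ?_⟩
      rw [hdpow, hk, hdconj, Units.val_mk0, pow_two, ← hs, div_mul_cancel₀ y hx0]
    · obtain ⟨x, hx⟩ := hN (u 1) ⟨1, rfl⟩
      have e := congrArg (fun Z : S2 => (Z : Matrix (Fin 2) (Fin 2) F)) (eq_mul_inv_iff_mul_eq.1 hx)
      simp only [Matrix.SpecialLinearGroup.coe_mul] at e
      have e' : (!![1, x; 0, 1] : Matrix (Fin 2) (Fin 2) F) * (N : Matrix (Fin 2) (Fin 2) F)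
          = (N : Matrix (Fin 2) (Fin 2) F) * !![1, 1; 0, 1] := e
      have hc : (N : Matrix (Fin 2) (Fin 2) F) 1 0 = 0 := by
        have := congrFun (congrFun e' 1) 1
        simpa [Matrix.mul_apply, Fin.sum_univ_two] using this
      have hdet : (N : Matrix (Fin 2) (Fin 2) F) 0 0 * (N : Matrix (Fin 2) (Fin 2) F) 1 1 = 1 := by
        have h := N.2
        rw [Matrix.det_fin_two, hc, mul_zero, sub_zero] at h
        exact h
      let a : Fˣ := ⟨_, _, hdet, by rw [mul_comm]; exact hdet⟩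
      obtain ⟨k, hk⟩ := Submonoid.mem_powers_iff _ _ |>.1
        ((IsOfFinOrder.mem_powers_iff_mem_zpowers (isOfFinOrder_of_finite ω)).2 (hω a))
      refine ⟨k, ?_⟩
      rintro _ ⟨y, rfl⟩
      rw [hdpow, hk, hdconj, mul_inv_eq_iff_eq_mul]
      refine Subtype.ext ?_
      show (N : Matrix (Fin 2) (Fin 2) F) * !![1, y; 0, 1]
        = !![1, (N : Matrix (Fin 2) (Fin 2) F) 0 0 ^ 2 * y; 0, 1] * (N : Matrix (Fin 2) (Fin 2) F)
      ext i j
      fin_cases i <;> fin_cases j <;> simp [Matrix.mul_apply, Fin.sum_univ_two, hc]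
      linear_combination (-(y * (N : Matrix (Fin 2) (Fin 2) F) 0 0)) * hdet
  have hS' : Scalar (U.map φ.toMonoidHom) (φ (d ω)) := by
    refine ⟨?_, ?_, fun N hN => ?_⟩
    · rintro _ ⟨p, hp, rfl⟩; exact ⟨_, hS.norm p hp, by simp⟩
    · rintro _ ⟨a, ha, rfl⟩ _ ⟨b, hb, rfl⟩ h1 h2
      obtain ⟨k, hk⟩ := hS.trans a ha b hb (fun e => h1 (by simp [e])) (fun e => h2 (by simp [e]))
      exact ⟨k, by rw [← hk]; simp⟩
    · obtain ⟨N', rfl⟩ := φ.surjective N
      obtain ⟨k, hk⟩ := hS.powers N' (fun p hp => by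
        obtain ⟨q, hq, e⟩ := hN (φ p) ⟨p, hp, rfl⟩
        have : q = N' * p * N'⁻¹ := φ.injective (by simpa using e)
        exact this ▸ hq)
      refine ⟨k, ?_⟩
      rintro _ ⟨p, hp, rfl⟩
      have := congrArg φ (hk p hp)
      simpa using this
  obtain ⟨l, hl⟩ := MulAction.exists_smul_eq P2 P₀ P
  have hP : (P : Subgroup P2) = (U.map φ.toMonoidHom).map (MulAut.conj l).toMonoidHom := by
    rw [← hl, Sylow.coe_subgroup_smul]
    rfl
  refine ⟨fun p hp => ?_, ?_, _, hP ▸ hS'.conj l⟩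
  · rw [hP] at hp
    obtain ⟨_, ⟨_, ⟨x, rfl⟩, rfl⟩, rfl⟩ := hp
    rw [← map_mul, ← map_mul, humul, CharTwo.add_self_eq_zero, hu0, map_one, map_one]
  · rw [hP, Subgroup.card_map_of_injective (MulAut.conj l).injective, hU']
    omega

/-- Odd characteristic: the image of a quaternion group. -/
theorem psl_sylow_odd (hodd : Odd (Fintype.card F)) (P : Sylow 2 P2) :
    (∃ c ∈ (P : Subgroup P2), 4 ∣ orderOf c ∧
      (∀ d ∈ (P : Subgroup P2), d ∈ zpowers c ∨ (d * d = 1 ∧ d * c * d = c⁻¹)) ∧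
      ∃ d ∈ (P : Subgroup P2), d ∉ zpowers c) ∨
    ((∀ p ∈ (P : Subgroup P2), p * p = 1) ∧ Nat.card (P : Subgroup P2) = 4) := by
  classical
  have : Fact (Nat.Prime 2) := ⟨Nat.prime_two⟩
  let π : S2 →* P2 := QuotientGroup.mk' (Subgroup.center S2)
  obtain ⟨PS, hPS⟩ : ∃ PS : Sylow 2 S2, (PS : Subgroup S2).map π = (P : Subgroup P2) := by
    obtain ⟨PS₀⟩ : Nonempty (Sylow 2 S2) := inferInstance
    obtain ⟨l, hl⟩ := MulAction.exists_smul_eq P2 (PS₀.mapSurjective (f := π) (QuotientGroup.mk'_surjective _)) P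
    obtain ⟨L, rfl⟩ := QuotientGroup.mk'_surjective (Subgroup.center S2) l
    refine ⟨L • PS₀, ?_⟩
    rw [← hl, Sylow.coe_subgroup_smul, Sylow.coe_subgroup_smul]
    ext y
    constructor
    · rintro ⟨_, ⟨x, hx, rfl⟩, rfl⟩
      exact ⟨π x, ⟨x, hx, rfl⟩, by simp [π]⟩
    · rintro ⟨_, ⟨x, hx, rfl⟩, rfl⟩
      exact ⟨L * x * L⁻¹, ⟨x, hx, rfl⟩, by simp [π]⟩
  obtain ⟨k, hk, ⟨e⟩⟩ := H27.QuaternionSylow.sylow_equiv_quaternion hodd PS
  set n := 2 ^ k with hn
  have hn0 : NeZero n := ⟨by positivity⟩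
  let f : QuaternionGroup n →* P2 := π.comp ((PS : Subgroup S2).subtype.comp e.symm.toMonoidHom)
  have hfP : ∀ y, f y ∈ (P : Subgroup P2) := fun y => hPS ▸ ⟨_, (e.symm y).2, rfl⟩
  have hsurj : ∀ p ∈ (P : Subgroup P2), ∃ y, f y = p := fun p hp => by
    rw [← hPS] at hp
    obtain ⟨x, hx, rfl⟩ := hp
    exact ⟨e ⟨x, hx⟩, by simp [f]⟩
  have h2 : (2 : F) ≠ 0 := Cfsg.Agent.Linear.two_ne_zero_of_odd_card hodd
  have hker : ∀ y, f y = 1 → y = 1 ∨ y = QuaternionGroup.a (n : ZMod (2 * n)) := by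
    intro y hy
    rcases (H55.toPSL_two_eq_one_iff ((e.symm y : (PS : Subgroup S2)) : S2)).1 hy with h | h
    · exact Or.inl (e.symm.injective (Subtype.ext (h.trans (by simp))))
    · cases y with
      | a i =>
        have hy2 : (QuaternionGroup.a i : QuaternionGroup n) * QuaternionGroup.a i = 1 := by
          refine e.symm.injective (Subtype.ext ?_)
          rw [map_mul, map_one, Subgroup.coe_mul, h, Subgroup.coe_one, neg_mul_neg, one_mul]
        rw [QuaternionGroup.a_mul_a, QuaternionGroup.one_def, QuaternionGroup.a.injEq] at hy2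
        have hv : (((i.val + i.val : ℕ)) : ZMod (2 * n)) = 0 := by
          rw [Nat.cast_add, ZMod.natCast_zmod_val]; exact hy2
        rw [ZMod.natCast_eq_zero_iff] at hv
        have hlt := ZMod.val_lt i
        have hcases : i.val = 0 ∨ i.val = n := by
          obtain ⟨m, hm⟩ := hv
          have hpos : 0 < n := Nat.pos_of_ne_zero hn0.1
          rcases Nat.lt_or_ge m 2 with hm' | hm'
          · interval_cases m <;> omega
          · exfalso; nlinarith
        rcases hcases with hc | hc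
        · left; rw [QuaternionGroup.one_def, (ZMod.val_eq_zero i).1 hc]
        · right; rw [← ZMod.natCast_zmod_val i, hc]
      | xa i =>
        exfalso
        have h4 := QuaternionGroup.orderOf_xa (n := n) i
        have hy2 : (QuaternionGroup.xa i : QuaternionGroup n) * QuaternionGroup.xa i = 1 := by
          refine e.symm.injective (Subtype.ext ?_)
          rw [map_mul, map_one, Subgroup.coe_mul, h, Subgroup.coe_one, neg_mul_neg, one_mul]
        have := orderOf_dvd_of_pow_eq_one ((pow_two _).trans hy2)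
        rw [h4] at this
        omega
  have hfn : f (QuaternionGroup.a (n : ZMod (2 * n))) = 1 := by
    have hxa : (QuaternionGroup.xa 0 : QuaternionGroup n) ^ 2 = QuaternionGroup.a (n : ZMod (2 * n)) :=
      QuaternionGroup.xa_sq 0
    have hnn : (QuaternionGroup.a (n : ZMod (2 * n)) : QuaternionGroup n) ^ 2 = 1 := by
      rw [← hxa, ← pow_mul]
      exact orderOf_dvd_iff_pow_eq_one.1 (dvd_of_eq (QuaternionGroup.orderOf_xa (n := n) 0))
    set Z : S2 := ((e.symm (QuaternionGroup.a (n : ZMod (2 * n))) : (PS : Subgroup S2)) : S2) with hZ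
    have hZ2 : Z ^ 2 = 1 := by rw [hZ, ← Subgroup.coe_pow, ← map_pow, hnn, map_one, Subgroup.coe_one]
    have := Cfsg.Agent.Linear.eq_one_or_neg_one_of_sq h2 ((pow_two Z).symm.trans hZ2)
    refine (H55.toPSL_two_eq_one_iff Z).2 ?_
    rcases this with h | h
    exacts [Or.inl h, Or.inr h]
  by_cases hk1 : k = 1
  · -- a four-group
    right
    have hsq : ∀ p ∈ (P : Subgroup P2), p * p = 1 := by
      intro p hp
      obtain ⟨y, rfl⟩ := hsurj p hp
      rw [← map_mul]
      cases y with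
      | a i =>
        rw [QuaternionGroup.a_mul_a]
        have : i + i = 0 ∨ i + i = (n : ZMod (2 * n)) := by
          subst hk1
          clear * -
          revert i
          decide
        rcases this with h | h
        · rw [h, ← QuaternionGroup.one_def, map_one]
        · rw [h, hfn]
      | xa i => rw [← pow_two, QuaternionGroup.xa_sq, hfn]
    refine ⟨hsq, ?_⟩
    have h8 : Nat.card (PS : Subgroup S2) = 8 := by
      rw [Nat.card_congr e.toEquiv, Nat.card_eq_fintype_card, QuaternionGroup.card, hn, hk1]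
      norm_num
    have hkc : Nat.card f.ker = 2 := by
      have : (f.ker : Set (QuaternionGroup n)) = {1, QuaternionGroup.a (n : ZMod (2 * n))} := by
        ext y
        refine ⟨fun hy => hker y hy, ?_⟩
        rintro (rfl | rfl)
        exacts [map_one f, hfn]
      rw [← SetLike.coe_sort_coe, Nat.card_coe_set_eq, this, Set.ncard_pair]
      rw [QuaternionGroup.one_def, Ne, QuaternionGroup.a.injEq, eq_comm, ZMod.natCast_eq_zero_iff]
      intro hd
      have := Nat.le_of_dvd (Nat.pos_of_ne_zero hn0.1) hd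
      have := Nat.pos_of_ne_zero hn0.1
      omega
    have hr : f.range = (P : Subgroup P2) := by
      ext p
      exact ⟨by rintro ⟨y, rfl⟩; exact hfP y, fun hp => hsurj p hp⟩
    have := f.ker.card_mul_index
    rw [Subgroup.index_ker, hr, hkc, Nat.card_eq_fintype_card (α := QuaternionGroup n), QuaternionGroup.card, hn, hk1] at this
    omega
  left
  set c := f (QuaternionGroup.a 1) with hc
  have hpow : ∀ j : ℕ, c ^ j = f (QuaternionGroup.a (j : ZMod (2 * n))) := fun j => by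
    rw [hc, ← map_pow, QuaternionGroup.a_one_pow]
  have hmem : ∀ i, f (QuaternionGroup.a i) ∈ zpowers c := fun i => by
    rw [← ZMod.natCast_zmod_val i, ← hpow]
    exact pow_mem (mem_zpowers c) _
  refine ⟨c, hfP _, ?_, fun d hd => ?_, f (QuaternionGroup.xa 0), hfP _, ?_⟩
  · have h4 : 4 ∣ n := ⟨2 ^ (k - 2), by rw [hn, show (4 : ℕ) = 2 ^ 2 by norm_num, ← pow_add]; congr 1; omega⟩
    refine dvd_trans h4 ?_
    have h0 := (hpow (orderOf c)).symm.trans (pow_orderOf_eq_one c)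
    rcases hker _ h0 with h | h
    · rw [QuaternionGroup.one_def, QuaternionGroup.a.injEq, ZMod.natCast_eq_zero_iff] at h
      exact dvd_trans (dvd_mul_left n 2) h
    · rw [QuaternionGroup.a.injEq, ZMod.natCast_eq_natCast_iff'] at h
      have h1 : orderOf c % (2 * n) = n := by rw [h, Nat.mod_eq_of_lt]; have := hn0.1; omega
      rw [← Nat.div_add_mod (orderOf c) (2 * n), h1]
      exact ⟨2 * (orderOf c / (2 * n)) + 1, by ring⟩
  · obtain ⟨y, rfl⟩ := hsurj d hd
    cases y with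
    | a i => exact Or.inl (hmem i)
    | xa i =>
      refine Or.inr ⟨by rw [← map_mul, ← pow_two, QuaternionGroup.xa_sq, hfn], ?_⟩
      rw [hc, ← map_mul, ← map_mul, QuaternionGroup.xa_mul_a, QuaternionGroup.xa_mul_xa]
      refine eq_inv_of_mul_eq_one_left ?_
      rw [← map_mul, QuaternionGroup.a_mul_a, ← hfn]
      congr 2
      ring
  · intro hmem'
    obtain ⟨j, hj⟩ := Submonoid.mem_powers_iff _ _ |>.1
      ((IsOfFinOrder.mem_powers_iff_mem_zpowers (isOfFinOrder_of_finite c)).2 hmem')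
    rw [hpow] at hj
    have h1 : f ((QuaternionGroup.a (j : ZMod (2 * n)))⁻¹ * QuaternionGroup.xa 0) = 1 := by
      rw [map_mul, map_inv, hj, inv_mul_cancel]
    obtain ⟨i, hi⟩ : ∃ i, (QuaternionGroup.a (j : ZMod (2 * n)))⁻¹ * QuaternionGroup.xa 0 = QuaternionGroup.xa i :=
      ⟨_, QuaternionGroup.a_mul_xa _ _⟩
    rw [hi] at h1
    rcases hker _ h1 with h | h
    · rw [QuaternionGroup.one_def] at h
      cases h
    · cases h

end PSL

end Cfsg.Agent.H35.JT
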