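import Cfsg.Agent.H35.JT.Stage

/-!
# The class cocycle of a stage
-/

set_option autoImplicit false

namespace Cfsg.Agent.H35.JT

open Subgroup

variable {G : Type*} [Group G] [Finite G] {t g : G} {S₀ D P : Subgroup G} {K : ℕ}

/-- An element of `C(t)` in a 2-group containing `S₀` lies in `S₀`. -/
theorem Local.mem_of_two_group (L : Local t S₀ D) {Q : Subgroup G} (hQ : IsPGroup 2 Q) (hS : S₀ ≤ Q) {u : G}
    (hu : u ∈ Q) (hut : u ∈ centralizer ({t} : Set G)) : u ∈ S₀ := by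
  have h := L.card_le (hQ.to_le (inf_le_left (b := centralizer ({t} : Set G)))) (IsConj.refl t) inf_le_right
  have he : S₀ = Q ⊓ centralizer ({t} : Set G) :=
    Subgroup.eq_of_le_of_card_ge (le_inf hS L.le_cent) h
  rw [he]
  exact ⟨hu, hut⟩

/-- The data used below: a stage with its power map and the fusion of `t` in `S₀`. -/
structure Ctx (t g : G) (S₀ D P : Subgroup G) (K : ℕ) : Prop where
  loc : Local t S₀ D
  stage : Stage t D P g
  no_conj : ∀ d ∈ D, ¬ IsConj t d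
  coset_conj : ∀ d ∈ D, IsConj t (t * d)
  pow_mem : ∀ p ∈ P, p ^ (2 ^ K) ∈ D
  pow_onto : ∀ d ∈ D, ∃ p ∈ P, p ^ (2 ^ K) = d
  pow_ker : ∀ p ∈ P, p ^ (2 ^ K) = 1 → ∃ q ∈ P, q * q = p

/-- The normaliser of `X = P<t>`. -/
abbrev NX (t : G) (P : Subgroup G) : Subgroup G := normalizer ((P ⊔ zpowers t : Subgroup G) : Set G)

namespace Ctx

variable (C : Ctx t g S₀ D P K)
include C

theorem disp_mem {h : G} (hh : h ∈ NX t P) : t * (h * t * h⁻¹) ∈ P :=
  C.stage.mem_of_isConj C.loc C.no_conj ((Subgroup.mem_normalizer_iff.1 hh t).1 C.stage.t_mem_X)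
    (isConj_iff.2 ⟨h, rfl⟩)

theorem cls_mem {h : G} (hh : h ∈ NX t P) : cls K t h ∈ D := C.pow_mem _ (C.disp_mem hh)

theorem conj_mem {h p : G} (hh : h ∈ NX t P) (hp : p ∈ P) : h * p * h⁻¹ ∈ P :=
  C.stage.conj_mem C.loc C.no_conj C.coset_conj hh hp

theorem conj_memD {h d : G} (hh : h ∈ NX t P) (hd : d ∈ D) : h * d * h⁻¹ ∈ D :=
  C.stage.conj_memD C.loc C.no_conj C.coset_conj hh hd

theorem cls_mul {h k : G} (hh : h ∈ NX t P) (hk : k ∈ NX t P) :
    cls K t (h * k) = cls K t h * (h * cls K t k * h⁻¹) := by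
  have h1 := C.disp_mem hh
  have h2 := C.conj_mem hh (C.disp_mem hk)
  rw [cls, cls, cls, ← conj_pow, ← C.stage.pow_mul_pow C.loc h1 h2]
  congr 1
  rw [show t * (h * t * h⁻¹) * (h * (t * (k * t * k⁻¹)) * h⁻¹)
    = t * h * (t * t) * k * t * k⁻¹ * h⁻¹ by group, C.loc.sq]
  group

theorem cls_of_cent {c : G} (hc : c ∈ centralizer ({t} : Set G)) : cls K t c = 1 := by
  rw [cls, conj_fix_of_mem_cent hc, C.loc.sq, one_pow]

theorem cls_of_mem {x : G} (hx : x ∈ P) : cls K t x = 1 := by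
  rw [cls, C.stage.conj_t C.loc hx, ← mul_assoc, C.loc.sq, one_mul, ← pow_two, ← pow_mul, ← pow_succ']
  have h := C.stage.elem.sq _ (C.pow_mem _ (inv_mem hx))
  rwa [← pow_add, ← two_mul, ← pow_succ'] at h

theorem exists_of_cls_eq_one {h : G} (hh : h ∈ NX t P) (h1 : cls K t h = 1) :
    ∃ x ∈ P, x⁻¹ * h ∈ centralizer ({t} : Set G) := by
  obtain ⟨q, hq, e⟩ := C.pow_ker _ (C.disp_mem hh) h1
  refine ⟨q⁻¹, inv_mem hq, mem_cent_of_conj_fix ?_⟩
  have h2 : h * t * h⁻¹ = t * (q * q) := by rw [e, ← mul_assoc t t, C.loc.sq, one_mul]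
  rw [inv_inv, show q * h * t * (q * h)⁻¹ = q * (h * t * h⁻¹) * q⁻¹ by group, h2,
    show q * (t * (q * q)) * q⁻¹ = q * t * q by group, C.stage.commute_mul C.loc hq, mul_assoc, inv_mul_cancel,
    mul_one]

theorem mem_NX_of_X {x : G} (hx : x ∈ P ⊔ zpowers t) : x ∈ NX t P := Subgroup.le_normalizer hx

theorem g_mem : g ∈ NX t P := C.stage.g_mem_normalizer C.loc

/-- An element of a 2-group containing `X` with trivial class lies in `X`. -/
theorem mem_X_of_cls {Q : Subgroup G} (hQ : IsPGroup 2 Q) (hXQ : P ⊔ zpowers t ≤ Q) {h : G} (hh : h ∈ Q)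
    (hn : h ∈ NX t P) (h1 : cls K t h = 1) : h ∈ P ⊔ zpowers t := by
  obtain ⟨x, hx, hc⟩ := C.exists_of_cls_eq_one hn h1
  have hxX : x ∈ P ⊔ zpowers t := mem_sup_left hx
  have := mul_mem hxX (C.stage.S₀_le_X C.loc (C.loc.mem_of_two_group hQ
    ((C.stage.S₀_le_X C.loc).trans hXQ) (mul_mem (inv_mem (hXQ hxX)) hh) hc))
  simpa using this

theorem cls_gpow_conj {h : G} (hh : h ∈ NX t P) (k : ℕ) :
    cls K t (g ^ k * h * (g ^ k)⁻¹) = g ^ k * cls K t h * (g ^ k)⁻¹ := by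
  have hk : g ^ k ∈ NX t P := Subgroup.pow_mem _ C.g_mem k
  have hc : g ^ k ∈ centralizer ({t} : Set G) := Subgroup.pow_mem _ C.stage.elem.gC k
  rw [C.cls_mul (mul_mem hk hh) (inv_mem hk), C.cls_of_cent (inv_mem hc), C.cls_mul hk hh, C.cls_of_cent hc,
    one_mul]
  group

/-- All classes occur once one does. -/
theorem cls_surjective {h : G} (hh : h ∈ NX t P) (h1 : cls K t h ≠ 1) {d : G} (hd : d ∈ D) :
    ∃ k ∈ NX t P, cls K t k = d := by
  by_cases hd1 : d = 1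
  · exact ⟨1, one_mem _, by rw [C.cls_of_mem (one_mem P), hd1]⟩
  obtain ⟨k, hk⟩ := C.stage.elem.trans _ (C.cls_mem hh) d hd h1 hd1
  exact ⟨g ^ k * h * (g ^ k)⁻¹, mul_mem (mul_mem (Subgroup.pow_mem _ C.g_mem k) hh) (inv_mem (Subgroup.pow_mem _ C.g_mem k)),
    by rw [C.cls_gpow_conj hh, hk]⟩

/-- Some class is non-trivial if `X` is not a Sylow 2-subgroup. -/
theorem exists_cls_ne {Q : Subgroup G} (hQ : IsPGroup 2 Q) (hXQ : P ⊔ zpowers t ≤ Q)
    (hne : P ⊔ zpowers t ≠ Q) : ∃ h ∈ NX t P, cls K t h ≠ 1 := by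
  obtain ⟨h, hh, hh', hn⟩ := exists_normalizing hQ hXQ hne
  exact ⟨h, hn, fun h1 => hh' (C.mem_X_of_cls hQ hXQ hh hn h1)⟩

end Ctx

end Cfsg.Agent.H35.JT
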