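import Cfsg.Agent.H35.JT.Local

/-!
# The conjugates of `t` in its centraliser and the parity of their number
-/

set_option autoImplicit false

namespace Cfsg.Agent.H35.JT

open Subgroup

variable {G : Type*} [Group G] {t : G} {S₀ D : Subgroup G}

/-- The inner involutions of `C(t)` form one class of `C(t)`. -/
theorem Local.card_inner [Finite G] (L : Local t S₀ D) {z : G} (hz : z ∈ D) (hz1 : z ≠ 1) (hz2 : z * z = 1) :
    Nat.card {x : G // Inner t D t x}
      = ((centralizer ({z} : Set G)).subgroupOf (centralizer ({t} : Set G))).index := by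
  set C := centralizer ({t} : Set G) with hC
  have hmem : ∀ c ∈ C, Inner t D t (c * z * c⁻¹) := by
    intro c hc
    have := (L.inner_of_mem hz hz1 hz2).conj c
    rwa [conj_fix_of_mem_cent hc] at this
  rw [index_eq_card]
  refine (Nat.card_eq_of_bijective
    (fun q : C ⧸ (centralizer ({z} : Set G)).subgroupOf C => Quotient.liftOn' q
      (fun c => (⟨c * z * (c : G)⁻¹, hmem c c.2⟩ : {x : G // Inner t D t x})) (fun a b hab => Subtype.ext ?_))
    ⟨?_, ?_⟩).symm
  · have h := comm_of_mem_cent (Subgroup.mem_subgroupOf.1 (QuotientGroup.leftRel_apply.1 hab))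
    simp only [Subgroup.coe_mul, InvMemClass.coe_inv] at h
    calc (a : G) * z * (a : G)⁻¹ = a * (z * ((a : G)⁻¹ * b)) * (b : G)⁻¹ := by group
      _ = a * ((a : G)⁻¹ * b * z) * (b : G)⁻¹ := by rw [h]
      _ = b * z * (b : G)⁻¹ := by group
  · intro a b
    induction a using QuotientGroup.induction_on with
    | H a =>
      induction b using QuotientGroup.induction_on with
      | H b =>
        intro e
        have e' : (a : G) * z * (a : G)⁻¹ = b * z * (b : G)⁻¹ := congrArg Subtype.val e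
        refine QuotientGroup.eq.2 (Subgroup.mem_subgroupOf.2 (mem_centralizer_singleton_iff.2 ?_))
        simp only [Subgroup.coe_mul, InvMemClass.coe_inv]
        calc (a : G)⁻¹ * b * z = (a : G)⁻¹ * (b * z * (b : G)⁻¹) * b := by group
          _ = (a : G)⁻¹ * (a * z * (a : G)⁻¹) * b := by rw [e']
          _ = z * ((a : G)⁻¹ * b) := by group
  · rintro ⟨x, hx⟩
    obtain ⟨h1, h2, c, hc, hcx⟩ := L.inner_self_iff.1 hx
    obtain ⟨d, hd, hdx⟩ := L.one z hz _ hcx hz2 (sq_conj h2 c) hz1 (fun e => h1 (conj_eq_one_iff.1 e))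
    refine ⟨((⟨c⁻¹ * d, mul_mem (inv_mem hc) hd⟩ : C) : C ⧸ _), Subtype.ext ?_⟩
    show c⁻¹ * d * z * (c⁻¹ * d)⁻¹ = x
    calc c⁻¹ * d * z * (c⁻¹ * d)⁻¹ = c⁻¹ * (d * z * d⁻¹) * c := by group
      _ = x := by rw [hdx]; group

theorem Local.odd_inner [Finite G] (L : Local t S₀ D) {z : G} (hz : z ∈ D) (hz1 : z ≠ 1) (hz2 : z * z = 1)
    (hcen : ∀ s ∈ S₀, s * z = z * s) : ¬ 2 ∣ Nat.card {x : G // Inner t D t x} := by
  rw [L.card_inner hz hz1 hz2]
  intro h
  refine L.sylow (h.trans ?_)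
  refine Subgroup.index_dvd_of_le fun s hs => ?_
  exact Subgroup.mem_subgroupOf.2 (mem_centralizer_singleton_iff.2 (hcen s hs))

open Classical in
/-- The number of conjugates of `t` in `C(t)`. -/
theorem Local.card_conj_cent [Finite G] (L : Local t S₀ D) {z : G} (hz : z ∈ D) (hz1 : z ≠ 1)
    (hz2 : z * z = 1) :
    Nat.card {y : G // y ∈ centralizer ({t} : Set G) ∧ IsConj t y}
      = 1 + (if IsConj t z then Nat.card {x : G // Inner t D t x} else 0)
          + (if IsConj t (t * z) then Nat.card {x : G // Inner t D t x} else 0) := by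
  set I : Set G := {x | Inner t D t x} with hI
  set A : Set G := {x | x ∈ I ∧ IsConj t z} with hA
  set B : Set G := (fun x => t * x) '' {x | x ∈ I ∧ IsConj t (t * z)} with hB
  have hinC : ∀ x ∈ I, x ∈ centralizer ({t} : Set G) := by
    intro x hx
    obtain ⟨-, -, c, hc, hcx⟩ := L.inner_self_iff.1 hx
    have := mul_mem (mul_mem (inv_mem hc) (L.le_cent (L.D_le hcx))) hc
    simpa [mul_assoc] using this
  have hIconj : ∀ x ∈ I, IsConj z x ∧ IsConj (t * z) (t * x) := by
    intro x hx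
    refine ⟨L.inner_conj_invol hx hz hz1 hz2, ?_⟩
    obtain ⟨h1, h2, c, hc, hcx⟩ := L.inner_self_iff.1 hx
    obtain ⟨d, hd, hdx⟩ := L.one z hz _ hcx hz2 (sq_conj h2 c) hz1 (fun e => h1 (conj_eq_one_iff.1 e))
    refine isConj_iff.2 ⟨c⁻¹ * d, ?_⟩
    calc c⁻¹ * d * (t * z) * (c⁻¹ * d)⁻¹ = c⁻¹ * ((d * t * d⁻¹) * (d * z * d⁻¹)) * c := by group
      _ = c⁻¹ * (t * (c * x * c⁻¹)) * c := by rw [hdx, conj_fix_of_mem_cent hd]
      _ = (c⁻¹ * t * c) * x := by group
      _ = t * x := by
        rw [show c⁻¹ * t * c = t by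
          simpa using conj_fix_of_mem_cent (inv_mem hc)]
  have hset : {y : G | y ∈ centralizer ({t} : Set G) ∧ IsConj t y} = insert t (A ∪ B) := by
    ext y
    constructor
    · rintro ⟨hyC, hy⟩
      by_cases hyt : y = t
      · exact Or.inl hyt
      right
      obtain ⟨g, hg⟩ := isConj_iff.1 hy
      have hy2 : y * y = 1 := hg ▸ sq_conj L.sq g
      have hy1 : y ≠ 1 := fun e => L.ne_one (conj_eq_one_iff.1 (hg.trans e))
      by_cases hi : Inner t D t y
      · exact Or.inl ⟨hi, hy.trans (hIconj y hi).1.symm⟩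
      · have hi' : Inner t D t (t * y) := by
          by_contra h
          exact hi ((L.dichotomy_self hyC hy2 hy1 hyt).2 h)
        have he : t * (t * y) = y := by rw [← mul_assoc, L.sq, one_mul]
        refine Or.inr ⟨t * y, ⟨hi', ?_⟩, he⟩
        have := (hIconj _ hi').2
        rw [he] at this
        exact hy.trans this.symm
    · rintro (rfl | ⟨hi, hc⟩ | ⟨x, ⟨hi, hc⟩, rfl⟩)
      · exact ⟨L.t_mem_cent, IsConj.refl _⟩
      · exact ⟨hinC y hi, hc.trans (hIconj y hi).1⟩
      · exact ⟨mul_mem L.t_mem_cent (hinC x hi), hc.trans (hIconj x hi).2⟩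
  have htI : t ∉ I := by
    intro h
    obtain ⟨-, -, c, hc, hcx⟩ := L.inner_self_iff.1 h
    rw [conj_fix_of_mem_cent hc] at hcx
    exact L.not_mem hcx
  have htA : t ∉ A ∪ B := by
    rintro (⟨h, -⟩ | ⟨x, ⟨hx, -⟩, he⟩)
    · exact htI h
    · exact (L.inner_self_iff.1 hx).1 (mul_eq_left.1 he)
  have hdisj : Disjoint A B := by
    rw [Set.disjoint_left]
    rintro _ ⟨ha, -⟩ ⟨x, ⟨hx, -⟩, rfl⟩
    have h1 := L.inner_self_iff.1 ha
    have hne : t * x ≠ t := fun e => (L.inner_self_iff.1 hx).1 (mul_eq_left.1 e)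
    refine (L.dichotomy_self (mul_mem L.t_mem_cent (hinC x hx)) h1.2.1 h1.1 hne).1 ha ?_
    rw [← mul_assoc, L.sq, one_mul]
    exact hx
  have hif : ∀ p : Prop, ({x : G | x ∈ I ∧ p} : Set G).ncard
      = if p then Nat.card {x : G // Inner t D t x} else 0 := by
    intro p
    by_cases hp : p
    · rw [if_pos hp, show ({x : G | x ∈ I ∧ p} : Set G) = I by ext; simp [hp]]
      exact (Nat.card_coe_set_eq I).symm
    · rw [if_neg hp, show ({x : G | x ∈ I ∧ p} : Set G) = ∅ by ext; simp [hp], Set.ncard_empty]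
  rw [show Nat.card {y : G // y ∈ centralizer ({t} : Set G) ∧ IsConj t y}
      = ({y : G | y ∈ centralizer ({t} : Set G) ∧ IsConj t y} : Set G).ncard from Nat.card_coe_set_eq _, hset,
    Set.ncard_insert_of_notMem htA (Set.toFinite _), Set.ncard_union_eq hdisj (Set.toFinite _) (Set.toFinite _),
    hB, Set.ncard_image_of_injective _ (mul_right_injective t), hA, hif, hif]
  ring

/-- `S₀` is a Sylow 2-subgroup of `G` exactly when the number of conjugates of `t` is odd. -/
theorem Local.index_parity [Finite G] (L : Local t S₀ D) :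
    2 ∣ S₀.index ↔ 2 ∣ (centralizer ({t} : Set G)).index := by
  rw [← Subgroup.relIndex_mul_index L.le_cent, Nat.prime_two.dvd_mul]
  exact or_iff_right L.sylow

/-- Exactly one of `z` and `tz` is a conjugate of `t` if `S₀` is not a Sylow 2-subgroup, and otherwise both or
none. -/
theorem Local.fusion_parity [Finite G] (L : Local t S₀ D) (hno : ∀ H : Subgroup G, H.index ≠ 2) {z : G}
    (hz : z ∈ D) (hz1 : z ≠ 1) (hz2 : z * z = 1) (hcen : ∀ s ∈ S₀, s * z = z * s) :
    (2 ∣ S₀.index → (IsConj t z ↔ ¬ IsConj t (t * z))) ∧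
      (¬ 2 ∣ S₀.index → (IsConj t z ↔ IsConj t (t * z))) := by
  classical
  have h := index_mod_four hno L.sq
  rw [L.card_conj_cent hz hz1 hz2] at h
  have hX := L.odd_inner hz hz1 hz2 hcen
  have hp := L.index_parity
  by_cases h1 : IsConj t z <;> by_cases h2 : IsConj t (t * z) <;> simp only [h1, h2, if_true, if_false] at h <;>
    simp only [h1, h2, not_true, not_false_iff, iff_self, iff_false, iff_true, false_iff, true_iff] <;>
    refine ⟨fun h3 => ?_, fun h3 => ?_⟩ <;> first
      | trivial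
      | (rw [hp] at h3; omega)

theorem Local.relIndex_D (L : Local t S₀ D) : D.relIndex S₀ = 2 := by
  rw [Subgroup.relIndex, Subgroup.index_eq_two_iff]
  refine ⟨⟨t, L.mem⟩, fun b => ?_⟩
  simp only [Subgroup.mem_subgroupOf, Subgroup.coe_mul]
  rw [L.comm b.2]
  rcases L.split b b.2 with h | h
  · refine Or.inr ⟨h, fun h' => L.not_mem ?_⟩
    simpa using mul_mem h' (inv_mem h)
  · refine Or.inl ⟨h, fun h' => L.not_mem ?_⟩
    simpa using mul_mem h (inv_mem h')

/-- Neither `z` nor `tz` conjugate to `t` is impossible when `S₀` is a Sylow 2-subgroup. -/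
theorem Local.false_of_isolated [Finite G] (L : Local t S₀ D) (hno : ∀ H : Subgroup G, H.index ≠ 2) {z : G}
    (hz : z ∈ D) (hz1 : z ≠ 1) (hz2 : z * z = 1) (hS : ¬ 2 ∣ S₀.index) (h : ¬ IsConj t z) : False := by
  have : Fact (Nat.Prime 2) := ⟨Nat.prime_two⟩
  refine false_of_avoid hno (L.two.toSylow hS) D L.D_le L.relIndex_D L.invol fun y hy hc => h ?_
  obtain ⟨g, hg⟩ := isConj_iff.1 hc
  have hy2 : y * y = 1 := hg ▸ sq_conj L.sq g
  have hy1 : y ≠ 1 := fun e => L.ne_one (conj_eq_one_iff.1 (hg.trans e))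
  exact hc.trans (L.inner_conj_invol (L.inner_of_mem hy hy1 hy2) hz hz1 hz2).symm

end Cfsg.Agent.H35.JT
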