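import Cfsg.Agent.H35.JT.DihMain

/-!
# A dihedral factor of order at least eight is impossible
-/

set_option autoImplicit false

namespace Cfsg.Agent.H35.JT

open Subgroup

variable {G : Type*} [Group G] [Finite G] {t : G} {S₀ D : Subgroup G} {c : G}

omit [Finite G] in
theorem mem_or_mem_of_relIndex_two {H K : Subgroup G} (h : H.relIndex K = 2) {a b : G} (ha : a ∈ K)
    (hb : b ∈ K) : a * b ∈ H ↔ (a ∈ H ↔ b ∈ H) :=
  Subgroup.mul_mem_iff_of_index_two (H := H.subgroupOf K) h (a := ⟨a, ha⟩) (b := ⟨b, hb⟩)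

/-- A larger 2-group cannot centralise a conjugate of `t`. -/
theorem Local.not_isConj_of_normalizing (L : Local t S₀ D) {P : Subgroup G} (hP : IsPGroup 2 P) (hS : S₀ ≤ P)
    {h y : G} (hh : h ∈ P) (hh' : h ∉ S₀) (hy : h * y = y * h) (hcen : ∀ s ∈ S₀, s * y = y * s) :
    ¬ IsConj t y := by
  intro hc
  have hK : S₀ ⊔ zpowers h ≤ P := sup_le hS (by rw [Subgroup.zpowers_le]; exact hh)
  have hKC : S₀ ⊔ zpowers h ≤ centralizer ({y} : Set G) :=
    sup_le (fun s hs => mem_centralizer_singleton_iff.2 (hcen s hs))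
      (by rw [Subgroup.zpowers_le]; exact mem_centralizer_singleton_iff.2 hy)
  have h1 := L.card_le (hP.to_le hK) hc hKC
  have h2 : S₀ = S₀ ⊔ zpowers h := Subgroup.eq_of_le_of_card_ge le_sup_left h1
  exact hh' (h2 ▸ le_sup_right (a := S₀) (mem_zpowers h))

/-- An extremal conjugate in the coset `hD`. -/
theorem Local.exists_ext (L : Local t S₀ D) (hc : Dih D c) (hno : ∀ H : Subgroup G, H.index ≠ 2) (P : Sylow 2 G)
    (hS : S₀ ≤ (P : Subgroup G)) (h2 : S₀.relIndex (P : Subgroup G) = 2)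
    (hnorm : ∀ s ∈ (P : Subgroup G), ∀ a ∈ D, s * a * s⁻¹ ∈ D) (hnz : ¬ IsConj t (zc c)) {h : G}
    (hh : h ∈ (P : Subgroup G)) (hh' : h ∉ S₀) (hmove : h * t * h⁻¹ = t * zc c) (hsq : h * h ∈ D) :
    ∃ u, L.Ext c u ∧ h⁻¹ * u ∈ D := by
  have hDP : D ≤ (P : Subgroup G) := L.D_le.trans hS
  have hhD : h ∉ D := fun e => hh' (L.D_le e)
  have hconj : ∀ a ∈ D, h⁻¹ * a * h ∈ D := fun a ha => by
    simpa using hnorm h⁻¹ (inv_mem hh) a ha
  let M : Subgroup G :=
    { carrier := {x | x ∈ D ∨ h⁻¹ * x ∈ D}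
      one_mem' := Or.inl (one_mem D)
      mul_mem' := by
        intro x y hx hy
        rcases hx with hx | hx <;> rcases hy with hy | hy
        · exact Or.inl (mul_mem hx hy)
        · refine Or.inr ?_
          rw [show h⁻¹ * (x * y) = h⁻¹ * x * h * (h⁻¹ * y) by group]
          exact mul_mem (hconj x hx) hy
        · exact Or.inr (by rw [← mul_assoc]; exact mul_mem hx hy)
        · refine Or.inl ?_
          rw [show x * y = h * h * (h⁻¹ * (h⁻¹ * x) * h) * (h⁻¹ * y) by group]
          exact mul_mem (mul_mem hsq (hconj _ hx)) hy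
      inv_mem' := by
        intro x hx
        rcases hx with hx | hx
        · exact Or.inl (inv_mem hx)
        · refine Or.inr ?_
          rw [show h⁻¹ * x⁻¹ = h⁻¹ * (h⁻¹ * x)⁻¹ * h * (h * h)⁻¹ by group]
          exact mul_mem (hconj _ (inv_mem hx)) (inv_mem hsq) }
  have hMP : M ≤ (P : Subgroup G) := by
    rintro x (hx | hx)
    · exact hDP hx
    · simpa using mul_mem hh (hDP hx)
  have htM : t ∉ M := by
    rintro (e | e)
    · exact L.not_mem e
    · exact hh' (by simpa using mul_mem L.mem (inv_mem (L.D_le e)))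
  have hMrel : M.relIndex (P : Subgroup G) = 2 := by
    rw [Subgroup.relIndex, Subgroup.index_eq_two_iff]
    refine ⟨⟨t, hS L.mem⟩, fun b => ?_⟩
    simp only [Subgroup.mem_subgroupOf, Subgroup.coe_mul]
    obtain ⟨b, hb⟩ := b
    simp only
    have hor : b * t ∈ M ∨ b ∈ M := by
      by_cases hbS : b ∈ S₀
      · rcases L.split b hbS with e | e
        · exact Or.inr (Or.inl e)
        · exact Or.inl (Or.inl (by rwa [L.comm hbS]))
      · have hbS' : h⁻¹ * b ∈ S₀ := by
          rw [mem_or_mem_of_relIndex_two h2 (inv_mem hh) hb]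
          exact iff_of_false (fun e => hh' (by simpa using inv_mem e)) hbS
        rcases L.split _ hbS' with e | e
        · exact Or.inr (Or.inr e)
        · refine Or.inl (Or.inr ?_)
          rw [← mul_assoc, L.comm hbS']
          exact e
    rcases hor with e | e
    · exact Or.inl ⟨e, fun e' => htM (by simpa using mul_mem (inv_mem e') e)⟩
    · exact Or.inr ⟨e, fun e' => htM (by simpa using mul_mem (inv_mem e) e')⟩
  obtain ⟨g, hgM, hgP⟩ := H48.GTwoFusion.transfer_extremal (fun N _ => hno N) P M hMP hMrel t L.invol S₀ L.two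
    (fun r hr => L.comm hr)
  set u := g * t * g⁻¹ with hu
  have huT : IsConj t u := isConj_iff.2 ⟨g, rfl⟩
  have hu2 : u * u = 1 := L.sq_of_isConj huT
  have huh : h⁻¹ * u ∈ D := hgM.resolve_left fun e =>
    L.not_isConj_D hc.zc_mem hc.zc_ne_one hc.zc_sq hnz e hu2 huT
  have huS : u ∉ S₀ := fun e => hh' (by
    have := mul_mem e (inv_mem (L.D_le huh))
    simpa using this)
  have humove : u * t * u = t * zc c := by
    calc u * t * u = u * t * u⁻¹ := by rw [inv_eq_of_mul_eq_one_right hu2]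
      _ = h * ((h⁻¹ * u) * t * (h⁻¹ * u)⁻¹) * h⁻¹ := by group
      _ = h * t * h⁻¹ := by rw [L.comm (L.D_le huh)]; group
      _ = t * zc c := hmove
  refine ⟨u, ⟨huT, huS, humove, ?_⟩, huh⟩
  -- the centraliser of `u` in `S₀` has index two and does not contain `t`
  set R := S₀.map (MulAut.conj g).toMonoidHom with hR
  have hRP : R ≤ (P : Subgroup G) := by
    rintro _ ⟨r, hr, rfl⟩
    exact hgP r hr
  have hRu : ∀ x ∈ R, u * x * u = x := by
    rintro _ ⟨r, hr, rfl⟩
    show u * (g * r * g⁻¹) * u = g * r * g⁻¹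
    calc u * (g * r * g⁻¹) * u = g * (t * r * t) * g⁻¹ := by rw [hu]; group
      _ = g * r * g⁻¹ := by rw [← L.comm hr, mul_assoc r, L.sq, mul_one]
  set A := R ⊓ S₀ with hA
  have htA : t ∉ A := fun e => hc.zc_ne_one (mul_eq_left.1 ((hRu t e.1).symm.trans humove).symm)
  have hAi : A.relIndex S₀ = 2 := by
    have h1 : Nat.card R = Nat.card S₀ :=
      Subgroup.card_map_of_injective (MulAut.conj g).injective
    have e1 : Nat.card (A.subgroupOf S₀) = Nat.card A :=
      Nat.card_congr (Subgroup.subgroupOfEquivOfLe (inf_le_right)).toEquiv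
    have e2 : Nat.card (A.subgroupOf R) = Nat.card A :=
      Nat.card_congr (Subgroup.subgroupOfEquivOfLe (inf_le_left)).toEquiv
    have c1 := Subgroup.card_mul_index (A.subgroupOf S₀)
    have c2 := Subgroup.card_mul_index (A.subgroupOf R)
    rw [e1] at c1
    rw [e2, h1] at c2
    have h3 : A.relIndex S₀ = A.relIndex R :=
      Nat.eq_of_mul_eq_mul_left (Nat.card_pos (α := A)) (c1.trans c2.symm)
    have h4 : A.relIndex R ≤ 2 := by
      rw [hA, inf_comm, Subgroup.inf_relIndex_right]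
      exact (Subgroup.relIndex_le_of_le_right hRP (by rw [h2]; omega)).trans h2.le
    have h5 : A.relIndex S₀ ≠ 1 := fun e => htA (Subgroup.relIndex_eq_one.1 e L.mem)
    have h6 : A.relIndex S₀ ≠ 0 := fun e => by
      rw [Subgroup.relIndex] at e
      exact Subgroup.index_ne_zero_of_finite e
    omega
  intro s hs
  by_cases hsA : s ∈ A
  · exact Or.inl (hRu s hsA.1)
  · right
    have hts : t * s ∈ A := (mem_or_mem_of_relIndex_two hAi L.mem hs).2 (iff_of_false htA hsA)
    calc u * s * u = (u * t * u) * (u * (t * s) * u) := by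
          rw [show u * t * u * (u * (t * s) * u) = u * t * (u * u) * t * s * u by group, hu2, mul_one,
            show u * t * t * s * u = u * (t * t) * s * u by group, L.sq, mul_one]
      _ = t * (zc c * t) * s := by rw [humove, hRu _ hts.1]; group
      _ = s * zc c := by
        rw [L.comm (L.D_le hc.zc_mem) |>.trans rfl, ← mul_assoc, L.sq, one_mul, L.zc_central hc hs]

/-- **The dihedral case.** -/
theorem Local.dih_false (L : Local t S₀ D) (hc : Dih D c) (hno : ∀ H : Subgroup G, H.index ≠ 2) : False := by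
  have : Fact (Nat.Prime 2) := ⟨Nat.prime_two⟩
  have hz := hc.zc_mem
  have hz1 := hc.zc_ne_one
  have hz2 := hc.zc_sq
  have hcen : ∀ s ∈ S₀, s * zc c = zc c * s := fun s hs => L.zc_central hc hs
  by_cases hS : 2 ∣ S₀.index
  swap
  · exact L.false_of_isolated hno hz hz1 hz2 hS (L.not_isConj_zc_of_sylow hc hS)
  obtain ⟨P, hP⟩ := IsPGroup.exists_le_sylow L.two
  have hne : S₀ ≠ (P : Subgroup G) := fun e => P.not_dvd_index (e ▸ hS)
  -- `t` is conjugate to `t * zc` only
  obtain ⟨h, hh, hh', hhn⟩ := exists_normalizing P.isPGroup' hP hne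
  have hnz : ¬ IsConj t (zc c) :=
    L.not_isConj_of_normalizing P.isPGroup' hP hh hh' (mul_inv_eq_iff_eq_mul.1 (L.normalizer_fix_zc hc hhn)) hcen
  have htz : IsConj t (t * zc c) := by
    by_contra hn
    exact hnz (((L.fusion_parity hno hz hz1 hz2 hcen).1 hS).2 hn)
  -- `S₀` has index two in `P`
  have h2 : S₀.relIndex (P : Subgroup G) = 2 := by
    have hmod := index_mod_four hno L.sq
    rw [L.card_conj_cent hz hz1 hz2, if_neg hnz, if_pos htz] at hmod
    have hX := L.dih_inner_mod_four hc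
    have h4 : ¬ 4 ∣ S₀.index := by
      rw [← Subgroup.relIndex_mul_index L.le_cent]
      intro h4
      have hco : Nat.Coprime 4 (S₀.relIndex (centralizer ({t} : Set G))) :=
        Nat.Coprime.pow_left 2 ((Nat.prime_two.coprime_iff_not_dvd).2 L.sylow)
      have := hco.dvd_of_dvd_mul_left h4
      omega
    have hd : S₀.relIndex (P : Subgroup G) ∣ S₀.index :=
      Dvd.intro _ (Subgroup.relIndex_mul_index hP)
    obtain ⟨k, hk⟩ := IsPGroup.iff_card.1 P.isPGroup'
    have hd' : S₀.relIndex (P : Subgroup G) ∣ 2 ^ k := hk ▸ Subgroup.index_dvd_card _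
    obtain ⟨i, -, hi⟩ := (Nat.dvd_prime_pow Nat.prime_two).1 hd'
    rcases i with - | - | i
    · exact absurd (le_antisymm hP (Subgroup.relIndex_eq_one.1 (by rw [hi, pow_zero]))) hne
    · rw [hi]; rfl
    · exact absurd (Dvd.dvd.trans ⟨2 ^ i, by rw [pow_add, pow_add]; ring⟩ (hi ▸ hd)) h4
  have hnS : ∀ s ∈ (P : Subgroup G), ∀ x ∈ S₀, s * x * s⁻¹ ∈ S₀ := fun s hs x hx =>
    (Subgroup.normal_of_index_eq_two (H := S₀.subgroupOf (P : Subgroup G)) h2).conj_mem ⟨x, hP hx⟩ hx ⟨s, hs⟩
  -- `P` normalises `D`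
  have hnorm : ∀ s ∈ (P : Subgroup G), ∀ a ∈ D, s * a * s⁻¹ ∈ D := by
    have hinv : ∀ s ∈ (P : Subgroup G), ∀ a ∈ D, a * a = 1 → a ≠ 1 → s * a * s⁻¹ ∈ D := by
      intro s hs a ha ha2 ha1
      by_contra hn
      have hb : t * (s * a * s⁻¹) ∈ D := (L.split _ (hnS s hs a (L.D_le ha))).resolve_left hn
      set b := t * (s * a * s⁻¹) with hbdef
      have hconj : IsConj a (t * b) := isConj_iff.2 ⟨s, by rw [hbdef, ← mul_assoc, L.sq, one_mul]⟩
      have haT : ¬ IsConj t a := L.not_isConj_D hz hz1 hz2 hnz ha ha2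
      have hb2 : b * b = 1 := by
        have h1 := sq_conj ha2 s
        have hmem := hnS s hs a (L.D_le ha)
        rw [hbdef, show t * (s * a * s⁻¹) * (t * (s * a * s⁻¹)) = t * (s * a * s⁻¹ * t) * (s * a * s⁻¹) by group,
          L.comm hmem, show t * (t * (s * a * s⁻¹)) * (s * a * s⁻¹) = t * t * (s * a * s⁻¹ * (s * a * s⁻¹)) by
            group, h1, L.sq, one_mul]
      by_cases hb1 : b = 1
      · rw [hb1, mul_one] at hconj
        exact haT hconj.symm
      · obtain ⟨k, hk, hkz⟩ := L.one _ hz _ hb hz2 hb2 hz1 hb1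
        refine haT (htz.trans (IsConj.trans (isConj_iff.2 ⟨k, ?_⟩) hconj.symm))
        calc k * (t * zc c) * k⁻¹ = k * t * k⁻¹ * (k * zc c * k⁻¹) := by group
          _ = t * b := by rw [hkz, conj_fix_of_mem_cent hk]
    intro s hs a ha
    by_cases han : a ∈ zpowers c
    · obtain ⟨x, hx, hxn, y, hy, hyn, rfl⟩ := hc.exists_factor han
      rw [show s * (x * y) * s⁻¹ = s * x * s⁻¹ * (s * y * s⁻¹) by group]
      exact mul_mem (hinv s hs x hx (hc.out hx hxn).1 (hc.out_ne_one hxn))
        (hinv s hs y hy (hc.out hy hyn).1 (hc.out_ne_one hyn))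
    · exact hinv s hs a ha (hc.out ha han).1 (hc.out_ne_one han)
  -- an element of `P` outside `S₀`
  obtain ⟨g, hg, hg'⟩ : ∃ g ∈ (P : Subgroup G), g ∉ S₀ := SetLike.exists_of_lt (lt_of_le_of_ne hP hne)
  have hgmove : g * t * g⁻¹ = t * zc c := by
    have hy := hnS g hg t L.mem
    have hcy : ∀ s ∈ S₀, s * (g * t * g⁻¹) = g * t * g⁻¹ * s := by
      intro s hs
      have hs' : g⁻¹ * s * g ∈ S₀ := by simpa using hnS g⁻¹ (inv_mem hg) s hs
      calc s * (g * t * g⁻¹) = g * (g⁻¹ * s * g * t) * g⁻¹ := by group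
        _ = g * (t * (g⁻¹ * s * g)) * g⁻¹ := by rw [L.comm hs']
        _ = g * t * g⁻¹ * s := by group
    have hT : IsConj t (g * t * g⁻¹) := isConj_iff.2 ⟨g, rfl⟩
    rcases L.split _ hy with e | e
    · exact absurd hT (L.not_isConj_D hz hz1 hz2 hnz e (sq_conj L.sq g))
    · have e' : g * t * g⁻¹ = t * (t * (g * t * g⁻¹)) := by rw [← mul_assoc t t, L.sq, one_mul]
      rcases hc.center_cases e (fun d hd => by
          rw [← mul_assoc d, L.comm (L.D_le hd), mul_assoc t d, hcy d (L.D_le hd), ← mul_assoc]) with h1 | h1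
      · exfalso
        rw [h1, mul_one] at e'
        exact L.not_isConj_of_normalizing P.isPGroup' hP hg hg' (mul_inv_eq_iff_eq_mul.1 e')
          (fun s hs => L.comm hs) (IsConj.refl t)
      · rw [h1] at e'
        exact e'
  have hgS : g * g ∈ S₀ := (mem_or_mem_of_relIndex_two h2 hg hg).2 Iff.rfl
  by_cases hgD : g * g ∈ D
  · -- the quotient is a four-group
    have hg2' : t * g ∉ S₀ := fun e => hg' (by simpa using mul_mem (inv_mem L.mem) e)
    have hmove' : t * g * t * (t * g)⁻¹ = t * zc c := by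
      calc t * g * t * (t * g)⁻¹ = t * (g * t * g⁻¹) * t⁻¹ := by group
        _ = t * t * (zc c * t⁻¹) := by rw [hgmove]; group
        _ = t * zc c := by rw [L.sq, one_mul, L.inv, L.comm (L.D_le hz)]
    have hsq' : t * g * (t * g) ∈ D := by
      rw [show t * g * (t * g) = t * (g * t * g⁻¹) * (g * g) by group, hgmove, ← mul_assoc t t, L.sq, one_mul]
      exact mul_mem hz hgD
    obtain ⟨u, hu, hug⟩ := L.exists_ext hc hno P hP h2 hnorm hnz hg hg' hgmove hgD
    obtain ⟨v, hv, hvg⟩ := L.exists_ext hc hno P hP h2 hnorm hnz (mul_mem (hP L.mem) hg) hg2' hmove' hsq'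
    obtain ⟨u', hu', huu, hu4⟩ := hu.normalise hc hnz htz
    obtain ⟨v', hv', hvv, hv4⟩ := hv.normalise hc hnz htz
    refine L.false_of_ext hc hnz htz hu' hv' hu4 hv4 ?_
    have h1 : g⁻¹ * u' ∈ D := by simpa [mul_assoc] using mul_mem hug huu
    have h3 : (t * g)⁻¹ * v' ∈ D := by simpa [mul_assoc] using mul_mem hvg hvv
    have h5 : t * u' * v' = t * g * (t * g) * (g⁻¹ * (g⁻¹ * u') * g) * ((t * g)⁻¹ * v') := by
      have hcomm := L.comm (L.D_le h1)
      calc t * u' * v' = t * g * ((g⁻¹ * u') * t) * g * ((t * g)⁻¹ * v') := by group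
        _ = t * g * (t * (g⁻¹ * u')) * g * ((t * g)⁻¹ * v') := by rw [hcomm]
        _ = t * g * (t * g) * (g⁻¹ * (g⁻¹ * u') * g) * ((t * g)⁻¹ * v') := by group
    rw [h5]
    exact mul_mem (mul_mem hsq' (by simpa using hnorm g⁻¹ (inv_mem hg) _ h1)) h3
  · -- the quotient is cyclic of order four
    set N := D.subgroupOf (P : Subgroup G) with hN
    have : N.Normal := ⟨fun n hn s => hnorm s s.2 n hn⟩
    have hcard : Nat.card ((P : Subgroup G) ⧸ N) = 2 ^ 2 := by
      rw [← Subgroup.index_eq_card, hN, ← Subgroup.relIndex, ← Subgroup.relIndex_mul_relIndex D S₀ _ L.D_le hP,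
        L.relIndex_D, h2]
      rfl
    letI : CommGroup ((P : Subgroup G) ⧸ N) :=
      { (inferInstance : Group ((P : Subgroup G) ⧸ N)) with
        mul_comm := IsPGroup.commutative_of_card_eq_prime_sq hcard }
    let φ := QuotientGroup.mk' N
    have hz' : ∀ (y : G) (hy : y ∈ (P : Subgroup G)), IsConj t y → φ ⟨y, hy⟩ = φ ⟨t, hP L.mem⟩ := by
      intro y hy hyT
      have hy2 := L.sq_of_isConj hyT
      by_cases hyS : y ∈ S₀
      · rcases L.split y hyS with e | e
        · exact absurd hyT (L.not_isConj_D hz hz1 hz2 hnz e hy2)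
        · refine QuotientGroup.eq.2 ?_
          show y⁻¹ * t ∈ D
          simpa [L.inv] using inv_mem e
      · exfalso
        have hs : g⁻¹ * y ∈ S₀ :=
          (mem_or_mem_of_relIndex_two h2 (inv_mem hg) hy).2
            (iff_of_false (fun e => hg' (by simpa using inv_mem e)) hyS)
        have e : (⟨y, hy⟩ : (P : Subgroup G)) = ⟨g, hg⟩ * ⟨g⁻¹ * y, hP hs⟩ := Subtype.ext (by simp)
        have h1 : φ ⟨y, hy⟩ ^ 2 = 1 := by
          rw [← map_pow, show (⟨y, hy⟩ : (P : Subgroup G)) ^ 2 = 1 from Subtype.ext (by simp [pow_two, hy2]),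
            map_one]
        have h3 : φ ⟨g⁻¹ * y, hP hs⟩ ^ 2 = 1 := by
          rw [← map_pow]
          exact (QuotientGroup.eq_one_iff _).2 (by
            show ((⟨g⁻¹ * y, hP hs⟩ : (P : Subgroup G)) ^ 2 : G) ∈ D
            simpa [pow_two] using L.sq_mem hs)
        rw [e, map_mul, mul_pow, h3, mul_one, ← map_pow] at h1
        have h4 := (QuotientGroup.eq_one_iff _).1 h1
        exact hgD (by simpa [hN, pow_two, Subgroup.mem_subgroupOf] using h4)
    have := transfer_const hno L.sq (P : Subgroup G) P.not_dvd_index (IsPGroup.of_card hcard) φ _ hz'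
    exact L.not_mem ((QuotientGroup.eq_one_iff (N := N) ⟨t, hP L.mem⟩).1 this)

end Cfsg.Agent.H35.JT
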