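import Cfsg.Agent.H35.JT.Dihedral

/-!
# The number of inner involutions is 1 modulo 4 when `D` is dihedral
-/

set_option autoImplicit false

namespace Cfsg.Agent.H35.JT

open Subgroup

variable {G : Type*} [Group G] {t : G} {S₀ D : Subgroup G} {c : G}

theorem Local.zc_central (L : Local t S₀ D) (h : Dih D c) {s : G} (hs : s ∈ S₀) :
    s * zc c = zc c * s := by
  rcases L.split s hs with h1 | h1
  · exact h.zc_comm h1
  · have h2 := h.zc_comm h1
    have ht := L.comm (L.D_le h.zc_mem)
    have : t * (s * zc c) = t * (zc c * s) := by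
      rw [← mul_assoc, h2, ← mul_assoc t, ← ht, mul_assoc]
    exact mul_left_cancel this

theorem Local.sq_mem (L : Local t S₀ D) {y : G} (hy : y ∈ S₀) : y * y ∈ D := by
  rcases L.split y hy with h | h
  · exact mul_mem h h
  · have := mul_mem h h
    rwa [show t * y * (t * y) = t * (y * t) * y by group, L.comm hy,
      show t * (t * y) * y = t * t * (y * y) by group, L.sq, one_mul] at this

/-- A central square of `S₀` is `1` or the central involution of `D`. -/
theorem Local.central_square (L : Local t S₀ D) (h : Dih D c) {x : G} (hc : ∀ s ∈ S₀, s * x = x * s)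
    (hsq : ∃ y ∈ S₀, y * y = x) : x = 1 ∨ x = zc c := by
  obtain ⟨y, hy, rfl⟩ := hsq
  exact h.center_cases (L.sq_mem hy) fun d hd => hc d (L.D_le hd)

theorem Local.normalizer_fix_zc (L : Local t S₀ D) (h : Dih D c) {n : G}
    (hn : n ∈ normalizer (S₀ : Set G)) : n * zc c * n⁻¹ = zc c := by
  have hc : ∀ s ∈ S₀, s * (n * zc c * n⁻¹) = n * zc c * n⁻¹ * s := by
    intro s hs
    have hs' : n⁻¹ * s * n ∈ S₀ := by
      have := (Subgroup.mem_normalizer_iff''.1 hn s).1 hs
      exact this
    calc s * (n * zc c * n⁻¹) = n * (n⁻¹ * s * n * zc c) * n⁻¹ := by group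
      _ = n * (zc c * (n⁻¹ * s * n)) * n⁻¹ := by rw [L.zc_central h hs']
      _ = n * zc c * n⁻¹ * s := by group
  refine (L.central_square h hc ⟨n * c4 c * n⁻¹, ?_, ?_⟩).resolve_left fun e => h.zc_ne_one (conj_eq_one_iff.1 e)
  · exact (Subgroup.mem_normalizer_iff.1 hn _).1 (L.D_le (h.zpowers_le h.c4_mem_zpowers))
  · show n * c4 c * n⁻¹ * (n * c4 c * n⁻¹) = n * (c4 c * c4 c) * n⁻¹
    group

theorem Local.inner_mem_iff [Finite G] (L : Local t S₀ D) {x : G} (hx : x ∈ S₀) :
    Inner t D t x ↔ x ∈ D ∧ x ≠ 1 ∧ x * x = 1 := by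
  refine ⟨fun h => ?_, fun h => L.inner_of_mem h.1 h.2.1 h.2.2⟩
  obtain ⟨h1, h2, c, hc, hcx⟩ := L.inner_self_iff.1 h
  refine ⟨?_, h1, h2⟩
  rcases L.split x hx with hd | hd
  · exact hd
  · exfalso
    have h2' := sq_conj h2 c
    refine L.sep _ hcx _ hd h2' (fun e => h1 (conj_eq_one_iff.1 e)) c⁻¹ (inv_mem hc) ?_
    rw [show t * (t * x) = t * t * x by group, L.sq, one_mul]
    group

open Classical in
theorem Local.dih_inner_mod_four [Finite G] (L : Local t S₀ D) (h : Dih D c) :
    Nat.card {x : G // Inner t D t x} % 4 = 1 := by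
  have : Fact (Nat.Prime 2) := ⟨Nat.prime_two⟩
  set I : Set G := {x | Inner t D t x} with hI
  set P : Set G := I \ (S₀ : Set G) with hP
  obtain ⟨e, he⟩ := IsPGroup.iff_card.1 L.two
  have h8 : 2 ≤ e := by
    have h1 : Nat.card (zpowers c) ∣ Nat.card S₀ := Subgroup.card_dvd_of_le (h.zpowers_le.trans L.D_le)
    rw [Nat.card_zpowers, he] at h1
    have h2 := Nat.le_of_dvd (by positivity) (h.four.trans h1)
    by_contra hlt
    have : 2 ^ e ≤ 2 ^ 1 := Nat.pow_le_pow_right (by omega) (by omega)
    omega
  have hcent : ∀ y ∈ P, Nat.card (S₀ ⊓ centralizer ({y} : Set G) : Subgroup G) ≤ 2 ^ (e - 2) := by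
    rintro y ⟨hy, hyS⟩
    obtain ⟨hy1, hy2, k, hk, hky⟩ := L.inner_self_iff.1 hy
    set A : Subgroup G := S₀ ⊓ centralizer ({y} : Set G) with hA
    have hA2 : IsPGroup 2 A := L.two.to_le inf_le_left
    obtain ⟨a, ha⟩ := IsPGroup.iff_card.1 hA2
    rw [ha]
    refine Nat.pow_le_pow_right (by omega) ?_
    by_contra hlt
    -- `A` has index at most two in `S₀`
    have hyC : y ∈ centralizer ({t} : Set G) := by
      have := mul_mem (mul_mem (inv_mem hk) (L.le_cent (L.D_le hky))) hk
      simpa [mul_assoc] using this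
    have hA_C : A ≤ centralizer ({t} : Set G) := inf_le_left.trans L.le_cent
    let K : Subgroup G :=
      { carrier := {g | g ∈ A ∨ g * y ∈ A}
        one_mem' := Or.inl (one_mem A)
        mul_mem' := by
          intro g g' hg hg'
          have hcy : ∀ {x}, x ∈ A → x * y = y * x := fun hx => comm_of_mem_cent hx.2
          have hyy : ∀ {x}, x ∈ A → y * x * y = x := fun hx => by
            rw [← hcy hx, mul_assoc, hy2, mul_one]
          rcases hg with hg | hg <;> rcases hg' with hg' | hg'
          · exact Or.inl (mul_mem hg hg')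
          · exact Or.inr (by rw [mul_assoc]; exact mul_mem hg hg')
          · refine Or.inr ?_
            have := mul_mem hg (show y * g' * y ∈ A by rw [hyy hg']; exact hg')
            rw [show g * y * (y * g' * y) = g * (y * y) * g' * y by group, hy2, mul_one] at this
            exact this
          · refine Or.inl ?_
            have := mul_mem hg (show y * (g' * y) * y ∈ A by rw [hyy hg']; exact hg')
            rw [show g * y * (y * (g' * y) * y) = g * (y * y) * g' * (y * y) by group, hy2, mul_one,
              mul_one] at this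
            exact this
        inv_mem' := by
          intro g hg
          rcases hg with hg | hg
          · exact Or.inl (inv_mem hg)
          · refine Or.inr ?_
            have h1 := inv_mem hg
            have h2 := comm_of_mem_cent h1.2
            rw [mul_inv_rev] at h1 h2
            have hyi : y⁻¹ = y := inv_eq_of_mul_eq_one_right hy2
            rw [hyi] at h1 h2
            show g⁻¹ * y ∈ A
            have h3 : y * (y * g⁻¹) * y = y * g⁻¹ := by
              rw [mul_assoc y, h2, ← mul_assoc, ← mul_assoc, hy2, one_mul]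
            rw [← mul_assoc, hy2, one_mul] at h3
            rw [h3]
            exact h1 }
    have hAK : A ≤ K := fun g hg => Or.inl hg
    have hyK : y ∈ K := Or.inr (by rw [hy2]; exact one_mem A)
    have hKC : K ≤ centralizer ({t} : Set G) := by
      rintro g (hg | hg)
      · exact hA_C hg
      · simpa using mul_mem (hA_C hg) (inv_mem hyC)
    have hKc : Nat.card K = 2 * Nat.card A := by
      have h1 : A.relIndex K = 2 := by
        rw [Subgroup.relIndex, Subgroup.index_eq_two_iff]
        refine ⟨⟨y, hyK⟩, fun b => ?_⟩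
        simp only [Subgroup.mem_subgroupOf, Subgroup.coe_mul]
        have hyA : y ∉ A := fun h' => hyS h'.1
        rcases b.2 with hb | hb
        · exact Or.inr ⟨hb, fun h' => hyA (by simpa using mul_mem (inv_mem hb) h')⟩
        · exact Or.inl ⟨hb, fun h' => hyA (by simpa using mul_mem (inv_mem h') hb)⟩
      rw [← Subgroup.card_mul_index (A.subgroupOf K), ← Subgroup.relIndex, h1, mul_comm]
      rw [Nat.card_congr (Subgroup.subgroupOfEquivOfLe hAK).toEquiv]
    have hK2 : IsPGroup 2 K := IsPGroup.of_card (n := a + 1) (by rw [hKc, ha, pow_succ, mul_comm])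
    have hKle := L.card_le hK2 (IsConj.refl t) hKC
    have hAS : Nat.card S₀ ≤ Nat.card K := by
      rw [hKc, ha, he, ← pow_succ']
      exact Nat.pow_le_pow_right (by omega) (by omega)
    obtain ⟨r, hr, hrK⟩ := L.exists_conj_le hK2 hKC
    have hsurj : ∀ s ∈ S₀, r⁻¹ * s * r ∈ K := by
      have hmap : K.map (MulAut.conj r).toMonoidHom = S₀ := by
        refine Subgroup.eq_of_le_of_card_ge ?_ ?_
        · rintro _ ⟨x, hx, rfl⟩
          exact hrK x hx
        · rw [Subgroup.card_map_of_injective (MulAut.conj r).injective]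
          exact hAS
      intro s hs
      rw [← hmap] at hs
      obtain ⟨x, hx, rfl⟩ := hs
      simpa [MulAut.conj_apply, mul_assoc] using hx
    -- the image of `y` is a central inner involution, hence the square `zc`
    have hyz : r * y * r⁻¹ = zc c := by
      have hry : r * y * r⁻¹ ∈ S₀ := hrK y hyK
      have hin : Inner t D t (r * y * r⁻¹) := by
        have := Inner.conj hy r
        rwa [conj_fix_of_mem_cent hr] at this
      refine (h.center_cases ((L.inner_mem_iff hry).1 hin).1 fun d hd => ?_).resolve_left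
        ((L.inner_mem_iff hry).1 hin).2.1
      have hKy : ∀ x ∈ K, x * y = y * x := by
        rintro x (hx | hx)
        · exact comm_of_mem_cent hx.2
        · have := comm_of_mem_cent hx.2
          calc x * y = x * y * y * y := by rw [mul_assoc (x * y), hy2, mul_one]
            _ = y * (x * y) * y := by rw [this]
            _ = y * x := by rw [mul_assoc, mul_assoc, hy2, mul_one]
      have h1 := hKy _ (hsurj d (L.D_le hd))
      calc d * (r * y * r⁻¹) = r * (r⁻¹ * d * r * y) * r⁻¹ := by group
        _ = r * (y * (r⁻¹ * d * r)) * r⁻¹ := by rw [h1]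
        _ = r * y * r⁻¹ * d := by group
    have hw := hsurj _ (L.D_le (h.zpowers_le h.c4_mem_zpowers))
    have hw2 : r⁻¹ * c4 c * r * (r⁻¹ * c4 c * r) = y := by
      rw [show r⁻¹ * c4 c * r * (r⁻¹ * c4 c * r) = r⁻¹ * (c4 c * c4 c) * r by group,
        show c4 c * c4 c = zc c from rfl, ← hyz]
      group
    refine hyS ?_
    set w := r⁻¹ * c4 c * r with hwdef
    rw [← hw2]
    rcases hw with hw | hw
    · exact mul_mem hw.1 hw.1
    · have hcy := comm_of_mem_cent hw.2
      have := mul_mem hw.1 hw.1
      rwa [show w * y * (w * y) = w * (y * (w * y)) by group, ← hcy,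
        show w * (w * y * y) = w * w * (y * y) by group, hy2, mul_one] at this
  have hconj : ∀ k ∈ S₀, ∀ y ∈ P, k * y * k⁻¹ ∈ P := by
    rintro k hk y ⟨hy, hyS⟩
    refine ⟨?_, fun hm => hyS ?_⟩
    · have := Inner.conj hy k
      rwa [conj_fix_of_mem_cent (L.le_cent hk)] at this
    · have h' := mul_mem (mul_mem (inv_mem hk) (show k * y * k⁻¹ ∈ S₀ from hm)) hk
      simpa [mul_assoc] using h'
  obtain ⟨q, hq⟩ := H67.TwoSym.two_pow_dvd_card he P hconj hcent h8
  obtain ⟨d₀, hd₀, hn₀⟩ := h.exists_out
  have hinter : I ∩ (S₀ : Set G) = insert (zc c) ((fun x => d₀ * x) '' (zpowers c : Set G)) := by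
    ext x
    constructor
    · rintro ⟨hx, hxS⟩
      obtain ⟨hxD, h1, h2⟩ := (L.inner_mem_iff hxS).1 hx
      by_cases hm : x ∈ zpowers c
      · exact Or.inl ((h.sq_cases hm h2).resolve_left h1)
      · refine Or.inr ⟨d₀ * x, h.comm_c4 (mul_mem hd₀ hxD) ?_, ?_⟩
        · have hx4 := h.out_c4 hxD hm
          have hd4 := h.out_c4 hd₀ hn₀
          have hx4' : x * c4 c = c4 c * zc c * x := by
            conv_rhs => rw [← hx4]
            rw [mul_assoc (x * c4 c), (h.out hxD hm).1, mul_one]
          have hd4' : d₀ * c4 c = c4 c * zc c * d₀ := by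
            conv_rhs => rw [← hd4]
            rw [mul_assoc (d₀ * c4 c), (h.out hd₀ hn₀).1, mul_one]
          calc d₀ * x * c4 c = d₀ * c4 c * zc c * x := by rw [mul_assoc d₀ x, hx4']; group
            _ = c4 c * zc c * (d₀ * zc c) * x := by rw [hd4']; group
            _ = c4 c * zc c * (zc c * d₀) * x := by rw [h.out_zc hd₀ hn₀]
            _ = c4 c * (zc c * zc c) * (d₀ * x) := by group
            _ = c4 c * (d₀ * x) := by rw [h.zc_sq, mul_one]
        · show d₀ * (d₀ * x) = x
          rw [← mul_assoc, (h.out hd₀ hn₀).1, one_mul]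
    · rintro (rfl | ⟨x, hx, rfl⟩)
      · exact ⟨L.inner_of_mem h.zc_mem h.zc_ne_one h.zc_sq, L.D_le h.zc_mem⟩
      · have hn : d₀ * x ∉ zpowers c := fun hm => hn₀ (by simpa using mul_mem hm (inv_mem hx))
        have hD : d₀ * x ∈ D := mul_mem hd₀ (h.zpowers_le hx)
        exact ⟨L.inner_of_mem hD (h.out_ne_one hn) (h.out hD hn).1, L.D_le hD⟩
  have hcard : (I ∩ (S₀ : Set G)).ncard = orderOf c + 1 := by
    rw [hinter, Set.ncard_insert_of_notMem ?_ (Set.toFinite _),
      Set.ncard_image_of_injective _ (mul_right_injective d₀)]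
    · rw [← Nat.card_coe_set_eq, SetLike.coe_sort_coe, Nat.card_zpowers]
    · rintro ⟨x, hx, he'⟩
      have he'' : d₀ * x = zc c := he'
      exact hn₀ (by simpa [← he''] using mul_mem h.zc_mem_zpowers (inv_mem hx))
  have hsum : I.ncard = (I ∩ (S₀ : Set G)).ncard + P.ncard :=
    (Set.ncard_inter_add_ncard_sdiff_eq_ncard I (S₀ : Set G) (Set.toFinite _)).symm
  have hPc : P.ncard = 2 ^ 2 * q := by rw [← hq]; exact (Nat.card_coe_set_eq P).symm
  rw [show Nat.card {x : G // Inner t D t x} = I.ncard from Nat.card_coe_set_eq I, hsum, hcard, hPc]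
  obtain ⟨j, hj⟩ := h.four
  omega

end Cfsg.Agent.H35.JT
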