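import Cfsg.Agent.H35.JT.DihFusion

/-!
# The dihedral case does not occur
-/

set_option autoImplicit false

namespace Cfsg.Agent.H35.JT

open Subgroup

variable {G : Type*} [Group G] [Finite G] {t : G} {S₀ D : Subgroup G} {c : G}

/-- A 2-element outside `S₀` normalising it in a Sylow 2-subgroup. -/
theorem exists_normalizing {P : Subgroup G} (hP : IsPGroup 2 P) {X : Subgroup G} (hX : X ≤ P) (hne : X ≠ P) :
    ∃ h ∈ P, h ∉ X ∧ h ∈ normalizer (X : Set G) := by
  have : Fact (Nat.Prime 2) := ⟨Nat.prime_two⟩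
  have hlt : X.subgroupOf P < ⊤ := lt_top_iff_ne_top.2 fun h =>
    hne (le_antisymm hX (Subgroup.subgroupOf_eq_top.1 h))
  obtain ⟨x, -, hx, hxn⟩ := PGroups.exists_mem_notMem_normalizer hP hlt
  refine ⟨x, x.2, hx, Subgroup.mem_normalizer_iff.2 fun g => ⟨fun hg => ?_, fun hg => ?_⟩⟩
  · exact (Subgroup.mem_normalizer_iff.1 hxn ⟨g, hX hg⟩).1 hg
  · have hgP : g ∈ P := by
      have := mul_mem (mul_mem (inv_mem x.2) (hX hg)) x.2
      simpa [mul_assoc] using this
    exact (Subgroup.mem_normalizer_iff.1 hxn ⟨g, hgP⟩).2 hg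

/-- Burnside: if `S₀` is a Sylow 2-subgroup then `t` is not conjugate to `zc`. -/
theorem Local.not_isConj_zc_of_sylow (L : Local t S₀ D) (h : Dih D c) (hS : ¬ 2 ∣ S₀.index) :
    ¬ IsConj t (zc c) := by
  have : Fact (Nat.Prime 2) := ⟨Nat.prime_two⟩
  intro hc
  obtain ⟨g, hg⟩ := isConj_iff.1 hc
  have hn : ∀ x : G, (∀ s ∈ S₀, s * x = x * s) → S₀ ≤ normalizer ({x} : Set G) := by
    intro x hx s hs
    rw [Subgroup.mem_normalizer_iff_conj_image_eq, Set.image_singleton, Set.singleton_eq_singleton_iff,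
      MulAut.conj_apply, hx s hs]
    group
  obtain ⟨n, hn', he⟩ := Fusion.burnside_fusion_sets (L.two.toSylow hS) (X := {t}) (Y := {zc c})
    (hn t fun s hs => L.comm hs) (hn _ fun s hs => L.zc_central h hs) (g := g) (by simp [hg])
  rw [Set.image_singleton, Set.singleton_eq_singleton_iff] at he
  have h1 := L.normalizer_fix_zc h (n := n) hn'
  rw [← h1] at he
  have : t = zc c := by simpa using he
  exact L.not_mem (this ▸ h.zc_mem)

theorem Local.not_isConj_D (L : Local t S₀ D) {z : G} (hz : z ∈ D) (hz1 : z ≠ 1) (hz2 : z * z = 1)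
    (hnz : ¬ IsConj t z) {a : G} (ha : a ∈ D) (ha2 : a * a = 1) : ¬ IsConj t a := by
  intro hc
  by_cases ha1 : a = 1
  · subst ha1
    obtain ⟨g, hg⟩ := isConj_iff.1 hc
    exact L.ne_one (conj_eq_one_iff.1 hg)
  · exact hnz (hc.trans (L.inner_conj_invol (L.inner_of_mem ha ha1 ha2) hz hz1 hz2).symm)

omit [Finite G] in
theorem Local.sq_of_isConj (L : Local t S₀ D) {u : G} (hu : IsConj t u) : u * u = 1 := by
  obtain ⟨g, rfl⟩ := isConj_iff.1 hu
  exact sq_conj L.sq g

/-- The contradiction from two extremal conjugates. -/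
theorem Local.false_of_pair (L : Local t S₀ D) (h : Dih D c) (hnz : ¬ IsConj t (zc c))
    (htz : IsConj t (t * zc c)) {u v d₀ d : G} (hu : IsConj t u) (hv : IsConj t v)
    (hvt : v * t * v = t * zc c) (hud : u * d * u = d) (hvd : v * d * v = d * zc c)
    (hud₀ : u * d₀ * u = d₀) (hd₀ : d₀ ∈ zpowers c) (hv' : v = u * t * d₀) (hvS : v ∉ S₀) (huS : u ∉ S₀)
    (hd : d ∈ D) (hdn : d ∉ zpowers c) : False := by
  have hz := h.zc_mem
  have hxor : IsConj t (zc c) ↔ ¬ IsConj t (t * zc c) := iff_of_false hnz (not_not.2 htz)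
  have hu2 := L.sq_of_isConj hu
  have hv2 := L.sq_of_isConj hv
  have hd2 := (h.out hd hdn).1
  have hd1 := h.out_ne_one hdn
  have hdS := L.D_le hd
  -- `x = t d` is a conjugate of `t` commuting with `v`
  have hxT : IsConj t (t * d) := by
    obtain ⟨b, hb, hbz⟩ := L.one _ hz _ hd h.zc_sq hd2 h.zc_ne_one hd1
    refine htz.trans (isConj_iff.2 ⟨b, ?_⟩)
    calc b * (t * zc c) * b⁻¹ = b * t * b⁻¹ * (b * zc c * b⁻¹) := by group
      _ = t * d := by rw [hbz, conj_fix_of_mem_cent hb]
  have hx2 : t * d * (t * d) = 1 := L.sq_tmul hdS hd2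
  have hxS : t * d ∈ S₀ := mul_mem L.mem hdS
  have hxv : t * d * v = v * (t * d) := by
    have e : v * (t * d) * v = t * d := by
      calc v * (t * d) * v = v * t * (v * v) * d * v := by rw [hv2]; group
        _ = (v * t * v) * (v * d * v) := by group
        _ = t * (zc c * d) * zc c := by rw [hvt, hvd]; group
        _ = t * d * (zc c * zc c) := by rw [← h.zc_comm hd]; group
        _ = t * d := by rw [h.zc_sq, mul_one]
    calc t * d * v = v * (t * d) * v * v := by rw [e]
      _ = v * (t * d) := by rw [mul_assoc, hv2, mul_one]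
  have hx1 : t * d ≠ 1 := fun e => L.not_mem (by
    rw [mul_eq_one_iff_eq_inv.1 e]; exact inv_mem hd)
  have hvx := (L.partner hz h.zc_ne_one h.zc_sq hxor hv hxv hx2 hx1 (fun e => hvS (e ▸ hxS))).1 hxT
  -- `y = d₀ d` is not a conjugate of `t` and commutes with `u`
  have hyn : d₀ * d ∉ zpowers c := fun hm => hdn (by simpa using mul_mem (inv_mem hd₀) hm)
  have hyD : d₀ * d ∈ D := mul_mem (h.zpowers_le hd₀) hd
  have hy2 := (h.out hyD hyn).1
  have hy1 := h.out_ne_one hyn
  have hyu : d₀ * d * u = u * (d₀ * d) := by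
    have e : u * (d₀ * d) * u = d₀ * d := by
      calc u * (d₀ * d) * u = u * d₀ * (u * u) * d * u := by rw [hu2]; group
        _ = (u * d₀ * u) * (u * d * u) := by group
        _ = d₀ * d := by rw [hud₀, hud]
    calc d₀ * d * u = u * (d₀ * d) * u * u := by rw [e]
      _ = u * (d₀ * d) := by rw [mul_assoc, hu2, mul_one]
  have huy : IsConj t (u * (d₀ * d)) := by
    by_contra hn
    exact L.not_isConj_D hz h.zc_ne_one h.zc_sq hnz hyD hy2
      ((L.partner hz h.zc_ne_one h.zc_sq hxor hu hyu hy2 hy1 (fun e => huS (e ▸ L.D_le hyD))).2 hn)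
  refine hvx ?_
  have hd₀S := L.D_le (h.zpowers_le hd₀)
  rw [hv', show u * t * d₀ * (t * d) = u * t * (d₀ * t) * d by group, L.comm hd₀S,
    show u * t * (t * d₀) * d = u * (t * t) * (d₀ * d) by group, L.sq, mul_one]
  exact huy

/-- An extremal conjugate of `t` outside `S₀`. -/
structure Local.Ext (_L : Local t S₀ D) (c u : G) : Prop where
  conj : IsConj t u
  notMem : u ∉ S₀
  move : u * t * u = t * zc c
  small : ∀ s ∈ S₀, u * s * u = s ∨ u * s * u = s * zc c

theorem Local.Ext.fix_zc {L : Local t S₀ D} {u : G} (hu : L.Ext c u) (h : Dih D c) :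
    u * zc c * u = zc c := by
  rcases hu.small _ (L.D_le h.zc_mem) with e | e
  · exact e
  · exfalso
    rw [h.zc_sq] at e
    have h1 := L.sq_of_isConj hu.conj
    have h2 : u⁻¹ * (u * zc c * u) * u⁻¹ = u⁻¹ * 1 * u⁻¹ := by rw [e]
    rw [show u⁻¹ * (u * zc c * u) * u⁻¹ = zc c by group, mul_one,
      show u⁻¹ * u⁻¹ = (u * u)⁻¹ by group, h1, inv_one] at h2
    exact h.zc_ne_one h2

/-- One may assume that the extremal conjugate centralises `c4`. -/
theorem Local.Ext.normalise {L : Local t S₀ D} {u : G} (hu : L.Ext c u) (h : Dih D c)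
    (hnz : ¬ IsConj t (zc c)) (htz : IsConj t (t * zc c)) :
    ∃ u', L.Ext c u' ∧ u⁻¹ * u' ∈ D ∧ u' * c4 c * u' = c4 c := by
  have hu2 := L.sq_of_isConj hu.conj
  have hz := h.zc_mem
  have hc4D := h.zpowers_le h.c4_mem_zpowers
  rcases hu.small _ (L.D_le hc4D) with e | e
  · exact ⟨u, hu, by rw [inv_mul_cancel]; exact one_mem D, e⟩
  have hxy : ∀ x y : G, u * (x * y) * u = (u * x * u) * (u * y * u) := fun x y => by
    rw [show u * x * u * (u * y * u) = u * x * (u * u) * y * u by group, hu2]; group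
  -- then `c` has order four
  have ho : orderOf c / 4 = 1 := by
    by_contra hne
    have h4 := Nat.div_mul_cancel h.four
    have hpos := h.pos
    obtain ⟨j, hj⟩ | ⟨j, hj⟩ := Nat.even_or_odd (orderOf c / 4)
    · -- `c4` is a square
      have hx : c ^ j ∈ S₀ := L.D_le (pow_mem h.mem j)
      have hc4 : c4 c = c ^ j * c ^ j := by rw [c4, hj, pow_add]
      have hfix : u * c4 c * u = c4 c := by
        rcases hu.small _ hx with e' | e'
        · rw [hc4, hxy, e']
        · rw [hc4, hxy, e', show c ^ j * zc c * (c ^ j * zc c) = c ^ j * (zc c * c ^ j) * zc c by group,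
            ← L.zc_central h hx, show c ^ j * (c ^ j * zc c) * zc c = c ^ j * c ^ j * (zc c * zc c) by group,
            h.zc_sq, mul_one]
      rw [hfix] at e
      exact h.zc_ne_one (mul_eq_left.1 e.symm)
    · -- the order of `c` is a power of two
      have : Fact (Nat.Prime 2) := ⟨Nat.prime_two⟩
      obtain ⟨k, hk⟩ := IsPGroup.iff_orderOf.1 L.two ⟨c, L.D_le h.mem⟩
      rw [Subgroup.orderOf_mk] at hk
      have hdvd : orderOf c / 4 ∣ 2 ^ k := hk ▸ Nat.div_dvd_of_dvd h.four
      obtain ⟨i, -, hi⟩ := (Nat.dvd_prime_pow Nat.prime_two).1 hdvd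
      rcases i with - | i
      · exact hne (by simpa using hi)
      · rw [hi, pow_succ] at hj; omega
  have hzp : ∀ a ∈ D, a ∉ zpowers c → ∀ s ∈ S₀, a * s * a = s ∨ a * s * a = s * zc c := by
    intro a ha han
    have hc : c = c4 c := by rw [c4, ho, pow_one]
    have key : ∀ x ∈ zpowers c, a * x * a = x ∨ a * x * a = x * zc c := by
      intro x hx
      obtain ⟨k, rfl⟩ := mem_zpowers_iff.1 hx
      rw [h.inverts ha han (zpow_mem (mem_zpowers c) k)]
      have hzz : (c ^ k)⁻¹ = c ^ k * zc c ^ (-k) := by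
        rw [zc, ← hc, ← zpow_two, ← zpow_mul, ← zpow_add, ← zpow_neg]
        congr 1; ring
      rw [hzz]
      rcases Int.even_or_odd (-k) with ⟨i, hi⟩ | ⟨i, hi⟩ <;> rw [hi]
      · left; rw [← two_mul, zpow_mul, zpow_two, h.zc_sq, one_zpow, mul_one]
      · right; rw [zpow_add, zpow_one, zpow_mul, zpow_two, h.zc_sq, one_zpow, one_mul]
    have keyD : ∀ x ∈ D, a * x * a = x ∨ a * x * a = x * zc c := by
      intro x hx
      by_cases hxn : x ∈ zpowers c
      · exact key x hxn
      · have hxa : x * a ∈ zpowers c := by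
          refine h.comm_c4 (mul_mem hx ha) ?_
          have h1 := h.out_c4 ha han
          have h2 := h.out_c4 hx hxn
          have h1' : a * c4 c = c4 c * zc c * a := by
            conv_rhs => rw [← h1]
            rw [mul_assoc (a * c4 c), (h.out ha han).1, mul_one]
          have h2' : x * c4 c = c4 c * zc c * x := by
            conv_rhs => rw [← h2]
            rw [mul_assoc (x * c4 c), (h.out hx hxn).1, mul_one]
          calc x * a * c4 c = x * c4 c * zc c * a := by rw [mul_assoc x a, h1']; group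
            _ = c4 c * zc c * (x * zc c) * a := by rw [h2']; group
            _ = c4 c * zc c * (zc c * x) * a := by rw [h.zc_comm hx]
            _ = c4 c * (zc c * zc c) * (x * a) := by group
            _ = c4 c * (x * a) := by rw [h.zc_sq, mul_one]
        have haa := (h.out ha han).1
        rcases key _ hxa with e' | e'
        · left
          rw [show a * (x * a) * a = a * x * (a * a) by group, haa, mul_one] at e'
          rw [e', mul_assoc, haa, mul_one]
        · right
          rw [show a * (x * a) * a = a * x * (a * a) by group, haa, mul_one] at e'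
          rw [e', show x * a * zc c * a = x * (a * zc c) * a by group, h.zc_comm ha,
            show x * (zc c * a) * a = x * zc c * (a * a) by group, haa, mul_one]
    intro s hs
    rcases L.split s hs with h1 | h1
    · exact keyD s h1
    · have hs' : s = t * (t * s) := by rw [← mul_assoc, L.sq, one_mul]
      rw [hs']
      rcases keyD _ h1 with e' | e'
      · left
        rw [show a * (t * (t * s)) * a = (a * t) * (t * s) * a by group, L.comm (L.D_le ha),
          show t * a * (t * s) * a = t * (a * (t * s) * a) by group, e']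
      · right
        rw [show a * (t * (t * s)) * a = (a * t) * (t * s) * a by group, L.comm (L.D_le ha),
          show t * a * (t * s) * a = t * (a * (t * s) * a) by group, e', ← mul_assoc]
  -- a reflection fixed by `u`
  obtain ⟨a, ha, han, hua⟩ : ∃ a ∈ D, a ∉ zpowers c ∧ u * a * u = a := by
    obtain ⟨a, ha, han⟩ := h.exists_out
    rcases hu.small a (L.D_le ha) with e' | e'
    · exact ⟨a, ha, han, e'⟩
    · refine ⟨a * c4 c, mul_mem ha hc4D, fun hm => han ?_, ?_⟩
      · simpa using mul_mem hm (inv_mem h.c4_mem_zpowers)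
      · rw [hxy, e', e, show a * zc c * (c4 c * zc c) = a * (zc c * c4 c) * zc c by group,
          comm_zpowers h.zc_mem_zpowers h.c4_mem_zpowers,
          show a * (c4 c * zc c) * zc c = a * c4 c * (zc c * zc c) by group, h.zc_sq, mul_one]
  have ha2 := (h.out ha han).1
  have hau : a * u = u * a := by
    conv_lhs => rw [← hua]
    rw [mul_assoc, hu2, mul_one]
  have hTua : IsConj t (u * a) := by
    by_contra hn
    exact L.not_isConj_D hz h.zc_ne_one h.zc_sq hnz ha ha2 ((L.partner hz h.zc_ne_one h.zc_sq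
      (iff_of_false hnz (not_not.2 htz)) hu.conj hau ha2 (h.out_ne_one han)
      (fun e' => hu.notMem (e' ▸ L.D_le ha))).2 hn)
  have hconj : ∀ x, u * a * x * (u * a) = u * (a * x * a) * u := fun x => by
    calc u * a * x * (u * a) = u * a * x * (a * u) := by rw [hau]
      _ = u * (a * x * a) * u := by group
  refine ⟨u * a, ⟨hTua, fun hm => hu.notMem ?_, ?_, fun s hs => ?_⟩, by simpa using ha, ?_⟩
  · simpa using mul_mem hm (inv_mem (L.D_le ha))
  · rw [hconj, show a * t * a = t by rw [L.comm (L.D_le ha), mul_assoc, ha2, mul_one], hu.move]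
  · rw [hconj]
    rcases hzp a ha han s hs with e' | e' <;> rw [e']
    · exact hu.small s hs
    · rw [hxy, hu.fix_zc h]
      rcases hu.small s hs with e'' | e'' <;> rw [e'']
      · exact Or.inr rfl
      · left; rw [mul_assoc, h.zc_sq, mul_one]
  · rw [hconj, h.out_c4 ha han, hxy, e, hu.fix_zc h, mul_assoc, h.zc_sq, mul_one]

/-- Two extremal conjugates in the two cosets give a contradiction. -/
theorem Local.false_of_ext (L : Local t S₀ D) (h : Dih D c) (hnz : ¬ IsConj t (zc c))
    (htz : IsConj t (t * zc c)) {u v : G} (hu : L.Ext c u) (hv : L.Ext c v) (hu4 : u * c4 c * u = c4 c)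
    (hv4 : v * c4 c * v = c4 c) (hd₀ : t * u * v ∈ D) : False := by
  have hu2 := L.sq_of_isConj hu.conj
  have hv2 := L.sq_of_isConj hv.conj
  set d₀ := t * u * v with hd₀def
  have hv' : v = u * t * d₀ := by
    rw [hd₀def, show u * t * (t * u * v) = u * (t * t) * u * v by group, L.sq,
      show u * 1 * u * v = u * u * v by group, hu2, one_mul]
  have hd₀S := L.D_le hd₀
  -- `d₀` is a rotation
  have hcomm : ∀ {w : G}, w * w = 1 → w * c4 c * w = c4 c → w * c4 c = c4 c * w := by
    intro w hw e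
    conv_rhs => rw [← e]
    rw [mul_assoc _ w w, hw, mul_one]
  have hdc : d₀ ∈ zpowers c := by
    refine h.comm_c4 hd₀ ?_
    have ht4 : t * c4 c = c4 c * t := (L.comm (L.D_le (h.zpowers_le h.c4_mem_zpowers))).symm
    rw [hd₀def, mul_assoc _ v, hcomm hv2 hv4, ← mul_assoc _ (c4 c) v, mul_assoc t u (c4 c),
      hcomm hu2 hu4, ← mul_assoc t (c4 c) u, ht4]
    group
  -- `u` fixes `d₀` and `d₀ ^ 2 = zc`
  have he : u * d₀ * u * d₀ = zc c := by
    have h1 : u * t * d₀ * (u * t * d₀) = 1 := by rw [← hv', hv2]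
    have h2 : t * zc c * (u * d₀ * u) * (t * d₀) = 1 := by
      calc t * zc c * (u * d₀ * u) * (t * d₀) = (u * t * u) * (u * d₀ * u) * (t * d₀) := by rw [hu.move]
        _ = u * t * (u * u) * d₀ * (u * t * d₀) := by group
        _ = 1 := by rw [hu2, mul_one, h1]
    have hm : u * d₀ * u ∈ S₀ := by
      rcases hu.small _ hd₀S with e | e <;> rw [e]
      exacts [hd₀S, mul_mem hd₀S (L.D_le h.zc_mem)]
    rw [show t * zc c * (u * d₀ * u) * (t * d₀) = t * zc c * ((u * d₀ * u) * t) * d₀ by group,
      L.comm hm, show t * zc c * (t * (u * d₀ * u)) * d₀ = t * (zc c * t) * (u * d₀ * u * d₀) by group,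
      L.comm (L.D_le h.zc_mem), ← mul_assoc t t, L.sq, one_mul] at h2
    rw [← inv_eq_of_mul_eq_one_right h2, inv_eq_of_mul_eq_one_right h.zc_sq]
  have hfix : u * d₀ * u = d₀ := by
    rcases hu.small _ hd₀S with e | e
    · exact e
    · exfalso
      rw [e, mul_assoc d₀, comm_zpowers h.zc_mem_zpowers hdc, ← mul_assoc] at he
      have h1 : d₀ * d₀ = 1 := mul_eq_right.1 he
      rcases h.sq_cases hdc h1 with e' | e'
      · rw [e', show u * 1 * u = u * u by group, hu2, one_mul] at e
        exact h.zc_ne_one e.symm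
      · rw [e', hu.fix_zc h, h.zc_sq] at e
        exact h.zc_ne_one e
  rw [hfix] at he
  obtain ⟨d, hd, hdn⟩ := h.exists_out
  have hdd := h.inverts hd hdn hdc
  have hd₀i : d₀⁻¹ = d₀ * zc c :=
    inv_eq_of_mul_eq_one_right (by rw [← mul_assoc, he, h.zc_sq])
  have hinv : v = d₀⁻¹ * t * u := by
    calc v = v⁻¹ := (inv_eq_of_mul_eq_one_right hv2).symm
      _ = (u * t * d₀)⁻¹ := congrArg (fun y => y⁻¹) hv'
      _ = d₀⁻¹ * t⁻¹ * u⁻¹ := by group
      _ = d₀⁻¹ * t * u := by rw [L.inv, inv_eq_of_mul_eq_one_right hu2]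
  -- the action of `v` on `d`
  have hdd0 : d₀ * d * d₀⁻¹ = d * zc c := by
    have hd2 := (h.out hd hdn).1
    rw [show d₀ * d * d₀⁻¹ = d₀ * (d * d₀⁻¹ * d) * (d⁻¹) by group, h.inverts hd hdn (inv_mem hdc), inv_inv,
      he, inv_eq_of_mul_eq_one_right hd2, ← h.zc_comm hd]
  have hvd : v * d * v = u * d * u * zc c := by
    calc v * d * v = u * t * d₀ * d * (d₀⁻¹ * t * u) :=
          congrArg₂ (fun a b => a * d * b) hv' hinv
      _ = u * (t * (d₀ * d * d₀⁻¹)) * t * u := by group
      _ = u * ((d₀ * d * d₀⁻¹) * t) * t * u := by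
          rw [L.comm (mul_mem (mul_mem hd₀S (L.D_le hd)) (inv_mem hd₀S))]
      _ = u * (d₀ * d * d₀⁻¹) * (t * t) * u := by group
      _ = u * (d * zc c) * u := by rw [hdd0, L.sq, mul_one]
      _ = u * d * (u * u) * zc c * u := by rw [hu2]; group
      _ = u * d * u * (u * zc c * u) := by group
      _ = u * d * u * zc c := by rw [hu.fix_zc h]
  rcases hu.small d (L.D_le hd) with e | e
  · exact L.false_of_pair h hnz htz hu.conj hv.conj hv.move e (by rw [hvd, e]) hfix hdc hv' hv.notMem
      hu.notMem hd hdn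
  · have hvd' : v * d * v = d := by rw [hvd, e, mul_assoc, h.zc_sq, mul_one]
    -- the same with `u` and `v` interchanged
    have hz2 := inv_eq_of_mul_eq_one_right h.zc_sq
    have htut : t * u * t = zc c * u := by
      calc t * u * t = t * (u * t * u) * u := by
            rw [show t * (u * t * u) * u = t * u * t * (u * u) by group, hu2, mul_one]
        _ = t * t * zc c * u := by rw [hu.move]; group
        _ = zc c * u := by rw [L.sq, one_mul]
    have hd₀' : t * v * u = zc c * d₀ := by
      calc t * v * u = t * (u * t * d₀) * u := congrArg (fun a => t * a * u) hv'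
        _ = t * u * t * d₀ * u := by group
        _ = zc c * (u * d₀ * u) := by rw [htut]; group
        _ = zc c * d₀ := by rw [hfix]
    refine L.false_of_pair h hnz htz hv.conj hu.conj hu.move hvd' e (d₀ := zc c * d₀) ?_
      (mul_mem h.zc_mem_zpowers hdc) ?_ hu.notMem hv.notMem hd hdn
    · -- `v` fixes `d₀`
      have hvd₀ : v * d₀ * v = d₀ := by
        calc v * d₀ * v = d₀⁻¹ * t * u * d₀ * (u * t * d₀) :=
              congrArg₂ (fun a b => a * d₀ * b) hinv hv'
          _ = d₀⁻¹ * t * (u * d₀ * u) * t * d₀ := by group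
          _ = d₀⁻¹ * (t * d₀) * t * d₀ := by rw [hfix]; group
          _ = d₀⁻¹ * (d₀ * t) * t * d₀ := by rw [L.comm hd₀S]
          _ = t * t * d₀ := by group
          _ = d₀ := by rw [L.sq, one_mul]
      calc v * (zc c * d₀) * v = v * zc c * (v * v) * d₀ * v := by rw [hv2]; group
        _ = (v * zc c * v) * (v * d₀ * v) := by group
        _ = zc c * d₀ := by rw [hv.fix_zc h, hvd₀]
    · rw [← hd₀', show v * t * (t * v * u) = v * (t * t) * v * u by group, L.sq, mul_one, hv2, one_mul]

end Cfsg.Agent.H35.JT
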