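import Cfsg.Agent.H35.JT.Counts

/-!
# Elementary facts on the dihedral factor `D`
-/

set_option autoImplicit false

namespace Cfsg.Agent.H35.JT

open Subgroup

variable {G : Type*} [Group G]

/-- `D` is dihedral of order at least 8, with rotation `c`. -/
structure Dih (D : Subgroup G) (c : G) : Prop where
  mem : c ∈ D
  four : 4 ∣ orderOf c
  pos : 0 < orderOf c
  cases : ∀ d ∈ D, d ∈ zpowers c ∨ (d * d = 1 ∧ d * c * d = c⁻¹)
  exists_out : ∃ d ∈ D, d ∉ zpowers c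

/-- The element of order four in the rotations. -/
noncomputable def c4 (c : G) : G := c ^ (orderOf c / 4)

/-- The central involution. -/
noncomputable def zc (c : G) : G := c4 c * c4 c

variable {D : Subgroup G} {c : G}

theorem comm_zpowers {x y g : G} (hx : x ∈ zpowers g) (hy : y ∈ zpowers g) : x * y = y * x := by
  obtain ⟨i, rfl⟩ := mem_zpowers_iff.1 hx
  obtain ⟨j, rfl⟩ := mem_zpowers_iff.1 hy
  rw [← zpow_add, ← zpow_add, add_comm]

theorem Dih.out (h : Dih D c) {d : G} (hd : d ∈ D) (hn : d ∉ zpowers c) : d * d = 1 ∧ d * c * d = c⁻¹ :=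
  (h.cases d hd).resolve_left hn

theorem Dih.out_ne_one (_h : Dih D c) {d : G} (hn : d ∉ zpowers c) : d ≠ 1 := fun e => hn (e ▸ one_mem _)

theorem Dih.inverts (h : Dih D c) {d : G} (hd : d ∈ D) (hn : d ∉ zpowers c) {x : G} (hx : x ∈ zpowers c) :
    d * x * d = x⁻¹ := by
  obtain ⟨h2, h3⟩ := h.out hd hn
  obtain ⟨k, rfl⟩ := mem_zpowers_iff.1 hx
  have hd' : d⁻¹ = d := inv_eq_of_mul_eq_one_right h2
  have h1 : d * c ^ k * d⁻¹ = (d * c * d⁻¹) ^ k := by
    simpa [MulAut.conj_apply] using map_zpow (MulAut.conj d) c k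
  rw [hd', h3] at h1
  rw [h1, inv_zpow]

theorem Dih.zpowers_le (h : Dih D c) : zpowers c ≤ D := by rw [Subgroup.zpowers_le]; exact h.mem

theorem Dih.c4_mem_zpowers (_h : Dih D c) : c4 c ∈ zpowers c := pow_mem (mem_zpowers c) _

theorem Dih.zc_mem_zpowers (h : Dih D c) : zc c ∈ zpowers c := mul_mem h.c4_mem_zpowers h.c4_mem_zpowers

theorem Dih.zc_mem (h : Dih D c) : zc c ∈ D := h.zpowers_le h.zc_mem_zpowers

theorem Dih.zc_eq (_h : Dih D c) : zc c = c ^ (2 * (orderOf c / 4)) := by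
  rw [zc, c4, ← pow_add, two_mul]

theorem Dih.zc_sq (h : Dih D c) : zc c * zc c = 1 := by
  rw [h.zc_eq, ← pow_add, ← orderOf_dvd_iff_pow_eq_one]
  exact dvd_of_eq (by have := Nat.div_mul_cancel h.four; omega)

theorem Dih.zc_ne_one (h : Dih D c) : zc c ≠ 1 := by
  rw [h.zc_eq]
  intro e
  have h1 := Nat.le_of_dvd ?_ (orderOf_dvd_of_pow_eq_one e)
  all_goals
    have := Nat.div_mul_cancel h.four
    have := h.pos
    omega

theorem Dih.c4_inv (h : Dih D c) : (c4 c)⁻¹ = c4 c * zc c := by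
  refine inv_eq_of_mul_eq_one_right ?_
  rw [← mul_assoc, show c4 c * c4 c = zc c from rfl, h.zc_sq]

theorem Dih.sq_cases (h : Dih D c) {x : G} (hx : x ∈ zpowers c) (h2 : x * x = 1) : x = 1 ∨ x = zc c := by
  obtain ⟨k, rfl⟩ := mem_zpowers_iff.1 hx
  have h1 : ((orderOf c : ℤ)) ∣ k + k := orderOf_dvd_iff_zpow_eq_one.2 (by rw [zpow_add]; exact h2)
  have h4 := Nat.div_mul_cancel h.four
  obtain ⟨j, hj⟩ := h1
  have hk : k = (2 * (orderOf c / 4) : ℕ) * j := by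
    have h4' : ((orderOf c / 4 : ℕ) : ℤ) * 4 = (orderOf c : ℤ) := by exact_mod_cast h4
    rw [← h4'] at hj
    push_cast at hj ⊢
    linarith
  rw [hk, zpow_mul, zpow_natCast, ← h.zc_eq]
  rcases Int.even_or_odd j with ⟨i, rfl⟩ | ⟨i, rfl⟩
  · left
    rw [← two_mul, zpow_mul, zpow_two, h.zc_sq, one_zpow]
  · right
    rw [zpow_add, zpow_one, mul_comm 2 i, zpow_mul', zpow_two, h.zc_sq, one_zpow, one_mul]

/-- Elements of order dividing four among the rotations. -/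
theorem Dih.four_cases (h : Dih D c) {x : G} (hx : x ∈ zpowers c) (h2 : x * x = zc c) :
    x = c4 c ∨ x = c4 c * zc c := by
  have hcomm : x * c4 c = c4 c * x :=
    comm_zpowers hx h.c4_mem_zpowers
  have hy : x * (c4 c)⁻¹ ∈ zpowers c := mul_mem hx (inv_mem h.c4_mem_zpowers)
  have hy2 : x * (c4 c)⁻¹ * (x * (c4 c)⁻¹) = 1 := by
    calc x * (c4 c)⁻¹ * (x * (c4 c)⁻¹) = x * ((c4 c)⁻¹ * (x * c4 c) * (c4 c)⁻¹) * (c4 c)⁻¹ := by group
      _ = x * ((c4 c)⁻¹ * (c4 c * x) * (c4 c)⁻¹) * (c4 c)⁻¹ := by rw [hcomm]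
      _ = x * x * (c4 c * c4 c)⁻¹ := by group
      _ = 1 := by rw [h2, show c4 c * c4 c = zc c from rfl, mul_inv_cancel]
  rcases h.sq_cases hy hy2 with h1 | h1
  · exact Or.inl (mul_inv_eq_one.1 h1)
  · refine Or.inr ?_
    rw [mul_inv_eq_iff_eq_mul] at h1
    rw [h1, comm_zpowers h.zc_mem_zpowers h.c4_mem_zpowers]

theorem Dih.out_c4 (h : Dih D c) {d : G} (hd : d ∈ D) (hn : d ∉ zpowers c) :
    d * c4 c * d = c4 c * zc c := by
  rw [h.inverts hd hn h.c4_mem_zpowers, h.c4_inv]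

theorem Dih.out_zc (h : Dih D c) {d : G} (hd : d ∈ D) (hn : d ∉ zpowers c) : d * zc c = zc c * d := by
  have h1 := h.inverts hd hn h.zc_mem_zpowers
  rw [inv_eq_of_mul_eq_one_right h.zc_sq] at h1
  conv_rhs => rw [← h1]
  rw [mul_assoc (d * zc c), (h.out hd hn).1, mul_one]

theorem Dih.zc_comm (h : Dih D c) {d : G} (hd : d ∈ D) : d * zc c = zc c * d := by
  by_cases hn : d ∈ zpowers c
  · exact comm_zpowers hn h.zc_mem_zpowers
  · exact h.out_zc hd hn

theorem Dih.comm_c4 (h : Dih D c) {d : G} (hd : d ∈ D) (hc : d * c4 c = c4 c * d) : d ∈ zpowers c := by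
  by_contra hn
  have h1 := h.out_c4 hd hn
  rw [hc, mul_assoc, (h.out hd hn).1, mul_one] at h1
  exact h.zc_ne_one (mul_eq_left.1 h1.symm)

/-- The centre of `D`. -/
theorem Dih.center_cases (h : Dih D c) {x : G} (hx : x ∈ D) (hc : ∀ d ∈ D, d * x = x * d) :
    x = 1 ∨ x = zc c := by
  have hm : x ∈ zpowers c := h.comm_c4 hx (hc _ (h.zpowers_le h.c4_mem_zpowers)).symm
  obtain ⟨d, hd, hn⟩ := h.exists_out
  refine h.sq_cases hm ?_
  have h1 := h.inverts hd hn hm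
  rw [hc d hd, mul_assoc, (h.out hd hn).1, mul_one] at h1
  conv_lhs => arg 2; rw [h1]
  rw [mul_inv_cancel]

/-- The rotations are products of two outer involutions. -/
theorem Dih.exists_factor (h : Dih D c) {x : G} (hx : x ∈ zpowers c) :
    ∃ a ∈ D, a ∉ zpowers c ∧ ∃ b ∈ D, b ∉ zpowers c ∧ x = a * b := by
  obtain ⟨d, hd, hn⟩ := h.exists_out
  refine ⟨d, hd, hn, d * x, mul_mem hd (h.zpowers_le hx), fun hm => hn ?_, ?_⟩
  · simpa using mul_mem hm (inv_mem hx)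
  · rw [← mul_assoc, (h.out hd hn).1, one_mul]

end Cfsg.Agent.H35.JT
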