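import Cfsg.Agent.H35.JT.DihMain

/-!
# An elementary abelian factor `D`
-/

set_option autoImplicit false

namespace Cfsg.Agent.H35.JT

open Subgroup

variable {G : Type*} [Group G] {t : G} {S₀ D : Subgroup G}

/-- `D` is elementary abelian of order at least four and `g` is a scalar generator. -/
structure Elem (t : G) (D : Subgroup G) (g : G) : Prop where
  sq : ∀ d ∈ D, d * d = 1
  four : 4 ≤ Nat.card D
  gC : g ∈ centralizer ({t} : Set G)
  gnorm : ∀ d ∈ D, g * d * g⁻¹ ∈ D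
  trans : ∀ a ∈ D, ∀ b ∈ D, a ≠ 1 → b ≠ 1 → ∃ k : ℕ, g ^ k * a * (g ^ k)⁻¹ = b
  semi : ∀ h ∈ centralizer ({t} : Set G), (∀ d ∈ D, h * d * h⁻¹ ∈ D) →
    ∃ k : ℕ, ∀ d ∈ D, h * (g * d * g⁻¹) * h⁻¹ = g ^ k * (h * d * h⁻¹) * (g ^ k)⁻¹

theorem Elem.comm {g : G} (E : Elem t D g) {a b : G} (ha : a ∈ D) (hb : b ∈ D) : a * b = b * a := by
  have h := E.sq _ (mul_mem ha hb)
  have h1 := inv_eq_of_mul_eq_one_right h
  rw [mul_inv_rev, inv_eq_of_mul_eq_one_right (E.sq _ ha), inv_eq_of_mul_eq_one_right (E.sq _ hb)] at h1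
  exact h1.symm

theorem Elem.exists_ne {g : G} (E : Elem t D g) [Finite G] (a : G) : ∃ b ∈ D, b ≠ 1 ∧ b ≠ a := by
  by_contra h
  push Not at h
  have hsub : (D : Set G) ⊆ {1, a} := fun b hb => by
    by_cases hb1 : b = 1
    · exact Or.inl hb1
    · exact Or.inr (h b hb hb1)
  have h1 := Set.ncard_le_ncard hsub (Set.toFinite _)
  rw [← Nat.card_coe_set_eq (D : Set G), SetLike.coe_sort_coe] at h1
  have h2 := Set.ncard_insert_le (1 : G) {a}
  rw [Set.ncard_singleton] at h2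
  have := E.four
  omega

theorem Local.sq_eq_one (L : Local t S₀ D) {g : G} (E : Elem t D g) {s : G} (hs : s ∈ S₀) : s * s = 1 := by
  rcases L.split s hs with h | h
  · exact E.sq s h
  · have h1 := E.sq _ h
    rwa [show t * s * (t * s) = t * (s * t) * s by group, L.comm hs,
      show t * (t * s) * s = t * t * (s * s) by group, L.sq, one_mul] at h1

theorem Local.abelian (L : Local t S₀ D) {g : G} (E : Elem t D g) {a b : G} (ha : a ∈ S₀) (hb : b ∈ S₀) :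
    a * b = b * a := by
  have h1 := inv_eq_of_mul_eq_one_right (L.sq_eq_one E (mul_mem ha hb))
  rw [mul_inv_rev, inv_eq_of_mul_eq_one_right (L.sq_eq_one E ha),
    inv_eq_of_mul_eq_one_right (L.sq_eq_one E hb)] at h1
  exact h1.symm

/-- The positions at a conjugate `x ∈ S₀` of `t`. -/
theorem Local.exists_frame [Finite G] (L : Local t S₀ D) {g : G} (E : Elem t D g) {x : G} (hx : x ∈ S₀)
    (hT : IsConj t x) : ∃ n : G, n * t * n⁻¹ = x ∧
      (∀ y, y ∈ S₀ ↔ n⁻¹ * y * n ∈ S₀) ∧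
      ∀ y ∈ S₀, y ≠ 1 → (Inner t D x y ↔ n⁻¹ * y * n ∈ D) := by
  obtain ⟨k, hk⟩ := isConj_iff.1 hT
  have hle : S₀.map (MulAut.conj k⁻¹).toMonoidHom ≤ centralizer ({t} : Set G) := by
    rintro _ ⟨s, hs, rfl⟩
    refine mem_centralizer_singleton_iff.2 ?_
    show k⁻¹ * s * k⁻¹⁻¹ * t = t * (k⁻¹ * s * k⁻¹⁻¹)
    have h := L.abelian E hs hx
    rw [← hk] at h
    calc k⁻¹ * s * k⁻¹⁻¹ * t = k⁻¹ * (s * (k * t * k⁻¹)) * k := by group
      _ = k⁻¹ * (k * t * k⁻¹ * s) * k := by rw [h]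
      _ = t * (k⁻¹ * s * k⁻¹⁻¹) := by group
  obtain ⟨c, hc, hcS⟩ := L.exists_conj_le (L.two.map _) hle
  have hn : ∀ s ∈ S₀, (k * c⁻¹)⁻¹ * s * (k * c⁻¹) ∈ S₀ := fun s hs => by
    have := hcS _ ⟨s, hs, rfl⟩
    simp only [MulEquiv.coe_toMonoidHom, MulAut.conj_apply, inv_inv] at this
    simpa [mul_assoc] using this
  have hiff : ∀ y, y ∈ S₀ ↔ (k * c⁻¹)⁻¹ * y * (k * c⁻¹) ∈ S₀ := by
    intro y
    refine ⟨hn y, fun hy => ?_⟩
    have hmap : S₀.map (MulAut.conj (k * c⁻¹)⁻¹).toMonoidHom = S₀ := by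
      refine Subgroup.eq_of_le_of_card_ge ?_ (Subgroup.card_map_of_injective (MulAut.conj _).injective).ge
      rintro _ ⟨s, hs, rfl⟩
      simpa [MulAut.conj_apply, mul_assoc] using hn s hs
    rw [← hmap] at hy
    obtain ⟨s, hs, he⟩ := hy
    have : s = y := by
      simp only [MulEquiv.coe_toMonoidHom, MulAut.conj_apply, inv_inv] at he
      exact mul_left_cancel (mul_right_cancel he)
    exact this ▸ hs
  have hnt : k * c⁻¹ * t * (k * c⁻¹)⁻¹ = x := by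
    calc k * c⁻¹ * t * (k * c⁻¹)⁻¹ = k * (c⁻¹ * t * c⁻¹⁻¹) * k⁻¹ := by group
      _ = x := by rw [conj_fix_of_mem_cent (inv_mem hc), hk]
  refine ⟨k * c⁻¹, hnt, hiff, fun y hy hy1 => ⟨fun h => ?_, fun h => ?_⟩⟩
  · have h1 := h.conj (k * c⁻¹)⁻¹
    rw [← hnt] at h1
    simp only [inv_inv] at h1
    rw [show (k * c⁻¹)⁻¹ * (k * c⁻¹ * t * (k * c⁻¹)⁻¹) * (k * c⁻¹) = t by group] at h1
    exact ((L.inner_mem_iff (hn y hy)).1 h1).1
  · have h1 := (L.inner_of_mem h (fun e => hy1 ?_) (E.sq _ h)).conj (k * c⁻¹)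
    · rw [hnt, show k * c⁻¹ * ((k * c⁻¹)⁻¹ * y * (k * c⁻¹)) * (k * c⁻¹)⁻¹ = y by group] at h1
      exact h1
    · have := congrArg (fun w => k * c⁻¹ * w * (k * c⁻¹)⁻¹) e
      simpa [mul_assoc] using this

/-- If `t` is not isolated in a Sylow 2-subgroup `S₀`, then every involution of `S₀` is a conjugate of `t`. -/
theorem Local.all_conj [Finite G] (L : Local t S₀ D) {g : G} (E : Elem t D g)
    (hno : ∀ H : Subgroup G, H.index ≠ 2) (hS : ¬ 2 ∣ S₀.index) {y : G} (hy : y ∈ S₀) (hy1 : y ≠ 1) :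
    IsConj t y := by
  obtain ⟨z, hz, hz1, hz2⟩ := L.exists_invol
  have hcen : ∀ s ∈ S₀, s * z = z * s := fun s hs => L.abelian E hs (L.D_le hz)
  have h1 : IsConj t z := by
    by_contra h
    exact L.false_of_isolated hno hz hz1 hz2 hS h
  have h2 := ((L.fusion_parity hno hz hz1 hz2 hcen).2 hS).1 h1
  rcases L.split y hy with h | h
  · exact h1.trans (L.inner_conj_invol (L.inner_of_mem h hy1 (E.sq y h)) hz hz1 hz2)
  · by_cases hb : t * y = 1
    · rw [eq_inv_of_mul_eq_one_right hb, L.inv]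
    · obtain ⟨k, hk, hkz⟩ := L.one z hz _ h hz2 (E.sq _ h) hz1 hb
      refine h2.trans (isConj_iff.2 ⟨k, ?_⟩)
      calc k * (t * z) * k⁻¹ = k * t * k⁻¹ * (k * z * k⁻¹) := by group
        _ = y := by rw [hkz, conj_fix_of_mem_cent hk, ← mul_assoc, L.sq, one_mul]

/-- A swap of two elements of an abelian Sylow 2-subgroup is impossible. -/
theorem Local.no_swap [Finite G] (L : Local t S₀ D) {g : G} (E : Elem t D g) (hS : ¬ 2 ∣ S₀.index) {x y h : G}
    (hx : x ∈ S₀) (hy : y ∈ S₀) (hxy : h * x * h⁻¹ = y) (hyx : h * y * h⁻¹ = x) : x = y := by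
  have : Fact (Nat.Prime 2) := ⟨Nat.prime_two⟩
  obtain ⟨a, j, hj, ho⟩ := Nat.exists_eq_two_pow_mul_odd (orderOf_pos h).ne'
  have hpow : ∀ q : ℕ, h ^ (2 * q + 1) * x * (h ^ (2 * q + 1))⁻¹ = y ∧
      h ^ (2 * q + 1) * y * (h ^ (2 * q + 1))⁻¹ = x := by
    intro q
    induction q with
    | zero =>
      rw [Nat.mul_zero, Nat.zero_add, pow_one]
      exact ⟨hxy, hyx⟩
    | succ q ih =>
      have hstep : ∀ w, h ^ (2 * (q + 1) + 1) * w * (h ^ (2 * (q + 1) + 1))⁻¹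
          = h * (h * (h ^ (2 * q + 1) * w * (h ^ (2 * q + 1))⁻¹) * h⁻¹) * h⁻¹ := fun w => by
        rw [show 2 * (q + 1) + 1 = 1 + (1 + (2 * q + 1)) by omega, pow_add, pow_add, pow_one]
        group
      rw [hstep, hstep, ih.1, ih.2, hyx, hxy]
      exact ⟨rfl, hyx⟩
  obtain ⟨q, rfl⟩ := hj
  obtain ⟨h1, h2⟩ := hpow q
  set w := h ^ (2 * q + 1) with hw
  have hw2 : IsPGroup 2 (zpowers w) := by
    obtain ⟨i, -, hi⟩ := (Nat.dvd_prime_pow Nat.prime_two).1 (orderOf_dvd_of_pow_eq_one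
      (show w ^ (2 ^ a) = 1 by rw [hw, ← pow_mul, mul_comm, ← ho, pow_orderOf_eq_one]))
    exact IsPGroup.of_card (n := i) (by rw [Nat.card_zpowers, hi])
  set Q := closure ({x, y} : Set G) with hQ
  have hQS : Q ≤ S₀ := (closure_le _).2 (by
    rintro u (rfl | rfl)
    exacts [hx, hy])
  have hwQ : zpowers w ≤ normalizer (Q : Set G) := by
    rw [Subgroup.zpowers_le, Subgroup.mem_normalizer_iff_map_conj_eq, hQ, MonoidHom.map_closure]
    congr 1
    rw [MonoidHom.coe_coe, Set.image_pair, MulAut.conj_apply, MulAut.conj_apply, h1, h2, Set.pair_comm]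
  obtain ⟨P, hP⟩ := IsPGroup.exists_le_sylow (hw2.to_sup_of_normal_right' (L.two.to_le hQS) hwQ)
  obtain ⟨k, hk⟩ := MulAction.exists_smul_eq G P (L.two.toSylow hS)
  have hmem : ∀ u ∈ zpowers w ⊔ Q, k * u * k⁻¹ ∈ S₀ := fun u hu => by
    have h' : k * u * k⁻¹ ∈ ((k • P : Sylow 2 G) : Subgroup G) := by
      rw [Sylow.coe_subgroup_smul]
      exact ⟨u, hP hu, rfl⟩
    rwa [hk] at h'
  have hcomm : w * x = x * w := by
    have := L.abelian E (hmem w (mem_sup_left (mem_zpowers w)))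
      (hmem x (mem_sup_right (subset_closure (Or.inl rfl))))
    have e : k * (w * x) * k⁻¹ = k * (x * w) * k⁻¹ := by
      calc k * (w * x) * k⁻¹ = k * w * k⁻¹ * (k * x * k⁻¹) := by group
        _ = k * x * k⁻¹ * (k * w * k⁻¹) := this
        _ = k * (x * w) * k⁻¹ := by group
    exact mul_left_cancel (mul_right_cancel e)
  rw [hcomm] at h1
  simpa using h1

/-- A Sylow 2-subgroup `S₀` has order eight. -/
theorem Local.card_of_sylow [Finite G] (L : Local t S₀ D) {g : G} (E : Elem t D g)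
    (hno : ∀ H : Subgroup G, H.index ≠ 2) (hS : ¬ 2 ∣ S₀.index) : Nat.card D = 4 := by
  classical
  by_contra hne
  have hall : ∀ y ∈ S₀, y ≠ 1 → IsConj t y := fun y hy hy1 => L.all_conj E hno hS hy hy1
  choose n hn using fun x : {x : G // x ∈ S₀ ∧ x ≠ 1} => L.exists_frame E x.2.1 (hall x x.2.1 x.2.2)
  let P : G → G → Prop := fun x y => ∀ (hx : x ∈ S₀ ∧ x ≠ 1), (n ⟨x, hx⟩)⁻¹ * y * n ⟨x, hx⟩ ∈ D
  have hPiff : ∀ {x} (hx : x ∈ S₀ ∧ x ≠ 1) (y : G), P x y ↔ (n ⟨x, hx⟩)⁻¹ * y * n ⟨x, hx⟩ ∈ D :=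
    fun hx y => ⟨fun h => h hx, fun h _ => h⟩
  -- `P x` is a subgroup of index two
  have hmul : ∀ {x}, x ∈ S₀ → x ≠ 1 → ∀ {y y'}, y ∈ S₀ → y' ∈ S₀ → (P x (y * y') ↔ (P x y ↔ P x y')) := by
    intro x hx hx1 y y' hy hy'
    obtain ⟨-, hiff, -⟩ := hn ⟨x, hx, hx1⟩
    set m := n ⟨x, hx, hx1⟩
    rw [hPiff ⟨hx, hx1⟩, hPiff ⟨hx, hx1⟩, hPiff ⟨hx, hx1⟩,
      show m⁻¹ * (y * y') * m = (m⁻¹ * y * m) * (m⁻¹ * y' * m) by group]
    exact Subgroup.mul_mem_iff_of_index_two (H := D.subgroupOf S₀) L.relIndex_D (a := ⟨_, (hiff y).1 hy⟩)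
      (b := ⟨_, (hiff y').1 hy'⟩)
  -- `P x y` and `P y x` are opposite
  have hanti : ∀ {x y}, x ∈ S₀ → x ≠ 1 → y ∈ S₀ → y ≠ 1 → x ≠ y → (P x y ↔ ¬ P y x) := by
    intro x y hx hx1 hy hy1 hxy
    obtain ⟨hm, hiff, -⟩ := hn ⟨x, hx, hx1⟩
    obtain ⟨hm', hiff', -⟩ := hn ⟨y, hy, hy1⟩
    simp only at hm hm'
    rw [hPiff ⟨hx, hx1⟩, hPiff ⟨hy, hy1⟩]
    set m := n ⟨x, hx, hx1⟩
    set m' := n ⟨y, hy, hy1⟩
    have he : m⁻¹ * y * m ≠ t ∧ m⁻¹ * y * m ≠ 1 := by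
      refine ⟨fun e => hxy ?_, fun e => hy1 ?_⟩
      · rw [← hm, ← e]; group
      · have := congrArg (fun w => m * w * m⁻¹) e
        simpa [mul_assoc] using this
    have he' : m'⁻¹ * x * m' ≠ t ∧ m'⁻¹ * x * m' ≠ 1 := by
      refine ⟨fun e => hxy ?_, fun e => hx1 ?_⟩
      · rw [← hm', ← e]; group
      · have := congrArg (fun w => m' * w * m'⁻¹) e
        simpa [mul_assoc] using this
    -- otherwise an element exchanges `x` and `y`
    have key : ∀ c ∈ centralizer ({t} : Set G), c * (m⁻¹ * y * m) * c⁻¹ ≠ m'⁻¹ * x * m' := by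
      intro c hc e
      refine hxy (L.no_swap E hS (h := m' * c * m⁻¹) hx hy ?_ ?_)
      · calc m' * c * m⁻¹ * x * (m' * c * m⁻¹)⁻¹ = m' * c * (m⁻¹ * x * m) * c⁻¹ * m'⁻¹ := by group
          _ = m' * (c * t * c⁻¹) * m'⁻¹ := by rw [← hm]; group
          _ = y := by rw [conj_fix_of_mem_cent hc, hm']
      · calc m' * c * m⁻¹ * y * (m' * c * m⁻¹)⁻¹ = m' * (c * (m⁻¹ * y * m) * c⁻¹) * m'⁻¹ := by group
          _ = x := by rw [e]; group
    constructor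
    · intro h h'
      obtain ⟨c, hc, e⟩ := L.one _ h _ h' (E.sq _ h) (E.sq _ h') he.2 he'.2
      exact key c hc e
    · intro h'
      by_contra h
      have hd := (L.split _ ((hiff y).1 hy)).resolve_left h
      have hd' := (L.split _ ((hiff' x).1 hx)).resolve_left h'
      have hne' : ∀ {w}, w ≠ t → t * w ≠ 1 := fun hw e => hw ((eq_inv_of_mul_eq_one_right e).trans L.inv)
      obtain ⟨c, hc, e⟩ := L.one _ hd _ hd' (E.sq _ hd) (E.sq _ hd') (hne' he.1) (hne' he'.1)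
      refine key c hc (mul_left_cancel (a := t) ?_)
      rw [← e]
      calc t * (c * (m⁻¹ * y * m) * c⁻¹) = c * t * c⁻¹ * (c * (m⁻¹ * y * m) * c⁻¹) := by
            rw [conj_fix_of_mem_cent hc]
        _ = c * (t * (m⁻¹ * y * m)) * c⁻¹ := by group
  -- two elements and their product
  obtain ⟨x, hxD, hx1, -⟩ := E.exists_ne 1
  obtain ⟨y, hyD, hy1, hyx⟩ := E.exists_ne x
  have hx := L.D_le hxD
  have hy := L.D_le hyD
  have hxy1 : x * y ≠ 1 := fun e => hyx (by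
    rw [eq_inv_of_mul_eq_one_right e, inv_eq_of_mul_eq_one_right (E.sq x hxD)])
  have hxy := mul_mem hx hy
  have hrule : ∀ w ∈ S₀, w ≠ 1 → w ≠ x → w ≠ y → w ≠ x * y → (P (x * y) w ↔ ¬ (P x w ↔ P y w)) := by
    intro w hw hw1 hwx hwy hwxy
    have a1 := hanti hxy hxy1 hw hw1 (Ne.symm hwxy)
    have a2 := hanti hx hx1 hw hw1 (Ne.symm hwx)
    have a3 := hanti hy hy1 hw hw1 (Ne.symm hwy)
    rw [hmul hw hw1 hx hy] at a1
    tauto
  -- two elements outside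
  have hsize : 16 ≤ Nat.card S₀ := by
    have h1 := L.relIndex_D
    have h2 := Subgroup.card_mul_index (D.subgroupOf S₀)
    rw [← Subgroup.relIndex, h1, Nat.card_congr (Subgroup.subgroupOfEquivOfLe L.D_le).toEquiv] at h2
    have : Fact (Nat.Prime 2) := ⟨Nat.prime_two⟩
    obtain ⟨k, hk⟩ := IsPGroup.iff_card.1 (L.two.to_le L.D_le)
    have h4 := E.four
    rcases k with - | - | - | k
    · omega
    · omega
    · omega
    · have : 2 ^ (k + 3) = 2 ^ k * 8 := by rw [pow_add]; norm_num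
      have := Nat.one_le_two_pow (n := k)
      nlinarith
  have hexists : ∀ T : Finset G, T.card < 16 → ∃ w ∈ S₀, w ∉ T := by
    intro T hT
    by_contra hc
    push Not at hc
    have h1 := Set.ncard_le_ncard (show (S₀ : Set G) ⊆ ↑T from fun w hw => hc w hw) (Set.toFinite _)
    rw [← Nat.card_coe_set_eq (S₀ : Set G), SetLike.coe_sort_coe, Set.ncard_coe_finset] at h1
    omega
  obtain ⟨w₁, hw₁, hw₁'⟩ := hexists {1, x, y, x * y} (lt_of_le_of_lt (Finset.card_le_four) (by omega))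
  simp only [Finset.mem_insert, Finset.mem_singleton, not_or] at hw₁'
  obtain ⟨w₂, hw₂, hw₂'⟩ := hexists ({1, x, y, x * y} ∪ ({1, x, y, x * y} : Finset G).image (w₁⁻¹ * ·))
    (by
      refine lt_of_le_of_lt (Finset.card_union_le _ _) ?_
      have h1 : ({1, x, y, x * y} : Finset G).card ≤ 4 := Finset.card_le_four
      have h2 := Finset.card_image_le (s := ({1, x, y, x * y} : Finset G)) (f := (w₁⁻¹ * ·))
      omega)
  simp only [Finset.mem_union, Finset.mem_image, Finset.mem_insert, Finset.mem_singleton, not_or, not_exists,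
    not_and] at hw₂'
  obtain ⟨hw₂', hw₂''⟩ := hw₂'
  have hne : ∀ v, v = 1 ∨ v = x ∨ v = y ∨ v = x * y → w₁ * w₂ ≠ v := fun v hv e =>
    hw₂'' v hv (by rw [← e, inv_mul_cancel_left])
  have r1 := hrule w₁ hw₁ hw₁'.1 hw₁'.2.1 hw₁'.2.2.1 hw₁'.2.2.2
  have r2 := hrule w₂ hw₂ hw₂'.1 hw₂'.2.1 hw₂'.2.2.1 hw₂'.2.2.2
  have r3 := hrule (w₁ * w₂) (mul_mem hw₁ hw₂) (hne 1 (by simp)) (hne x (by simp)) (hne y (by simp))
    (hne _ (by simp))
  rw [hmul hxy hxy1 hw₁ hw₂, hmul hx hx1 hw₁ hw₂, hmul hy hy1 hw₁ hw₂] at r3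
  tauto

/-- If `S₀` is not a Sylow 2-subgroup, the conjugates of `t` in `S₀` form the coset `tD`. -/
theorem Local.conj_iff_coset [Finite G] (L : Local t S₀ D) {g : G} (E : Elem t D g)
    (hno : ∀ H : Subgroup G, H.index ≠ 2) (hS : 2 ∣ S₀.index) :
    (∀ d ∈ D, ¬ IsConj t d) ∧ ∀ d ∈ D, IsConj t (t * d) := by
  obtain ⟨z, hz, hz1, hz2⟩ := L.exists_invol
  have hcen : ∀ s ∈ S₀, s * z = z * s := fun s hs => L.abelian E hs (L.D_le hz)
  have hxor := (L.fusion_parity hno hz hz1 hz2 hcen).1 hS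
  have hnz : ¬ IsConj t z := by
    intro hc
    obtain ⟨n, hn, hiff, hin⟩ := L.exists_frame E (L.D_le hz) hc
    -- `n⁻¹ y n ∈ D` iff `y` is a conjugate of `t`
    have key : ∀ y ∈ S₀, y ≠ 1 → y ≠ z → (n⁻¹ * y * n ∈ D ↔ IsConj t y) := by
      intro y hy hy1 hyz
      rw [← hin y hy hy1]
      have hp := fun {v} => L.partner hz hz1 hz2 hxor (u := z) (x := v) hc
      constructor
      · intro hi
        exact hc.trans (L.inner_conj_invol hi hz hz1 hz2)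
      · intro hy'
        by_contra hni
        have h2 : Inner t D z (z * y) := by
          by_contra h3
          exact hni ((L.dichotomy hc (L.abelian E hy (L.D_le hz)) (L.sq_eq_one E hy) hy1 hyz).2 h3)
        exact (hp (L.abelian E hy (L.D_le hz)) (L.sq_eq_one E hy) hy1 hyz).1 hy'
          (hc.trans (L.inner_conj_invol h2 hz hz1 hz2))
    obtain ⟨a, ha, ha1, haz⟩ := E.exists_ne z
    have haT : IsConj t a := hc.trans (L.inner_conj_invol (L.inner_of_mem ha ha1 (E.sq a ha)) hz hz1 hz2)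
    have hz0 : t ≠ z := fun e => L.not_mem (e ▸ hz)
    have h1 := (key a (L.D_le ha) ha1 haz).2 haT
    have h2 := (key t L.mem L.ne_one hz0).2 (IsConj.refl t)
    have h3 := mul_mem h2 h1
    rw [show n⁻¹ * t * n * (n⁻¹ * a * n) = n⁻¹ * (t * a) * n by group] at h3
    have hta1 : t * a ≠ 1 := fun e => L.not_mem (by rw [mul_eq_one_iff_eq_inv.1 e]; exact inv_mem ha)
    have htaz : t * a ≠ z := fun e => L.not_mem (by
      rw [eq_mul_inv_of_mul_eq e]; exact mul_mem hz (inv_mem ha))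
    have h4 := (key (t * a) (mul_mem L.mem (L.D_le ha)) hta1 htaz).1 h3
    obtain ⟨k, hk, hka⟩ := L.one z hz a ha hz2 (E.sq a ha) hz1 ha1
    refine (hxor.1 hc) (h4.trans (isConj_iff.2 ⟨k⁻¹, ?_⟩))
    calc k⁻¹ * (t * a) * k⁻¹⁻¹ = k⁻¹ * t * k⁻¹⁻¹ * (k⁻¹ * a * k) := by group
      _ = t * z := by rw [conj_fix_of_mem_cent (inv_mem hk), ← hka]; group
  have htz : IsConj t (t * z) := by
    by_contra h
    exact hnz (hxor.2 h)
  refine ⟨fun d hd => L.not_isConj_D hz hz1 hz2 hnz hd (E.sq d hd), fun d hd => ?_⟩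
  by_cases hd1 : d = 1
  · rw [hd1, mul_one]
  · obtain ⟨k, hk, hkd⟩ := L.one z hz d hd hz2 (E.sq d hd) hz1 hd1
    refine htz.trans (isConj_iff.2 ⟨k, ?_⟩)
    calc k * (t * z) * k⁻¹ = k * t * k⁻¹ * (k * z * k⁻¹) := by group
      _ = t * d := by rw [hkd, conj_fix_of_mem_cent hk]

end Cfsg.Agent.H35.JT
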