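import Mathlib

/-!
# A group of order eight acting faithfully on a group of order eight of exponent two

It has, up to inversion, a single element of order four.
-/

set_option autoImplicit false

namespace Cfsg.Agent.H35.JT

variable {V : Type*} [AddCommGroup V]

private theorem span_table (h2 : ∀ v : V, v + v = 0) {a b : V} {x y : V} (hx : x ∈ ({0, a, b, a + b} : Set V))
    (hy : y ∈ ({0, a, b, a + b} : Set V)) : x + y ∈ ({0, a, b, a + b} : Set V) := by
  have e1 : a + (a + b) = b := by rw [← add_assoc, h2, zero_add]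
  have e2 : b + (a + b) = a := by rw [add_left_comm, h2, add_zero]
  simp only [Set.mem_insert_iff, Set.mem_singleton_iff] at hx hy ⊢
  rcases hx with h | h | h | h <;> rcases hy with h' | h' | h' | h' <;>
    simp [h, h', h2, e1, e2, add_comm b a, add_comm (a + b) a, add_comm (a + b) b]

/-- Up to inversion there is one element of order four. -/
theorem order_four_unique {R : Type*} [Group R] [Finite R] (hR : Nat.card R = 8) [Finite V]
    (hV : Nat.card V = 8) (h2 : ∀ v : V, v + v = 0) (L : R →* AddMonoid.End V) (hL : Function.Injective L) :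
    ∃ r₀ : R, r₀ * r₀ ≠ 1 ∧ (∀ r : R, r * r ≠ 1 → r = r₀ ∨ r = r₀ * (r₀ * r₀)) ∧
      ∀ r : R, r * r * (r * r) = 1 := by
  classical
  have : Fact (Nat.Prime 2) := ⟨Nat.prime_two⟩
  have hRp : IsPGroup 2 R := IsPGroup.of_card (n := 3) (by rw [hR]; norm_num)
  have hone : ∀ v, L 1 v = v := fun v => by rw [map_one]; rfl
  have hmul : ∀ r s v, L (r * s) v = L r (L s v) := fun r s v => by rw [map_mul]; rfl
  let actV : MulAction R V :=
    { smul := fun r v => L r v
      one_smul := hone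
      mul_smul := hmul }
  obtain ⟨v₁, hv₁, hv₁0⟩ := hRp.exists_fixed_point_of_prime_dvd_card_of_fixed_point (α := V)
    (by rw [hV]; norm_num) (a := (0 : V)) (fun r => map_zero (L r))
  have hfix1 : ∀ r, L r v₁ = v₁ := hv₁
  -- a fixed point modulo `v₁`
  set W : AddSubgroup V := AddSubgroup.zmultiples v₁ with hW
  have hW2 : ∀ w ∈ W, w = 0 ∨ w = v₁ := by
    intro w hw
    obtain ⟨k, rfl⟩ := AddSubgroup.mem_zmultiples_iff.1 hw
    rcases Int.even_or_odd k with ⟨j, rfl⟩ | ⟨j, rfl⟩
    · left; rw [add_zsmul, h2]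
    · right; rw [add_zsmul, two_mul, add_zsmul, h2, zero_add, one_zsmul]
  have hWfix : ∀ r, ∀ w ∈ W, L r w ∈ W := fun r w hw => by
    rcases hW2 w hw with rfl | rfl
    · rw [map_zero]; exact zero_mem W
    · rw [hfix1 r]; exact hw
  have hcW : Nat.card W = 2 := by
    rw [Nat.card_zmultiples]
    exact addOrderOf_eq_prime (by rw [two_nsmul, h2]) (Ne.symm hv₁0)
  let actQ : MulAction R (V ⧸ W) :=
    { smul := fun r => QuotientAddGroup.map W W (L r) (hWfix r)
      one_smul := fun q => by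
        induction q using QuotientAddGroup.induction_on with
        | H v => exact congrArg (QuotientAddGroup.mk (s := W)) (hone v)
      mul_smul := fun r s q => by
        induction q using QuotientAddGroup.induction_on with
        | H v => exact congrArg (QuotientAddGroup.mk (s := W)) (hmul r s v) }
  have hcQ : Nat.card (V ⧸ W) = 4 := by
    have := W.card_eq_card_quotient_mul_card_addSubgroup
    rw [hV, hcW] at this
    omega
  obtain ⟨q, hq, hq0⟩ := hRp.exists_fixed_point_of_prime_dvd_card_of_fixed_point (α := V ⧸ W)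
    (by rw [hcQ]; norm_num) (a := (0 : V ⧸ W)) (fun r => map_zero (QuotientAddGroup.map W W (L r) (hWfix r)))
  obtain ⟨v₂, rfl⟩ := QuotientAddGroup.mk_surjective q
  have hv₂W : v₂ ∉ W := fun h => hq0 ((QuotientAddGroup.eq_zero_iff v₂).2 h).symm
  have hfix2 : ∀ r, L r v₂ = v₂ ∨ L r v₂ = v₂ + v₁ := by
    intro r
    have h : -v₂ + L r v₂ ∈ W := QuotientAddGroup.eq.1 (hq r).symm
    rcases hW2 _ h with h | h
    · exact Or.inl (neg_add_eq_zero.1 h).symm
    · exact Or.inr (by rw [← h, add_neg_cancel_left])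
  have h12 : v₂ ≠ v₁ ∧ v₂ ≠ 0 := ⟨fun h => hv₂W (h ▸ AddSubgroup.mem_zmultiples v₁),
    fun h => hv₂W (h ▸ zero_mem W)⟩
  let U : AddSubgroup V :=
    { carrier := ({0, v₁, v₂, v₁ + v₂} : Set V)
      add_mem' := span_table h2
      zero_mem' := by simp
      neg_mem' := fun {x} hx => by rwa [neg_eq_of_add_eq_zero_right (h2 x)] }
  have hU : ∀ x, x ∈ U ↔ x = 0 ∨ x = v₁ ∨ x = v₂ ∨ x = v₁ + v₂ := fun x => Iff.rfl
  have hcU : Nat.card U = 4 := by
    rw [← SetLike.coe_sort_coe, Nat.card_coe_set_eq]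
    have a1 : (0 : V) ≠ v₁ := hv₁0
    have a2 : (0 : V) ≠ v₂ := h12.2.symm
    have a3 : (0 : V) ≠ v₁ + v₂ := fun h => h12.1 (by rw [← add_zero v₁, h, ← add_assoc, h2, zero_add])
    have a4 : v₁ ≠ v₂ := h12.1.symm
    have a5 : v₁ ≠ v₁ + v₂ := fun h => h12.2 (left_eq_add.1 h)
    have a6 : v₂ ≠ v₁ + v₂ := fun h => hv₁0 (right_eq_add.1 h).symm
    show ({0, v₁, v₂, v₁ + v₂} : Set V).ncard = 4
    rw [Set.ncard_insert_of_notMem (by simp [a1, a2, a3]), Set.ncard_insert_of_notMem (by simp [a4, a5]),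
      Set.ncard_pair a6]
  have hUi : U.index = 2 := by
    have := U.card_mul_index
    rw [hV, hcU] at this
    omega
  obtain ⟨v₃, hv₃⟩ : ∃ v, v ∉ U := by
    by_contra h
    push Not at h
    have : U = ⊤ := eq_top_iff.2 fun v _ => h v
    rw [this, AddSubgroup.index_top] at hUi
    omega
  have hUfix : ∀ r, ∀ x ∈ U, L r x ∈ U := by
    intro r x hx
    rw [hU] at hx
    rcases hx with hx | hx | hx | hx <;> rw [hx]
    · rw [map_zero]; exact zero_mem U
    · rw [hfix1 r]; exact (hU _).2 (Or.inr (Or.inl rfl))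
    all_goals
      rcases hfix2 r with h | h <;> simp only [map_add, hfix1 r, h, hU] <;>
        simp [h2, add_comm v₂ v₁, ← add_assoc]
  have hfix3 : ∀ r, L r v₃ - v₃ ∈ U := by
    intro r
    have h : L r v₃ ∉ U := fun h => hv₃ (by
      have := hUfix r⁻¹ _ h
      rwa [← hmul, inv_mul_cancel, hone] at this)
    have := (AddSubgroup.add_mem_iff_of_index_two hUi (a := L r v₃) (b := v₃)).2 (iff_of_false h hv₃)
    rwa [sub_eq_add_neg, neg_eq_of_add_eq_zero_right (h2 v₃)]
  have hext : ∀ r s, L r v₂ = L s v₂ → L r v₃ = L s v₃ → r = s := by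
    intro r s e2 e3
    refine hL (AddMonoidHom.ext fun v => ?_)
    have hin : ∀ x ∈ U, L r x = L s x := by
      intro x hx
      rw [hU] at hx
      rcases hx with hx | hx | hx | hx <;> rw [hx]
      · rw [map_zero, map_zero]
      · rw [hfix1, hfix1]
      · exact e2
      · rw [map_add, map_add, hfix1, hfix1, e2]
    by_cases hv : v ∈ U
    · exact hin v hv
    · have := hin _ ((AddSubgroup.add_mem_iff_of_index_two hUi (a := v) (b := v₃)).2 (iff_of_false hv hv₃))
      rw [map_add, map_add, e3] at this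
      exact add_right_cancel this
  -- existence, by counting
  obtain ⟨r₀, hr2, hr3⟩ : ∃ r, L r v₂ = v₂ + v₁ ∧ L r v₃ = v₃ + v₂ := by
    let f : R → ({v₂, v₂ + v₁} : Set V) × U := fun r =>
      (⟨L r v₂, by rcases hfix2 r with h | h <;> simp [h]⟩, ⟨L r v₃ - v₃, hfix3 r⟩)
    have hf : Function.Injective f := fun r s e =>
      hext r s (congrArg (fun z => (z.1 : V)) e) (sub_left_inj.1 (congrArg (fun z => (z.2 : V)) e))
    have hb : Function.Bijective f := (Nat.bijective_iff_injective_and_card f).2 ⟨hf, by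
      rw [hR, Nat.card_prod, hcU, Nat.card_coe_set_eq, Set.ncard_pair fun h => hv₁0 (left_eq_add.1 h).symm]⟩
    obtain ⟨r, hr⟩ := hb.2 (⟨v₂ + v₁, by simp⟩, ⟨v₂, (hU _).2 (Or.inr (Or.inr (Or.inl rfl)))⟩)
    refine ⟨r, congrArg (fun z => (z.1 : V)) hr, ?_⟩
    have h : L r v₃ - v₃ = v₂ := congrArg (fun z => (z.2 : V)) hr
    rw [← h, add_sub_cancel]
  have hsq2 : ∀ r, L (r * r) v₂ = v₂ := by
    intro r
    rcases hfix2 r with h | h
    · rw [hmul, h, h]
    · rw [hmul, h, map_add, h, hfix1, add_assoc, h2, add_zero]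
  have h03 : L (r₀ * r₀) v₃ = v₃ + v₁ := by
    rw [hmul, hr3, map_add, hr3, hr2, ← add_assoc, add_assoc v₃, h2, add_zero]
  -- the square of every element
  have hsq3 : ∀ r, L (r * r) v₃ = v₃ ∨ (L (r * r) v₃ = v₃ + v₁ ∧ L r v₂ = v₂ + v₁ ∧
      (L r v₃ = v₃ + v₂ ∨ L r v₃ = v₃ + (v₁ + v₂))) := by
    intro r
    obtain ⟨e, he, h3⟩ : ∃ e ∈ U, L r v₃ = v₃ + e := ⟨_, hfix3 r, (add_sub_cancel v₃ (L r v₃)).symm⟩
    have hsum : L (r * r) v₃ = v₃ + (e + L r e) := by rw [hmul, h3, map_add, h3, add_assoc]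
    rcases hfix2 r with h | h
    · left
      have : L r e = e := by
        rcases (hU e).1 he with hx | hx | hx | hx <;> rw [hx]
        · exact map_zero _
        · exact hfix1 r
        · exact h
        · rw [map_add, hfix1, h]
      rw [hsum, this, h2, add_zero]
    · rcases (hU e).1 he with hx | hx | hx | hx <;> rw [hx] at hsum h3
      · left; rw [hsum, map_zero, add_zero, add_zero]
      · left; rw [hsum, hfix1, h2, add_zero]
      · exact Or.inr ⟨by rw [hsum, h, ← add_assoc v₂ v₂, h2, zero_add], h, Or.inl h3⟩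
      · refine Or.inr ⟨?_, h, Or.inr h3⟩
        rw [hsum, map_add, hfix1, h, add_add_add_comm, h2, zero_add, ← add_assoc v₂, h2, zero_add]
  refine ⟨r₀, fun e => ?_, fun r hr => ?_, fun r => ?_⟩
  · rw [e, hone] at h03
    exact hv₁0 (left_eq_add.1 h03).symm
  · rcases hsq3 r with h | ⟨-, ha, hb | hb⟩
    · exact absurd (hext _ 1 (by rw [hsq2, hone]) (by rw [h, hone])) hr
    · exact Or.inl (hext _ _ (ha.trans hr2.symm) (hb.trans hr3.symm))
    · refine Or.inr (hext _ _ ?_ ?_)
      · rw [hmul, hsq2, hr2, ha]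
      · rw [hmul, h03, map_add, hr3, hfix1, hb, add_comm v₁ v₂, add_assoc]
  · refine hext _ 1 (by rw [hmul, hsq2, hsq2, hone]) ?_
    rcases hsq3 r with h | ⟨h, -, -⟩
    · rw [hmul, h, h, hone]
    · rw [hmul, h, map_add, h, hfix1, add_assoc, h2, add_zero, hone]

end Cfsg.Agent.H35.JT
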