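import Cfsg.Agent.H35.JT.Extra

/-!
# Translations: the next stage

If some element of `N(X)` centralising `D` has a non-trivial class then there is a larger stage.
-/

set_option autoImplicit false

namespace Cfsg.Agent.H35.JT

open Subgroup

variable {G : Type*} [Group G] [Finite G] {t g : G} {S₀ D P : Subgroup G} {K : ℕ}

theorem Elem.congr (E : Elem t D g) {c : G} (hc : c ∈ centralizer ({t} : Set G))
    (hac : ∀ d ∈ D, c * d * c⁻¹ = g * d * g⁻¹) : Elem t D c := by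
  have hk : ∀ (k : ℕ), ∀ d ∈ D, c ^ k * d * (c ^ k)⁻¹ = g ^ k * d * (g ^ k)⁻¹
      ∧ g ^ k * d * (g ^ k)⁻¹ ∈ D := by
    intro k
    induction k with
    | zero => intro d hd; simpa using hd
    | succ k ih =>
      intro d hd
      obtain ⟨h1, h2⟩ := ih d hd
      rw [pow_succ', pow_succ', show g * g ^ k * d * (g * g ^ k)⁻¹ = g * (g ^ k * d * (g ^ k)⁻¹) * g⁻¹ by group]
      refine ⟨?_, E.gnorm _ h2⟩
      rw [show c * c ^ k * d * (c * c ^ k)⁻¹ = c * (c ^ k * d * (c ^ k)⁻¹) * c⁻¹ by group, h1, hac _ h2]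
  refine ⟨E.sq, E.four, hc, fun d hd => by rw [hac d hd]; exact E.gnorm d hd, fun a ha b hb h1 h2 => ?_,
    fun h hh hn => ?_⟩
  · obtain ⟨k, e⟩ := E.trans a ha b hb h1 h2
    exact ⟨k, by rw [(hk k a ha).1, e]⟩
  · obtain ⟨k, e⟩ := E.semi h hh hn
    exact ⟨k, fun d hd => by rw [hac d hd, e d hd, (hk k _ (hn d hd)).1]⟩

theorem Elem.ne_fixed (E : Elem t D g) {d : G} (hd : d ∈ D) (hfix : g * d * g⁻¹ = d) : d = 1 := by
  by_contra h1
  obtain ⟨b, hb, hb1, hbd⟩ := E.exists_ne d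
  obtain ⟨k, hk⟩ := E.trans d hd b hb h1 hb1
  have : ∀ j : ℕ, g ^ j * d * (g ^ j)⁻¹ = d := by
    intro j
    induction j with
    | zero => simp
    | succ j ih =>
      rw [pow_succ', show g * g ^ j * d * (g * g ^ j)⁻¹ = g * (g ^ j * d * (g ^ j)⁻¹) * g⁻¹ by group, ih, hfix]
  exact hbd ((this k).symm.trans hk).symm

omit [Finite G] in
theorem Stage.card_X (St : Stage t D P g) (L : Local t S₀ D) :
    Nat.card (P ⊔ zpowers t : Subgroup G) = 2 * Nat.card P := by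
  have h : P.relIndex (P ⊔ zpowers t) = 2 := by
    rw [Subgroup.relIndex, Subgroup.index_eq_two_iff]
    refine ⟨⟨t, St.t_mem_X⟩, fun b => ?_⟩
    simp only [Subgroup.mem_subgroupOf, Subgroup.coe_mul]
    have hne : ¬ ((b : G) ∈ P ∧ t * (b : G) ∈ P) := fun h => St.not_mem L (by
      simpa using mul_mem h.2 (inv_mem h.1))
    rcases (St.mem_X L).1 b.2 with h | h
    · refine Or.inr ⟨h, fun h' => ?_⟩
      rw [St.commute_mul L h] at h'
      exact St.not_mem L (by simpa using mul_mem h' h)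
    · refine Or.inl ⟨?_, fun h' => hne ⟨h', h⟩⟩
      have h2 := St.inverted _ h
      rw [show t * (t * (b : G)) * t = t * t * b * t by group, L.sq, one_mul] at h2
      rw [h2]
      exact inv_mem h
  rw [← (P.subgroupOf (P ⊔ zpowers t)).card_mul_index,
    Nat.card_congr (Subgroup.subgroupOfEquivOfLe le_sup_left).toEquiv, mul_comm]
  exact congrArg (· * _) h

theorem Local.card_S₀ (L : Local t S₀ D) : Nat.card S₀ = 2 * Nat.card D := by
  have h := L.relIndex_D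
  rw [Subgroup.relIndex] at h
  rw [← (D.subgroupOf S₀).card_mul_index, Nat.card_congr (Subgroup.subgroupOfEquivOfLe L.D_le).toEquiv, h,
    mul_comm]

namespace Ctx

variable (C : Ctx t g S₀ D P K)
include C

theorem X_le_cent_D : P ⊔ zpowers t ≤ centralizer (D : Set G) := by
  refine sup_le (fun p hp => ?_) (zpowers_le.2 ?_)
  · exact Subgroup.mem_centralizer_iff.2 fun d hd => C.stage.mul_comm' C.loc (C.stage.le hd) hp
  · exact Subgroup.mem_centralizer_iff.2 fun d hd => C.loc.comm (C.loc.D_le hd)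

theorem change {c : G} (hc : c ∈ centralizer ({t} : Set G)) (hac : ∀ d ∈ D, c * d * c⁻¹ = g * d * g⁻¹)
    (hn : c ∈ NX t P) : Ctx t c S₀ D P K :=
  { C with stage := { C.stage with elem := C.stage.elem.congr hc hac, norm := fun _ hp => C.conj_mem hn hp } }

end Ctx

/-- A translating 2-group above `X`, normalised by a scalar generator in `C(t)`. -/
structure Trans (t c : G) (S₀ D P : Subgroup G) (K : ℕ) (X' : Subgroup G) : Prop where
  ctx : Ctx t c S₀ D P K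
  two : IsPGroup 2 X'
  le : P ⊔ zpowers t ≤ X'
  nx : X' ≤ NX t P
  cent : X' ≤ centralizer (D : Set G)
  onto : ∀ d ∈ D, ∃ x ∈ X', cls K t x = d
  norm : ∀ x ∈ X', c * x * c⁻¹ ∈ X'

theorem Ctx.exists_trans (C : Ctx t g S₀ D P K)
    (h : ∃ h ∈ NX t P, h ∈ centralizer (D : Set G) ∧ cls K t h ≠ 1) :
    ∃ c X', Trans t c S₀ D P K X' := by
  have : Fact (Nat.Prime 2) := ⟨Nat.prime_two⟩
  obtain ⟨h, hh, hhD, hh1⟩ := h
  set J : Subgroup G := NX t P ⊓ centralizer (D : Set G) with hJ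
  have hfix : ∀ {j d : G}, j ∈ J → d ∈ D → j * d * j⁻¹ = d := fun hj hd => by
    rw [← Subgroup.mem_centralizer_iff.1 hj.2 _ hd, mul_inv_cancel_right]
  let f : J →* D := MonoidHom.mk' (fun j => ⟨cls K t (j : G), C.cls_mem j.2.1⟩) fun a b => Subtype.ext (by
    show cls K t ((a : G) * b) = cls K t (a : G) * cls K t (b : G)
    rw [C.cls_mul a.2.1 b.2.1, hfix a.2 (C.cls_mem b.2.1)])
  have hgJ : ∀ (k : ℕ) {j : G}, j ∈ J → g ^ k * j * (g ^ k)⁻¹ ∈ J := by
    intro k j hj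
    have hk := Subgroup.pow_mem _ C.g_mem k
    refine ⟨mul_mem (mul_mem hk hj.1) (Subgroup.inv_mem (NX t P) hk), Subgroup.mem_centralizer_iff.2 fun d hd => ?_⟩
    have hd' := C.conj_memD (inv_mem hk) hd
    have h1 := Subgroup.mem_centralizer_iff.1 hj.2 _ hd'
    rw [inv_inv] at h1
    calc d * (g ^ k * j * (g ^ k)⁻¹) = g ^ k * ((g ^ k)⁻¹ * d * g ^ k * j) * (g ^ k)⁻¹ := by group
      _ = g ^ k * (j * ((g ^ k)⁻¹ * d * g ^ k)) * (g ^ k)⁻¹ := by rw [h1]
      _ = g ^ k * j * (g ^ k)⁻¹ * d := by group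
  have hf : Function.Surjective f := fun d => by
    by_cases hd : d = 1
    · exact ⟨1, by rw [map_one, hd]⟩
    · obtain ⟨k, hk⟩ := C.stage.elem.trans _ (C.cls_mem hh) d d.2 hh1 (fun e => hd (Subtype.ext e))
      exact ⟨⟨_, hgJ k (j := h) ⟨hh, hhD⟩⟩, Subtype.ext ((C.cls_gpow_conj hh k).trans hk)⟩
  have hXJ : P ⊔ zpowers t ≤ J := fun x hx => ⟨C.mem_NX_of_X hx, C.X_le_cent_D hx⟩
  obtain ⟨Q, hQ⟩ := IsPGroup.exists_le_sylow ((C.stage.two_X C.loc).comap_subtype (K := J))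
  set X' : Subgroup G := (Q : Subgroup J).map J.subtype with hX'
  have hXX' : P ⊔ zpowers t ≤ X' := fun x hx => ⟨⟨x, hXJ hx⟩, hQ hx, rfl⟩
  have hX'J : X' ≤ J := Subgroup.map_subtype_le _
  have hmap : (Q : Subgroup J).map f = ⊤ := by
    rw [← Subgroup.index_eq_one]
    obtain ⟨e, he⟩ := IsPGroup.iff_card.1 (C.loc.two.to_le C.loc.D_le)
    obtain ⟨i, -, hi⟩ := (Nat.dvd_prime_pow Nat.prime_two).1
      (he ▸ ((Q : Subgroup J).map f).index_dvd_card)
    rcases Nat.eq_zero_or_pos i with rfl | hi0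
    · simpa using hi
    · exact absurd (dvd_trans (hi ▸ dvd_pow_self 2 (by omega)) (Subgroup.index_map_dvd _ hf)) Q.not_dvd_index
  have honto : ∀ d ∈ D, ∃ x ∈ X', cls K t x = d := fun d hd => by
    have h1 : (⟨d, hd⟩ : D) ∈ (Q : Subgroup J).map f := by rw [hmap]; trivial
    obtain ⟨x, hx, hxd⟩ := h1
    exact ⟨x, ⟨x, hx, rfl⟩, congrArg Subtype.val hxd⟩
  -- Frattini
  have hgJ1 : X'.map (MulAut.conj g).toMonoidHom ≤ J := by
    rintro _ ⟨x, hx, rfl⟩
    simpa using hgJ 1 (hX'J hx)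
  let Q₂ : Sylow 2 J := Sylow.ofCard ((X'.map (MulAut.conj g).toMonoidHom).subgroupOf J) (by
    rw [Nat.card_congr (Subgroup.subgroupOfEquivOfLe hgJ1).toEquiv,
      Subgroup.card_map_of_injective (MulAut.conj g).injective, hX',
      Subgroup.card_map_of_injective J.subtype_injective]
    exact Q.card_eq_multiplicity)
  obtain ⟨j, hj⟩ := MulAction.exists_smul_eq J Q₂ Q
  have hjg : ∀ x ∈ X', (j : G) * g * x * ((j : G) * g)⁻¹ ∈ X' := by
    intro x hx
    have h1 : (⟨g * x * g⁻¹, hgJ1 ⟨x, hx, rfl⟩⟩ : J) ∈ (Q₂ : Subgroup J) := ⟨x, hx, rfl⟩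
    have h2 : j * ⟨g * x * g⁻¹, hgJ1 ⟨x, hx, rfl⟩⟩ * j⁻¹ ∈ (Q : Subgroup J) := by
      rw [← hj, Sylow.coe_subgroup_smul]
      exact ⟨_, h1, rfl⟩
    refine ⟨_, h2, ?_⟩
    simp [mul_assoc]
  obtain ⟨x', hx', hxj⟩ := honto _ (C.cls_mem j.2.1)
  have hjg' : (j : G) * g ∈ NX t P := mul_mem j.2.1 C.g_mem
  have hcls : cls K t (x' * ((j : G) * g)) = 1 := by
    rw [C.cls_mul (hX'J hx').1 hjg', C.cls_mul j.2.1 C.g_mem, C.cls_of_cent C.stage.elem.gC, mul_one,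
      mul_inv_cancel, mul_one, hfix (hX'J hx') (C.cls_mem j.2.1), hxj, C.stage.elem.sq _ (C.cls_mem j.2.1)]
  obtain ⟨p, hp, hc⟩ := C.exists_of_cls_eq_one (mul_mem (hX'J hx').1 hjg') hcls
  set c := p⁻¹ * (x' * ((j : G) * g)) with hcdef
  have hcn : c ∈ NX t P :=
    mul_mem (inv_mem (C.mem_NX_of_X (mem_sup_left hp))) (mul_mem (hX'J hx').1 hjg')
  have hpJ : p⁻¹ ∈ J := inv_mem (hXJ (mem_sup_left hp))
  have hac : ∀ d ∈ D, c * d * c⁻¹ = g * d * g⁻¹ := fun d hd => by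
    have hd' := C.stage.elem.gnorm d hd
    rw [hcdef, show p⁻¹ * (x' * ((j : G) * g)) * d * (p⁻¹ * (x' * ((j : G) * g)))⁻¹
      = p⁻¹ * (x' * ((j : G) * (g * d * g⁻¹) * (j : G)⁻¹) * x'⁻¹) * p⁻¹⁻¹ by group, hfix j.2 hd',
      hfix (hX'J hx') hd', hfix hpJ hd']
  refine ⟨c, X', C.change hc hac hcn, Q.isPGroup'.map _, hXX', fun x hx => (hX'J hx).1,
    fun x hx => (hX'J hx).2, honto, fun x hx => ?_⟩
  rw [hcdef, show p⁻¹ * (x' * ((j : G) * g)) * x * (p⁻¹ * (x' * ((j : G) * g)))⁻¹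
      = p⁻¹ * (x' * ((j : G) * g * x * ((j : G) * g)⁻¹) * x'⁻¹) * p by group]
  exact mul_mem (mul_mem (inv_mem (hXX' (mem_sup_left hp)))
    (mul_mem (mul_mem hx' (hjg x hx)) (inv_mem hx'))) (hXX' (mem_sup_left hp))

namespace Trans

variable {c : G} {X' : Subgroup G} (T : Trans t c S₀ D P K X')
include T

theorem mem_of_P {p : G} (hp : p ∈ P) : p ∈ X' := T.le (mem_sup_left hp)

theorem cls_mul {x y : G} (hx : x ∈ X') (hy : y ∈ X') : cls K t (x * y) = cls K t x * cls K t y := by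
  rw [T.ctx.cls_mul (T.nx hx) (T.nx hy),
    ← Subgroup.mem_centralizer_iff.1 (T.cent hx) _ (T.ctx.cls_mem (T.nx hy)), mul_inv_cancel_right]

theorem cls_inv {x : G} (hx : x ∈ X') : cls K t x⁻¹ = cls K t x := by
  have h := T.cls_mul (inv_mem hx) hx
  rw [inv_mul_cancel, T.ctx.cls_of_mem (one_mem P)] at h
  rw [← eq_inv_of_mul_eq_one_left h.symm |>.symm]
  exact inv_eq_of_mul_eq_one_right (T.ctx.stage.elem.sq _ (T.ctx.cls_mem (T.nx hx)))

theorem cls_conj {x : G} (hx : x ∈ X') (k : ℕ) :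
    cls K t (c ^ k * x * (c ^ k)⁻¹) = c ^ k * cls K t x * (c ^ k)⁻¹ :=
  T.ctx.cls_gpow_conj (T.nx hx) k

theorem pow_norm (k : ℕ) : ∀ x ∈ X', c ^ k * x * (c ^ k)⁻¹ ∈ X' := by
  induction k with
  | zero => intro x hx; simpa using hx
  | succ k ih =>
    intro x hx
    rw [pow_succ', show c * c ^ k * x * (c * c ^ k)⁻¹ = c * (c ^ k * x * (c ^ k)⁻¹) * c⁻¹ by group]
    exact T.norm _ (ih x hx)

theorem sq_mem {x : G} (hx : x ∈ X') : x * x ∈ P := by
  have h1 : cls K t (x * x) = 1 := by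
    rw [T.cls_mul hx hx]
    exact T.ctx.stage.elem.sq _ (T.ctx.cls_mem (T.nx hx))
  refine ((T.ctx.stage.mem_X T.ctx.loc).1
    (T.ctx.mem_X_of_cls T.two T.le (mul_mem hx hx) (T.nx (mul_mem hx hx)) h1)).resolve_right fun h => ?_
  have hne : ∃ h ∈ NX t P, cls K t h ≠ 1 := by
    obtain ⟨d, hd, hd1⟩ := D.bot_or_exists_ne_one.resolve_left T.ctx.loc.nontrivial
    obtain ⟨y, hy, e⟩ := T.onto d hd
    exact ⟨y, T.nx hy, fun e' => hd1 (e.symm.trans e')⟩
  have h2 := T.ctx.coset_all hne h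
  rw [← mul_assoc t t, T.ctx.loc.sq, one_mul] at h2
  exact T.ctx.loc.not_isConj_sq T.ctx.stage.elem T.two hx h2

theorem comm_mem {x y : G} (hx : x ∈ X') (hy : y ∈ X') : x * y * x⁻¹ * y⁻¹ ∈ P := by
  rw [show x * y * x⁻¹ * y⁻¹ = x * x * (x⁻¹ * y * (x⁻¹ * y)) * (y⁻¹ * y⁻¹) by group]
  exact mul_mem (mul_mem (T.sq_mem hx) (T.sq_mem (mul_mem (inv_mem hx) hy))) (T.sq_mem (inv_mem hy))

theorem card_eq : Nat.card X' = 2 * Nat.card P * Nat.card D := by
  let f : X' →* D := MonoidHom.mk' (fun x => ⟨cls K t (x : G), T.ctx.cls_mem (T.nx x.2)⟩)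
    fun a b => Subtype.ext (T.cls_mul a.2 b.2)
  have hker : f.ker = (P ⊔ zpowers t).subgroupOf X' := by
    ext x
    rw [MonoidHom.mem_ker, Subgroup.mem_subgroupOf]
    refine ⟨fun h => T.ctx.mem_X_of_cls T.two T.le x.2 (T.nx x.2) (congrArg Subtype.val h), fun h => ?_⟩
    refine Subtype.ext ?_
    show cls K t (x : G) = 1
    rcases (T.ctx.stage.mem_X T.ctx.loc).1 h with h | h
    · exact T.ctx.cls_of_mem h
    · have e : (x : G) = t * (t * x) := by rw [← mul_assoc, T.ctx.loc.sq, one_mul]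
      rw [e, T.cls_mul (T.le T.ctx.stage.t_mem_X) (T.mem_of_P h), T.ctx.cls_of_mem h,
        T.ctx.cls_of_cent T.ctx.loc.t_mem_cent, mul_one]
  have hf : Function.Surjective f := fun d => by
    obtain ⟨x, hx, e⟩ := T.onto d d.2
    exact ⟨⟨x, hx⟩, Subtype.ext e⟩
  rw [← f.ker.card_mul_index, Subgroup.index_ker, MonoidHom.range_eq_top.2 hf, Subgroup.card_top, hker,
    Nat.card_congr (Subgroup.subgroupOfEquivOfLe T.le).toEquiv, T.ctx.stage.card_X T.ctx.loc]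

/-- The class of a conjugate `u` of `t` in `X'` is all of `uP`. -/
theorem coset_class {u : G} (hu : u ∈ X') (hut : IsConj t u) {p : G} (hp : p ∈ P) : IsConj t (u * p) := by
  let A : Set G := (fun q => u * q) '' {q | q ∈ P ∧ IsConj t (u * q)}
  have hA : ∀ s ∈ X', s * u * s⁻¹ ∈ A := fun s hs => by
    refine ⟨u⁻¹ * (s * u * s⁻¹), ⟨?_, ?_⟩, by group⟩
    · have := T.comm_mem (inv_mem hu) hs
      rwa [inv_inv, show u⁻¹ * s * u * s⁻¹ = u⁻¹ * (s * u * s⁻¹) by group] at this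
    · rw [mul_inv_cancel_left]
      exact hut.trans (isConj_iff.2 ⟨s, rfl⟩)
  have h1 := T.ctx.loc.card_class_le T.two hut A hA
  rw [T.card_eq, T.ctx.loc.card_S₀, show 2 * Nat.card P * Nat.card D = Nat.card P * (2 * Nat.card D) by ring] at h1
  have h2 : Nat.card P ≤ A.ncard :=
    Nat.le_of_mul_le_mul_right h1 (Nat.mul_pos two_pos Nat.card_pos)
  have hsub : A ⊆ (fun q => u * q) '' (P : Set G) := Set.image_mono fun q hq => hq.1
  have h3 : ((fun q => u * q) '' (P : Set G)).ncard ≤ A.ncard := by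
    rw [Set.ncard_image_of_injective _ (mul_right_injective u), ← Nat.card_coe_set_eq]
    exact h2
  have h4 := Set.eq_of_subset_of_ncard_le hsub h3
  have h5 : u * p ∈ A := by rw [h4]; exact ⟨p, hp, rfl⟩
  obtain ⟨q, hq, e⟩ := h5
  rw [← e]
  exact hq.2

/-- The complement `P' = P [X', c]`. -/
theorem exists_complement : ∃ P' : Subgroup G, P ≤ P' ∧ P' ≤ X' ∧ t ∉ P' ∧ (∀ x ∈ X', x ∈ P' ∨ t * x ∈ P') ∧
    (∀ x ∈ P', c * x * c⁻¹ ∈ P') ∧ (∀ x ∈ P', cls K t x = 1 → x ∈ P) ∧ (∀ d ∈ D, ∃ x ∈ P', cls K t x = d) ∧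
    ∀ x ∈ P', x * t = t * x → x ∈ D := by
  have L := T.ctx.loc
  have hk : ∀ {x}, x ∈ X' → x * c * x⁻¹ * c⁻¹ ∈ X' := fun hx => by
    rw [show ∀ a : G, a * c * a⁻¹ * c⁻¹ = a * (c * a⁻¹ * c⁻¹) from fun a => by group]
    exact mul_mem hx (T.norm _ (inv_mem hx))
  let P' : Subgroup G :=
    { carrier := {y | ∃ x ∈ X', y * (x * c * x⁻¹ * c⁻¹)⁻¹ ∈ P}
      one_mem' := ⟨1, one_mem _, by simp⟩
      mul_mem' := by
        rintro y₁ y₂ ⟨a, ha, h1⟩ ⟨b, hb, h2⟩
        refine ⟨a * b, mul_mem ha hb, ?_⟩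
        rw [show y₁ * y₂ * (a * b * c * (a * b)⁻¹ * c⁻¹)⁻¹
          = y₁ * (a * c * a⁻¹ * c⁻¹)⁻¹
            * ((a * c * a⁻¹ * c⁻¹) * (y₂ * (b * c * b⁻¹ * c⁻¹)⁻¹) * (a * c * a⁻¹ * c⁻¹)⁻¹)
            * ((a * c * a⁻¹ * c⁻¹) * (b * c * b⁻¹ * c⁻¹) * (a * c * a⁻¹ * c⁻¹)⁻¹ * (b * c * b⁻¹ * c⁻¹)⁻¹)
            * ((b * c * b⁻¹ * c⁻¹) * a * (b * c * b⁻¹ * c⁻¹)⁻¹ * a⁻¹) by group]
        exact mul_mem (mul_mem (mul_mem h1 (T.ctx.conj_mem (T.nx (hk ha)) h2)) (T.comm_mem (hk ha) (hk hb)))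
          (T.comm_mem (hk hb) ha)
      inv_mem' := by
        rintro y ⟨x, hx, h⟩
        refine ⟨x⁻¹, inv_mem hx, ?_⟩
        rw [show y⁻¹ * (x⁻¹ * c * x⁻¹⁻¹ * c⁻¹)⁻¹
          = ((x * c * x⁻¹ * c⁻¹)⁻¹ * (y * (x * c * x⁻¹ * c⁻¹)⁻¹)⁻¹ * (x * c * x⁻¹ * c⁻¹)⁻¹⁻¹)
            * ((x * c * x⁻¹ * c⁻¹)⁻¹ * x⁻¹ * (x * c * x⁻¹ * c⁻¹)⁻¹⁻¹ * x⁻¹⁻¹) by group]
        exact mul_mem (T.ctx.conj_mem (T.nx (inv_mem (hk hx))) (inv_mem h))
          (T.comm_mem (inv_mem (hk hx)) (inv_mem hx)) }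
  have hPP' : P ≤ P' := fun p hp => ⟨1, one_mem _, by simpa using hp⟩
  have hP'X : P' ≤ X' := by
    rintro y ⟨x, hx, h⟩
    have := mul_mem (T.mem_of_P h) (hk hx)
    rwa [inv_mul_cancel_right] at this
  have hclsk : ∀ {x}, x ∈ X' → cls K t (x * c * x⁻¹ * c⁻¹) = cls K t x * (c * cls K t x * c⁻¹) := fun {x} hx => by
    have h1 := T.cls_conj (inv_mem hx) 1
    rw [pow_one, T.cls_inv hx] at h1
    rw [show x * c * x⁻¹ * c⁻¹ = x * (c * x⁻¹ * c⁻¹) by group, T.cls_mul hx (T.norm _ (inv_mem hx)), h1]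
  have hinj : ∀ d ∈ D, d * (c * d * c⁻¹) = 1 → d = 1 := fun d hd e => by
    refine T.ctx.stage.elem.ne_fixed hd ?_
    have := inv_eq_of_mul_eq_one_right e
    rw [inv_eq_of_mul_eq_one_right (T.ctx.stage.elem.sq d hd)] at this
    exact this.symm
  have hX : ∀ {x}, x ∈ P ⊔ zpowers t → x * c * x⁻¹ * c⁻¹ ∈ P := by
    intro x hx
    have hP : ∀ {p}, p ∈ P → p * c * p⁻¹ * c⁻¹ ∈ P := fun {p} hp => by
      rw [show p * c * p⁻¹ * c⁻¹ = p * (c * p⁻¹ * c⁻¹) by group]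
      exact mul_mem hp (T.ctx.stage.norm _ (inv_mem hp))
    rcases (T.ctx.stage.mem_X L).1 hx with h | h
    · exact hP h
    · have h1 := T.ctx.stage.inverted _ (hP h)
      have h2 : t * (t * x * c * (t * x)⁻¹ * c⁻¹) * t = x * c * x⁻¹ * c⁻¹ := by
        rw [mul_inv_rev, L.inv, show t * (t * x * c * (x⁻¹ * t) * c⁻¹) * t
          = t * t * x * c * x⁻¹ * (t * c⁻¹ * t) by group, L.sq, one_mul,
          comm_of_mem_cent (inv_mem T.ctx.stage.elem.gC) |>.symm, mul_assoc c⁻¹, L.sq, mul_one]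
      rw [← h2, h1]
      exact inv_mem (hP h)
  have htP' : t ∉ P' := by
    rintro ⟨x, hx, h⟩
    have h1 : cls K t (t * (x * c * x⁻¹ * c⁻¹)⁻¹) = 1 := T.ctx.cls_of_mem h
    rw [T.cls_mul (T.le T.ctx.stage.t_mem_X) (inv_mem (hk hx)), T.cls_inv (hk hx),
      T.ctx.cls_of_cent L.t_mem_cent, one_mul, hclsk hx] at h1
    have h2 := T.ctx.mem_X_of_cls T.two T.le hx (T.nx hx) (hinj _ (T.ctx.cls_mem (T.nx hx)) h1)
    have h3 := mul_mem h (hX h2)
    rw [inv_mul_cancel_right] at h3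
    exact T.ctx.stage.not_mem L h3
  have hsplit : ∀ y ∈ X', y ∈ P' ∨ t * y ∈ P' := by
    intro y hy
    let ψ : D → D := fun d => ⟨(d : G) * (c * (d : G) * c⁻¹), mul_mem d.2 (T.ctx.stage.elem.gnorm _ d.2)⟩
    have hψ : Function.Injective ψ := fun a b e => by
      have e' : (a : G) * (c * (a : G) * c⁻¹) = b * (c * (b : G) * c⁻¹) := congrArg Subtype.val e
      refine Subtype.ext ?_
      have h0 := hinj ((a : G) * b) (mul_mem a.2 b.2) (by
        rw [show (a : G) * b * (c * ((a : G) * b) * c⁻¹) = a * (b * (c * a * c⁻¹)) * (c * b * c⁻¹) by group,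
          T.ctx.stage.elem.comm b.2 (T.ctx.stage.elem.gnorm _ a.2),
          show (a : G) * (c * a * c⁻¹ * b) * (c * b * c⁻¹) = a * (c * a * c⁻¹) * (b * (c * b * c⁻¹)) by group,
          e']
        exact T.ctx.stage.elem.sq _ (mul_mem b.2 (T.ctx.stage.elem.gnorm _ b.2)))
      rw [eq_inv_of_mul_eq_one_left h0]
      exact inv_eq_of_mul_eq_one_right (T.ctx.stage.elem.sq _ b.2)
    obtain ⟨d, hd⟩ := Finite.injective_iff_surjective.1 hψ ⟨cls K t y, T.ctx.cls_mem (T.nx hy)⟩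
    obtain ⟨x, hx, hxd⟩ := T.onto d d.2
    have h1 : cls K t (y * (x * c * x⁻¹ * c⁻¹)⁻¹) = 1 := by
      rw [T.cls_mul hy (inv_mem (hk hx)), T.cls_inv (hk hx), hclsk hx, hxd,
        show (d : G) * (c * (d : G) * c⁻¹) = cls K t y from congrArg Subtype.val hd]
      exact T.ctx.stage.elem.sq _ (T.ctx.cls_mem (T.nx hy))
    rcases (T.ctx.stage.mem_X L).1 (T.ctx.mem_X_of_cls T.two T.le (mul_mem hy (inv_mem (hk hx)))
      (T.nx (mul_mem hy (inv_mem (hk hx)))) h1) with h | h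
    · exact Or.inl ⟨x, hx, h⟩
    · exact Or.inr ⟨x, hx, by rwa [mul_assoc]⟩
  refine ⟨P', hPP', hP'X, htP', hsplit, ?_, ?_, ?_, ?_⟩
  · rintro y ⟨x, hx, h⟩
    refine ⟨c * x * c⁻¹, T.norm x hx, ?_⟩
    have := T.ctx.stage.norm _ h
    rwa [show c * (y * (x * c * x⁻¹ * c⁻¹)⁻¹) * c⁻¹
      = c * y * c⁻¹ * (c * x * c⁻¹ * c * (c * x * c⁻¹)⁻¹ * c⁻¹)⁻¹ by group] at this
  · intro x hx h1
    refine ((T.ctx.stage.mem_X L).1 (T.ctx.mem_X_of_cls T.two T.le (hP'X hx) (T.nx (hP'X hx)) h1)).resolve_right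
      fun h => htP' ?_
    simpa using mul_mem (hPP' h) (inv_mem hx)
  · intro d hd
    obtain ⟨y, hy, e⟩ := T.onto d hd
    rcases hsplit y hy with h | h
    · exact ⟨y, h, e⟩
    · exact ⟨t * y, h, by rw [T.cls_mul (T.le T.ctx.stage.t_mem_X) hy, T.ctx.cls_of_cent L.t_mem_cent, one_mul, e]⟩
  · intro x hx he
    rcases L.split x (L.mem_of_two_group T.two ((T.ctx.stage.S₀_le_X L).trans T.le) (hP'X hx)
      (mem_centralizer_singleton_iff.2 he)) with h | h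
    · exact h
    · exact absurd (by simpa using mul_mem (hPP' (T.ctx.stage.le h)) (inv_mem hx)) htP'

/-- A translating `X'` gives a larger stage. -/
theorem next_stage (hno : ∀ H : Subgroup G, H.index ≠ 2) : ∃ P' : Subgroup G, Stage t D P' c ∧ P < P' := by
  classical
  have : Fact (Nat.Prime 2) := ⟨Nat.prime_two⟩
  have L := T.ctx.loc
  have hne : ∃ h ∈ NX t P, cls K t h ≠ 1 := by
    obtain ⟨d, hd, hd1⟩ := D.bot_or_exists_ne_one.resolve_left L.nontrivial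
    obtain ⟨y, hy, e⟩ := T.onto d hd
    exact ⟨y, T.nx hy, fun e' => hd1 (e.symm.trans e')⟩
  by_cases hout : ∀ u ∈ X', IsConj t u → t * u ∈ P
  · -- then `X'` is a Sylow subgroup
    obtain ⟨S, hS⟩ := T.two.exists_le_sylow
    have hSX : X' = S := by
      by_contra hn
      obtain ⟨h, hh, hh', hhn⟩ := exists_normalizing S.isPGroup' hS hn
      have hconj : ∀ {y}, y ∈ X' → h * y * h⁻¹ ∈ X' := fun hy => (Subgroup.mem_normalizer_iff.1 hhn _).1 hy
      have hTP : ∀ {p}, p ∈ P → h * (t * p) * h⁻¹ ∈ P ⊔ zpowers t := fun hp =>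
        (T.ctx.stage.mem_X L).2 (Or.inr (hout _
          (hconj (mul_mem (T.le T.ctx.stage.t_mem_X) (T.mem_of_P hp)))
          ((T.ctx.coset_all hne hp).trans (isConj_iff.2 ⟨h, rfl⟩))))
      have hN : h ∈ NX t P := by
        rw [Subgroup.mem_normalizer_iff_map_conj_eq]
        refine Subgroup.eq_of_le_of_card_ge ?_ (Subgroup.card_map_of_injective (MulAut.conj h).injective).ge
        rintro _ ⟨x, hx, rfl⟩
        show h * x * h⁻¹ ∈ P ⊔ zpowers t
        rcases (T.ctx.stage.mem_X L).1 hx with hp | hp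
        · have h1 := mul_mem (hTP (one_mem P)) (hTP hp)
          rwa [show h * (t * 1) * h⁻¹ * (h * (t * x) * h⁻¹) = h * (t * t * x) * h⁻¹ by group, L.sq,
            one_mul] at h1
        · have h1 := hTP hp
          rwa [← mul_assoc t t, L.sq, one_mul] at h1
      obtain ⟨x, hx, hxd⟩ := T.onto _ (T.ctx.cls_mem hN)
      have h1 : cls K t (x⁻¹ * h) = 1 := by
        rw [T.ctx.cls_mul (inv_mem (T.nx hx)) hN, T.cls_inv hx,
          ← Subgroup.mem_centralizer_iff.1 (T.cent (inv_mem hx)) _ (T.ctx.cls_mem hN), mul_inv_cancel_right, hxd]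
        exact T.ctx.stage.elem.sq _ (T.ctx.cls_mem hN)
      have h2 := T.le (T.ctx.mem_X_of_cls S.isPGroup' (T.le.trans hS) (mul_mem (inv_mem (hS hx)) hh)
        (mul_mem (inv_mem (T.nx hx)) hN) h1)
      exact hh' (by simpa using mul_mem hx h2)
    exact (false_of_squares hno L.sq S P (hSX ▸ fun p hp => T.mem_of_P hp)
      (fun s hs => T.sq_mem (by rw [hSX]; exact hs)) (hSX ▸ T.le T.ctx.stage.t_mem_X) (T.ctx.stage.not_mem L)
      (fun y hy hc => hout y (by rw [hSX]; exact hy) hc)).elim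
  push Not at hout
  obtain ⟨u, hu, hut, htu⟩ := hout
  obtain ⟨P', hPP', hP'X, htP', hsplit, hnorm, hker, honto, hinf⟩ := T.exists_complement
  -- transport along `c`
  have hmove : ∀ q ∈ P', q ∉ P → ∀ y ∈ P', y ∉ P → ∃ k : ℕ, ∃ p ∈ P, c ^ k * q * (c ^ k)⁻¹ * p = y := by
    intro q hq hqP y hy hyP
    obtain ⟨k, hk⟩ := T.ctx.stage.elem.trans _ (T.ctx.cls_mem (T.nx (hP'X hq))) _
      (T.ctx.cls_mem (T.nx (hP'X hy))) (fun e => hqP (hker q hq e)) (fun e => hyP (hker y hy e))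
    have hq' : c ^ k * q * (c ^ k)⁻¹ ∈ P' := by
      clear hk
      induction k with
      | zero => simpa using hq
      | succ k ih =>
        rw [pow_succ', show c * c ^ k * q * (c * c ^ k)⁻¹ = c * (c ^ k * q * (c ^ k)⁻¹) * c⁻¹ by group]
        exact hnorm _ ih
    refine ⟨k, (c ^ k * q * (c ^ k)⁻¹)⁻¹ * y, hker _ (mul_mem (inv_mem hq') hy) ?_, by group⟩
    rw [T.cls_mul (inv_mem (hP'X hq')) (hP'X hy), T.cls_inv (hP'X hq'), T.cls_conj (hP'X hq), hk]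
    exact T.ctx.stage.elem.sq _ (T.ctx.cls_mem (T.nx (hP'X hy)))
  rcases hsplit u hu with hu' | hu'
  · -- `u ∈ P'` is impossible
    exfalso
    have huP : u ∉ P := fun h => T.ctx.stage.not_isConj L T.ctx.no_conj h hut
    have hall : ∀ y ∈ P', y ∉ P → IsConj t y := by
      intro y hy hyP
      obtain ⟨k, p, hp, rfl⟩ := hmove u hu' huP y hy hyP
      exact T.coset_class (T.pow_norm k u hu) (hut.trans (isConj_iff.2 ⟨c ^ k, rfl⟩)) hp
    have hinv : ∀ y ∈ P', y ∉ P → y * y = 1 := fun y hy hyP => L.sq_of_isConj (hall y hy hyP)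
    have hPD : ∀ p ∈ P, p * p = 1 := by
      intro p hp
      obtain ⟨d₁, hd₁, hd₁'⟩ := D.bot_or_exists_ne_one.resolve_left L.nontrivial
      obtain ⟨d₂, hd₂, hd₂', hne'⟩ := T.ctx.stage.elem.exists_ne d₁
      obtain ⟨y₁, hy₁, e₁⟩ := honto d₁ hd₁
      obtain ⟨y₂, hy₂, e₂⟩ := honto d₂ hd₂
      have hy₁P : y₁ ∉ P := fun h => hd₁' (e₁.symm.trans (T.ctx.cls_of_mem h))
      have hy₂P : y₂ ∉ P := fun h => hd₂' (e₂.symm.trans (T.ctx.cls_of_mem h))
      have h12 : y₁ * y₂ ∉ P := fun h => hne' (by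
        have := T.ctx.cls_of_mem h
        rw [T.cls_mul (hP'X hy₁) (hP'X hy₂), e₁, e₂] at this
        rw [← inv_eq_of_mul_eq_one_right this]
        exact inv_eq_of_mul_eq_one_right (T.ctx.stage.elem.sq _ hd₁))
      have key : ∀ {y}, y ∈ P' → y ∉ P → y * p * y = p⁻¹ := fun {y} hy hyP => by
        have h1 := hinv (y * p) (mul_mem hy (hPP' hp)) fun h => hyP (by simpa using mul_mem h (inv_mem hp))
        rw [show y * p * (y * p) = y * p * y * p by group] at h1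
        exact eq_inv_of_mul_eq_one_left h1
      have hy2 : y₂ * y₂ = 1 := hinv _ hy₂ hy₂P
      have hy1 : y₁ * y₁ = 1 := hinv _ hy₁ hy₁P
      have hcomm : y₁ * y₂ = y₂ * y₁ := by
        have h := inv_eq_of_mul_eq_one_right (hinv _ (mul_mem hy₁ hy₂) h12)
        rw [mul_inv_rev, inv_eq_of_mul_eq_one_right hy1, inv_eq_of_mul_eq_one_right hy2] at h
        exact h.symm
      have h3 := key (mul_mem hy₁ hy₂) h12
      have h4 : y₁ * p⁻¹ * y₁ = p := by
        have := congrArg (fun z => z⁻¹) (key hy₁ hy₁P)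
        simpa [mul_assoc, inv_eq_of_mul_eq_one_right hy1] using this
      rw [show y₁ * y₂ * p * (y₁ * y₂) = y₁ * y₂ * p * (y₂ * y₁) by rw [← hcomm],
        show y₁ * y₂ * p * (y₂ * y₁) = y₁ * (y₂ * p * y₂) * y₁ by group, key hy₂ hy₂P, h4] at h3
      calc p * p = p⁻¹ * p := by rw [← h3]
        _ = 1 := inv_mul_cancel p
    have hsq : ∀ y ∈ P', y * y = 1 := fun y hy => by
      by_cases h : y ∈ P
      exacts [hPD y h, hinv y hy h]
    have hle : P' ≤ centralizer ({u} : Set G) := fun y hy => mem_centralizer_singleton_iff.2 (by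
      have h := inv_eq_of_mul_eq_one_right (hsq _ (mul_mem hy hu'))
      rw [mul_inv_rev, inv_eq_of_mul_eq_one_right (hsq _ hy), inv_eq_of_mul_eq_one_right (hsq _ hu')] at h
      exact h.symm)
    have h1 := L.card_le (T.two.to_le hP'X) hut hle
    have h2 : Nat.card D * Nat.card D ≤ Nat.card P' := by
      rw [← Nat.card_prod]
      choose f hf hf' using fun d : D => honto d d.2
      refine Nat.card_le_card_of_injective (fun z : D × D =>
        (⟨f z.1 * z.2, mul_mem (hf _) (hPP' (T.ctx.stage.le z.2.2))⟩ : P')) fun a b e => ?_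
      have e' : f a.1 * (a.2 : G) = f b.1 * b.2 := congrArg Subtype.val e
      have h3 := congrArg (cls K t) e'
      rw [T.cls_mul (hP'X (hf _)) (T.mem_of_P (T.ctx.stage.le a.2.2)),
        T.cls_mul (hP'X (hf _)) (T.mem_of_P (T.ctx.stage.le b.2.2)), hf', hf',
        T.ctx.cls_of_mem (T.ctx.stage.le a.2.2), T.ctx.cls_of_mem (T.ctx.stage.le b.2.2), mul_one, mul_one] at h3
      have h4 : a.1 = b.1 := Subtype.ext h3
      rw [h4] at e'
      exact Prod.ext h4 (Subtype.ext (mul_left_cancel e'))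
    rw [L.card_S₀] at h1
    have := Nat.mul_le_mul_right (Nat.card D) T.ctx.stage.elem.four
    have := Nat.card_pos (α := D)
    omega
  · -- the next stage
    have hq : t * u ∉ P := htu
    have hall : ∀ y ∈ P', IsConj t (t * y) := by
      intro y hy
      by_cases hyP : y ∈ P
      · exact T.ctx.coset_all hne hyP
      obtain ⟨k, p, hp, rfl⟩ := hmove (t * u) hu' hq y hy hyP
      have h1 := T.coset_class (T.pow_norm k u hu) (hut.trans (isConj_iff.2 ⟨c ^ k, rfl⟩)) hp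
      have hct : t * c ^ k = c ^ k * t :=
        (comm_of_mem_cent (Subgroup.pow_mem _ T.ctx.stage.elem.gC k)).symm
      rwa [show t * (c ^ k * (t * u) * (c ^ k)⁻¹ * p) = t * c ^ k * t * u * (c ^ k)⁻¹ * p by group, hct,
        mul_assoc (c ^ k) t, L.sq, mul_one]
    refine ⟨P', ⟨T.ctx.stage.elem, T.two.to_le hP'X, T.ctx.stage.le.trans hPP', hinf, fun y hy => ?_, hnorm⟩,
      lt_of_le_of_ne hPP' fun e => hq (e ▸ hu')⟩
    have h1 := L.sq_of_isConj (hall y hy)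
    rw [show t * y * (t * y) = t * y * t * y by group] at h1
    exact eq_inv_of_mul_eq_one_left h1

end Trans

end Cfsg.Agent.H35.JT
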