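import Cfsg.Agent.H35.JT.Extra
import Cfsg.Agent.H35.JT.Translate
import Cfsg.Agent.H35.JT.GL3
import Cfsg.Agent.H53.Exotic.Main

/-!
# The exotic case

All elements of `N(X)` centralising `D` have trivial class: then `|D| = 8` and transfer gives a contradiction.
-/

set_option autoImplicit false

namespace Cfsg.Agent.H35.JT

open Subgroup

variable {G : Type*} [Group G] [Finite G] {t g : G} {S₀ D P : Subgroup G} {K : ℕ}

theorem Stage.cls_t (St : Stage t D P g) (L : Local t S₀ D) : cls K t t = 1 := by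
  rw [cls, show t * t * t⁻¹ = t by group, L.sq, one_pow]

/-- A subgroup of `NX` is inside `N(X)` when it maps `tP` into `tP`. -/
theorem Ctx.mem_NX_of_coset (C : Ctx t g S₀ D P K) {h : G}
    (hTP : ∀ p ∈ P, t * (h * (t * p) * h⁻¹) ∈ P) : h ∈ NX t P := by
  rw [Subgroup.mem_normalizer_iff_map_conj_eq]
  refine Subgroup.eq_of_le_of_card_ge ?_ (Subgroup.card_map_of_injective (MulAut.conj h).injective).ge
  rintro _ ⟨x, hx, rfl⟩
  show h * x * h⁻¹ ∈ P ⊔ zpowers t
  rcases (C.stage.mem_X C.loc).1 hx with hp | hp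
  · have h1 := mul_mem ((C.stage.mem_X C.loc).2 (Or.inr (hTP 1 (one_mem P))))
      ((C.stage.mem_X C.loc).2 (Or.inr (hTP x hp)))
    rwa [show h * (t * 1) * h⁻¹ * (h * (t * x) * h⁻¹) = h * (t * t * x) * h⁻¹ by group, C.loc.sq,
      one_mul] at h1
  · have h1 := hTP _ hp
    rw [← mul_assoc t t x, C.loc.sq, one_mul] at h1
    exact (C.stage.mem_X C.loc).2 (Or.inr h1)

/-- The exotic case is impossible. -/
theorem Ctx.exotic_false (C : Ctx t g S₀ D P K) (hno : ∀ H : Subgroup G, H.index ≠ 2)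
    (hne : ∃ h ∈ NX t P, cls K t h ≠ 1)
    (hex : ∀ h ∈ NX t P, h ∈ centralizer (D : Set G) → cls K t h = 1) : False := by
  classical
  have : Fact (Nat.Prime 2) := ⟨Nat.prime_two⟩
  have L := C.loc
  have E := C.stage.elem
  letI : CommGroup D :=
    { (inferInstance : Group D) with mul_comm := fun a b => Subtype.ext (E.comm a.2 b.2) }
  -- the action of `N(X)` on `D`
  let φ : NX t P →* MulAut D :=
    { toFun := fun h =>
        { toFun := fun d => ⟨(h : G) * d * (h : G)⁻¹, C.conj_memD h.2 d.2⟩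
          invFun := fun d => ⟨(h : G)⁻¹ * d * h, by simpa using C.conj_memD (inv_mem h.2) d.2⟩
          left_inv := fun d => Subtype.ext (by show (h : G)⁻¹ * ((h : G) * d * (h : G)⁻¹) * h = d; group)
          right_inv := fun d => Subtype.ext (by show (h : G) * ((h : G)⁻¹ * d * h) * (h : G)⁻¹ = d; group)
          map_mul' := fun a b => Subtype.ext (by
            show (h : G) * ((a : G) * b) * (h : G)⁻¹
              = (h : G) * a * (h : G)⁻¹ * ((h : G) * b * (h : G)⁻¹)
            group) }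
      map_one' := MulEquiv.ext fun d => Subtype.ext (by show (1 : G) * d * 1⁻¹ = d; group)
      map_mul' := fun h k => MulEquiv.ext fun d => Subtype.ext (by
        show (h : G) * k * d * ((h : G) * k)⁻¹ = (h : G) * ((k : G) * d * (k : G)⁻¹) * (h : G)⁻¹
        group) }
  have hφ : ∀ (h : NX t P) (d : D), ((φ h d : D) : G) = (h : G) * d * (h : G)⁻¹ := fun _ _ => rfl
  have hφ1 : ∀ h : NX t P, (h : G) ∈ centralizer (D : Set G) → φ h = 1 := fun h hh =>
    MulEquiv.ext fun d => Subtype.ext (by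
      rw [hφ, ← Subgroup.mem_centralizer_iff.1 hh _ d.2]; exact mul_inv_cancel_right _ _)
  have hφ1' : ∀ h : NX t P, φ h = 1 → (h : G) ∈ centralizer (D : Set G) := fun h hh => by
    refine Subgroup.mem_centralizer_iff.2 fun d hd => ?_
    have h1 : (h : G) * d * (h : G)⁻¹ = d := by
      have := congrArg (fun e : MulAut D => ((e ⟨d, hd⟩ : D) : G)) hh
      exact this
    calc d * (h : G) = (h : G) * d * (h : G)⁻¹ * h := by rw [h1]
      _ = (h : G) * d := inv_mul_cancel_right _ _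
  let H := φ.range
  let V := Additive D
  have : Finite H := Finite.of_surjective φ.rangeRestrict φ.rangeRestrict_surjective
  have hwd : ∀ h k : NX t P, φ h = φ k → cls K t (h : G) = cls K t (k : G) := by
    intro h k e
    have h1 : φ (k⁻¹ * h) = 1 := by rw [map_mul, map_inv, e, inv_mul_cancel]
    have h2 := hex _ (k⁻¹ * h).2 (hφ1' _ h1)
    have h3 := C.cls_mul k.2 (k⁻¹ * h).2
    rw [h2, mul_one, mul_inv_cancel, mul_one] at h3
    rw [← h3]
    congr 1
    simp
  let b : H → V := fun σ => Additive.ofMul ⟨cls K t ((Classical.choose σ.2 : NX t P) : G),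
    C.cls_mem (Classical.choose σ.2).2⟩
  have hb : ∀ h : NX t P, b (φ.rangeRestrict h) = Additive.ofMul ⟨cls K t (h : G), C.cls_mem h.2⟩ := fun h => by
    simp only [b, EmbeddingLike.apply_eq_iff_eq, Subtype.mk.injEq]
    exact hwd _ _ (Classical.choose_spec (φ.rangeRestrict h).2)
  let Lh : H →* AddMonoid.End V :=
    { toFun := fun σ => MonoidHom.toAdditive ((σ : MulAut D).toMonoidHom)
      map_one' := rfl
      map_mul' := fun σ τ => rfl }
  have hLinj : Function.Injective Lh := fun σ τ e => Subtype.ext (MulEquiv.ext fun d =>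
    congrArg Additive.toMul (DFunLike.congr_fun e (Additive.ofMul d)))
  have hL : ∀ (h : NX t P) (d : D), Additive.toMul (Lh (φ.rangeRestrict h) (Additive.ofMul d)) = φ h d :=
    fun _ _ => rfl
  have hcoc : ∀ σ τ, b (σ * τ) = b σ + Lh σ (b τ) := by
    intro σ τ
    obtain ⟨h, rfl⟩ := φ.rangeRestrict_surjective σ
    obtain ⟨k, rfl⟩ := φ.rangeRestrict_surjective τ
    rw [← map_mul, hb, hb, hb]
    exact congrArg Additive.ofMul (Subtype.ext (C.cls_mul h.2 k.2))
  have hsurj : Function.Surjective b := by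
    intro v
    obtain ⟨h₁, hh₁, hc₁⟩ := hne
    obtain ⟨k, hk, e⟩ := C.cls_surjective hh₁ hc₁ (Additive.toMul v).2
    exact ⟨φ.rangeRestrict ⟨k, hk⟩, by rw [hb]; exact congrArg Additive.ofMul (Subtype.ext e)⟩
  set u : H := φ.rangeRestrict ⟨g, C.g_mem⟩ with hu
  have hu0 : b u = 0 := by
    rw [hu, hb]
    exact congrArg Additive.ofMul (Subtype.ext (C.cls_of_cent E.gC))
  have htr : ∀ v w : V, v ≠ 0 → w ≠ 0 → ∃ k : ℕ, Lh (u ^ k) v = w := by
    intro v w hv hw
    obtain ⟨k, hk⟩ := E.trans _ (Additive.toMul v).2 _ (Additive.toMul w).2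
      (fun e => hv (congrArg Additive.ofMul (Subtype.ext e : Additive.toMul v = 1)))
      (fun e => hw (congrArg Additive.ofMul (Subtype.ext e : Additive.toMul w = 1)))
    refine ⟨k, ?_⟩
    rw [hu, ← map_pow]
    refine Additive.toMul.injective (Subtype.ext ?_)
    exact hk
  have hstab : ∀ σ : H, b σ = 0 →
      ∃ c : NX t P, (c : G) ∈ centralizer ({t} : Set G) ∧ φ.rangeRestrict c = σ := by
    intro σ hσ
    obtain ⟨h, rfl⟩ := φ.rangeRestrict_surjective σ
    rw [hb] at hσ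
    obtain ⟨x, hx, hc⟩ := C.exists_of_cls_eq_one h.2 (congrArg (fun v : V => ((Additive.toMul v : D) : G)) hσ)
    have hxn : x ∈ NX t P := C.mem_NX_of_X (mem_sup_left hx)
    refine ⟨⟨x, hxn⟩⁻¹ * h, hc, Subtype.ext ?_⟩
    show φ (⟨x, hxn⟩⁻¹ * h) = φ h
    rw [map_mul, map_inv, hφ1 ⟨x, hxn⟩ (C.X_le_cent_D (mem_sup_left hx)), inv_one, one_mul]
  have hnorm : ∀ σ, b σ = 0 → ∃ k : ℕ, σ * u * σ⁻¹ = u ^ k := by
    intro σ hσ
    obtain ⟨c, hc, rfl⟩ := hstab σ hσ
    obtain ⟨k, hk⟩ := E.semi c hc fun d hd => C.conj_memD c.2 hd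
    refine ⟨k, ?_⟩
    rw [mul_inv_eq_iff_eq_mul, hu, ← map_pow, ← map_mul, ← map_mul]
    refine Subtype.ext (MulEquiv.ext fun d => Subtype.ext ?_)
    show (c : G) * g * d * ((c : G) * g)⁻¹ = g ^ k * c * d * (g ^ k * (c : G))⁻¹
    rw [show (c : G) * g * d * ((c : G) * g)⁻¹ = c * (g * d * g⁻¹) * (c : G)⁻¹ by group, hk d d.2]
    group
  have hodd : ∀ σ, b σ = 0 → Odd (orderOf σ) := by
    intro σ hσ
    obtain ⟨c, hc, rfl⟩ := hstab σ hσ
    obtain ⟨a, m, hm, ha⟩ := Nat.exists_eq_two_pow_mul_odd (orderOf_pos (c : G)).ne'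
    refine hm.of_dvd_nat (orderOf_dvd_of_pow_eq_one ?_)
    have h2 : IsPGroup 2 (zpowers ((c : G) ^ m)) := IsPGroup.of_card (n := a) (by
      rw [Nat.card_zpowers, orderOf_pow' (c : G) hm.pos.ne', ha,
        Nat.gcd_eq_right (dvd_mul_left m (2 ^ a)), Nat.mul_div_cancel _ hm.pos])
    have hnS : zpowers ((c : G) ^ m) ≤ normalizer (S₀ : Set G) := by
      rw [zpowers_le]
      refine Subgroup.pow_mem _ ?_ m
      rw [Subgroup.mem_normalizer_iff_map_conj_eq]
      refine Subgroup.eq_of_le_of_card_ge ?_ (Subgroup.card_map_of_injective (MulAut.conj (c : G)).injective).ge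
      rintro _ ⟨s, hs, rfl⟩
      show (c : G) * s * (c : G)⁻¹ ∈ S₀
      rcases L.split s hs with h | h
      · exact L.D_le (C.conj_memD c.2 h)
      · have h1 := C.conj_memD c.2 h
        rw [show (c : G) * (t * s) * (c : G)⁻¹ = (c : G) * t * (c : G)⁻¹ * ((c : G) * s * (c : G)⁻¹) by group,
          conj_fix_of_mem_cent hc] at h1
        have := mul_mem L.mem (L.D_le h1)
        rwa [← mul_assoc, L.sq, one_mul] at this
    have hm' : (c : G) ^ m ∈ S₀ := L.mem_of_two_group (L.two.to_sup_of_normal_left' h2 hnS) le_sup_left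
      (mem_sup_right (mem_zpowers _)) (Subgroup.pow_mem _ hc m)
    rw [← map_pow]
    refine Subtype.ext (hφ1 (c ^ m) ?_)
    exact C.X_le_cent_D (C.stage.S₀_le_X L (by simpa using hm'))
  -- the order of `D`
  obtain ⟨n, hn⟩ := IsPGroup.iff_card.1 (L.two.to_le L.D_le)
  have hn2 : 2 ≤ n := by
    rcases Nat.lt_or_ge n 2 with h | h
    · have := E.four
      rw [hn] at this
      interval_cases n <;> omega
    · exact h
  have hV2 : ∀ v : V, v + v = 0 := fun v =>
    Additive.toMul.injective (Subtype.ext (E.sq _ (Additive.toMul v).2))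
  have hn3 : n = 3 := H53.Exotic.eq_three hn2 (by rw [← hn]; rfl) hV2 Lh hLinj b hcoc hsurj u hu0 htr hnorm hodd
  have hD8 : Nat.card D = 8 := by rw [hn, hn3]; norm_num
  have hV8 : Nat.card V = 8 := hD8
  have hb1 : b 1 = 0 := by
    have := hcoc 1 1
    rw [mul_one, map_one] at this
    exact left_eq_add.1 this
  have hbdiff : ∀ σ τ, b σ = b τ → b (σ⁻¹ * τ) = 0 := fun σ τ e => by
    rw [hcoc, ← e, ← hcoc, inv_mul_cancel, hb1]
  have hone : ∀ σ : H, b σ = 0 → ∀ k : ℕ, σ ^ (2 ^ k) = 1 → σ = 1 := fun σ hσ k hk => by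
    obtain ⟨i, -, hi⟩ := (Nat.dvd_prime_pow Nat.prime_two).1 (orderOf_dvd_of_pow_eq_one hk)
    have h1 := hodd σ hσ
    rw [hi] at h1
    rcases Nat.eq_zero_or_pos i with rfl | hi0
    · exact orderOf_eq_one_iff.1 (by simpa using hi)
    · exact absurd h1 (Nat.not_odd_iff_even.2 ((Nat.even_pow).2 ⟨even_two, hi0.ne'⟩))
  -- no subgroup of index two
  have hnoH : ∀ N : Subgroup H, N.index ≠ 2 := by
    intro N hN
    have hNodd : ∀ σ, Odd (orderOf σ) → σ ∈ N := by
      intro σ hσ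
      obtain ⟨j, hj⟩ := hσ
      have h1 : σ ^ (2 * j + 1) = 1 := by rw [← hj, pow_orderOf_eq_one]
      rw [pow_succ, pow_mul] at h1
      have h2 : (σ ^ 2) ^ j ∈ N := Subgroup.pow_mem _ (Subgroup.sq_mem_of_index_two hN σ) j
      rw [eq_inv_of_mul_eq_one_right h1]
      exact inv_mem h2
    have huN : u ∈ N := hNodd u (hodd u hu0)
    have hstabN : ∀ σ, b σ = 0 → σ ∈ N := fun σ h => hNodd σ (hodd σ h)
    obtain ⟨σ₀, hσ₀, hσ₀'⟩ : ∃ σ ∈ N, b σ ≠ 0 := by
      by_contra hc
      push Not at hc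
      have hne1 : ∃ σ, σ ∉ N := by
        by_contra hall
        push Not at hall
        rw [(eq_top_iff' N).2 hall, Subgroup.index_top] at hN
        omega
      obtain ⟨σ₁, hσ₁⟩ := hne1
      have hval : ∀ σ, b σ = 0 ∨ b σ = b σ₁ := fun σ => by
        by_cases h : σ ∈ N
        · exact Or.inl (hc σ h)
        · right
          have hm : σ₁⁻¹ * σ ∈ N := (Subgroup.mul_mem_iff_of_index_two hN).2 (by simp [h, hσ₁])
          have := hcoc σ₁ (σ₁⁻¹ * σ)
          rw [mul_inv_cancel_left, hc _ hm, map_zero, add_zero] at this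
          exact this
      have h2 : Nat.card V ≤ 2 := by
        refine (Nat.card_le_card_of_surjective (fun i : Bool => cond i 0 (b σ₁)) fun v => ?_).trans (by simp)
        obtain ⟨σ, rfl⟩ := hsurj v
        rcases hval σ with h | h
        exacts [⟨true, h.symm⟩, ⟨false, h.symm⟩]
      omega
    refine (by omega : ¬ (1 = 2)) (hN ▸ (Subgroup.index_eq_one.2 ((eq_top_iff' N).2 fun σ => ?_)).symm)
    by_cases h : b σ = 0
    · exact hstabN σ h
    · obtain ⟨k, hk⟩ := htr _ _ hσ₀' h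
      have h1 : b (u ^ k * σ₀) = b σ := by
        rw [hcoc, hk, add_eq_right]
        clear hk
        induction k with
        | zero => rw [pow_zero, hb1]
        | succ k ih => rw [pow_succ, hcoc, ih, hu0, map_zero, add_zero]
      have h2 := mul_mem (mul_mem (Subgroup.pow_mem _ huN k) hσ₀) (hstabN _ (hbdiff _ _ h1))
      rwa [mul_inv_cancel_left] at h2
  -- a Sylow subgroup above `X`
  obtain ⟨Q, hQX⟩ := IsPGroup.exists_le_sylow ((C.stage.two_X L).comap_subtype (K := NX t P))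
  set X' : Subgroup G := (Q : Subgroup (NX t P)).map (NX t P).subtype with hX'
  have hX'2 : IsPGroup 2 X' := Q.isPGroup'.map _
  have hXX' : P ⊔ zpowers t ≤ X' := fun x hx => ⟨⟨x, C.mem_NX_of_X hx⟩, hQX hx, rfl⟩
  have hX'n : X' ≤ NX t P := Subgroup.map_subtype_le _
  have hker : ∀ x : NX t P, x ∈ (Q : Subgroup (NX t P)) →
      (φ.rangeRestrict x = 1 ↔ (x : G) ∈ P ⊔ zpowers t) := by
    intro x hx
    refine ⟨fun h => ?_, fun h => Subtype.ext (hφ1 x (C.X_le_cent_D h))⟩
    exact C.mem_X_of_cls hX'2 hXX' ⟨x, hx, rfl⟩ x.2 (hex _ x.2 (hφ1' x (congrArg Subtype.val h)))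
  set R : Subgroup H := (Q : Subgroup (NX t P)).map φ.rangeRestrict with hR
  have hR2 : IsPGroup 2 R := Q.isPGroup'.map _
  have hRi : ¬ 2 ∣ R.index := fun h =>
    Q.not_dvd_index (h.trans (Subgroup.index_map_dvd _ φ.rangeRestrict_surjective))
  have hR8 : Nat.card R = 8 := by
    obtain ⟨e, he⟩ := IsPGroup.iff_card.1 hR2
    have h1 : Nat.card R ≤ 8 := by
      rw [← hV8]
      refine Nat.card_le_card_of_injective (fun σ : R => b (σ : H)) fun σ τ e' => ?_
      have hm : (σ : H)⁻¹ * τ ∈ R := mul_mem (inv_mem σ.2) τ.2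
      obtain ⟨k, hk⟩ := hR2 ⟨_, hm⟩
      exact Subtype.ext (inv_mul_eq_one.1 (hone _ (hbdiff _ _ e') k (congrArg Subtype.val hk)))
    let St : Subgroup H :=
      { carrier := {σ | b σ = 0}
        one_mem' := hb1
        mul_mem' := fun {a c} ha hc => by
          show b (a * c) = 0
          rw [hcoc, show b a = 0 from ha, show b c = 0 from hc, map_zero, add_zero]
        inv_mem' := fun {a} ha => by
          show b a⁻¹ = 0
          have := hcoc a⁻¹ a
          rw [inv_mul_cancel, hb1, show b a = 0 from ha, map_zero, add_zero] at this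
          exact this.symm }
    have hSi : St.index = 8 := by
      rw [← hV8]
      refine Nat.card_congr (Equiv.ofBijective (Quotient.lift b fun σ τ h => ?_) ⟨?_, fun v => ?_⟩)
      · have h1 : b (σ⁻¹ * τ) = 0 := QuotientGroup.leftRel_apply.1 h
        have h2 := hcoc σ (σ⁻¹ * τ)
        rw [mul_inv_cancel_left, h1, map_zero, add_zero] at h2
        exact h2.symm
      · intro x y
        exact Quotient.inductionOn₂ x y fun σ τ h =>
          Quotient.sound (QuotientGroup.leftRel_apply.2 (hbdiff σ τ h))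
      · obtain ⟨σ, rfl⟩ := hsurj v
        exact ⟨Quotient.mk _ σ, rfl⟩
    have h8 : 2 ^ 3 ∣ Nat.card H := ⟨Nat.card St, by rw [← St.card_mul_index, hSi]; ring⟩
    rw [← R.card_mul_index] at h8
    have h3 : 2 ^ 3 ∣ Nat.card R :=
      (((Nat.prime_two.coprime_iff_not_dvd).2 hRi).pow_left 3).dvd_of_dvd_mul_right h8
    have := Nat.le_of_dvd Nat.card_pos h3
    omega
  have hX'card : Nat.card X' = 8 * (2 * Nat.card P) := by
    let ψ := φ.rangeRestrict.comp (Q : Subgroup (NX t P)).subtype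
    have h1 := ψ.ker.card_mul_index
    rw [Subgroup.index_ker] at h1
    have hr : ψ.range = R := by
      ext σ
      constructor
      · rintro ⟨x, rfl⟩; exact ⟨x, x.2, rfl⟩
      · rintro ⟨x, hx, rfl⟩; exact ⟨⟨x, hx⟩, rfl⟩
    have hk : Nat.card ψ.ker = Nat.card (P ⊔ zpowers t : Subgroup G) := Nat.card_congr
      { toFun := fun x => ⟨((x : (Q : Subgroup (NX t P))) : NX t P), (hker _ x.1.2).1 x.2⟩
        invFun := fun x => ⟨⟨⟨x, C.mem_NX_of_X x.2⟩, hQX x.2⟩,
          (hker ⟨x, C.mem_NX_of_X x.2⟩ (hQX x.2)).2 x.2⟩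
        left_inv := fun x => rfl
        right_inv := fun x => rfl }
    rw [hr, hR8, hk, C.stage.card_X L] at h1
    rw [hX', Subgroup.card_map_of_injective (NX t P).subtype_injective, ← h1]
    ring
  -- the element of order four
  obtain ⟨r₀, hr₀, huniq, hfour⟩ :=
    order_four_unique hR8 hV8 hV2 (Lh.comp R.subtype) (hLinj.comp R.subtype_injective)
  have hcentral : ∀ s : R, s * (r₀ * r₀) * s⁻¹ = r₀ * r₀ := by
    intro s
    have h1 : s * r₀ * s⁻¹ * (s * r₀ * s⁻¹) = s * (r₀ * r₀) * s⁻¹ := by group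
    rcases huniq (s * r₀ * s⁻¹) (by rw [h1]; exact fun e => hr₀ (conj_eq_one_iff.1 e)) with e | e
    · rw [← h1, e]
    · rw [← h1, e, show r₀ * (r₀ * r₀) * (r₀ * (r₀ * r₀)) = r₀ * r₀ * (r₀ * r₀) * (r₀ * r₀) by group, hfour,
        one_mul]
  -- conjugates of `t` lie in `X`
  have hTX : ∀ x ∈ X', IsConj t x → t * x ∈ P := by
    intro x hx hxt
    refine C.stage.mem_of_isConj L C.no_conj ?_ hxt
    by_contra hxX
    obtain ⟨y, hy, rfl⟩ := hx
    set r : H := φ.rangeRestrict y with hr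
    have hrR : r ∈ R := ⟨y, hy, rfl⟩
    have hy2 : y * y = 1 := Subtype.ext (L.sq_of_isConj hxt)
    have hr1 : r ≠ 1 := fun e => hxX ((hker y hy).1 e)
    have hrord : orderOf r = 2 := orderOf_eq_prime (by rw [pow_two, hr, ← map_mul, hy2, map_one]) hr1
    obtain ⟨RS, hRS⟩ : ∃ S : Sylow 2 H, (S : Subgroup H) = R := ⟨hR2.toSylow hRi, rfl⟩
    set z : R := r₀ * r₀ with hz
    have hconj : IsConj r (z : H) := by
      set Q4 : Subgroup H := zpowers (r₀ : H) with hQ4
      have hQ4R : Q4 ≤ R := zpowers_le.2 r₀.2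
      have h4 : orderOf (r₀ : H) = 4 := orderOf_eq_prime_pow (p := 2) (n := 1)
        (by rw [pow_one, pow_two]; exact fun e => hr₀ (Subtype.ext e))
        (by rw [show (2 : ℕ) ^ (1 + 1) = 2 + 2 by norm_num, pow_add, pow_two]
            exact congrArg Subtype.val (hfour r₀))
      have hrel : Q4.relIndex R = 2 := by
        have h1 := (Q4.subgroupOf R).card_mul_index
        rw [Nat.card_congr (Subgroup.subgroupOfEquivOfLe hQ4R).toEquiv, hQ4, Nat.card_zpowers, h4, hR8] at h1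
        rw [Subgroup.relIndex, hQ4]
        omega
      by_contra hnc
      refine false_of_avoid hnoH RS Q4 (hRS ▸ hQ4R) (hRS ▸ hrel) hrord fun w hw hcw => hnc ?_
      obtain ⟨σ, hσ⟩ := isConj_iff.1 hcw
      have hw2 : w * w = 1 := by
        rw [← hσ]; exact sq_conj (by rw [← pow_two, ← hrord, pow_orderOf_eq_one]) σ
      have hw1 : w ≠ 1 := fun e => hr1 (conj_eq_one_iff.1 (hσ.trans e))
      obtain ⟨i, hi⟩ := Submonoid.mem_powers_iff _ _ |>.1
        ((IsOfFinOrder.mem_powers_iff_mem_zpowers (isOfFinOrder_of_finite (r₀ : H))).2 (hQ4 ▸ hw))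
      subst hi
      have h2i : 4 ∣ i + i := h4 ▸ orderOf_dvd_of_pow_eq_one (by rw [pow_add]; exact hw2)
      have h2i' : ¬ 4 ∣ i := fun h => hw1 (by rw [← h4] at h; exact orderOf_dvd_iff_pow_eq_one.1 h)
      have he : (r₀ : H) ^ i = (z : H) := by
        rw [← pow_mod_orderOf, h4, show i % 4 = 2 by omega, pow_two, hz, Subgroup.coe_mul]
      exact he ▸ hcw
    obtain ⟨σ, hσ⟩ := isConj_iff.1 hconj
    obtain ⟨h, rfl⟩ := φ.rangeRestrict_surjective σ
    set M : Subgroup (NX t P) := R.comap φ.rangeRestrict with hM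
    have hQM : (Q : Subgroup (NX t P)) ≤ M := fun q hq => ⟨q, hq, rfl⟩
    have hy' : h * y * h⁻¹ ∈ M := by
      show φ.rangeRestrict (h * y * h⁻¹) ∈ R
      rw [map_mul, map_mul, map_inv, ← hr, hσ]
      exact z.2
    have h2 : IsPGroup 2 (zpowers (⟨_, hy'⟩ : M)) := IsPGroup.of_card (n := 1) (by
      rw [Nat.card_zpowers, pow_one]
      refine orderOf_eq_prime (Subtype.ext ?_) fun e => hr1 ?_
      · show (h * y * h⁻¹) ^ 2 = 1
        rw [pow_two, sq_conj hy2]
      · have e' : h * y * h⁻¹ = 1 := congrArg Subtype.val e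
        rw [hr, conj_eq_one_iff.1 e', map_one])
    obtain ⟨Q₁, hQ₁⟩ := h2.exists_le_sylow
    obtain ⟨m, hm⟩ := MulAction.exists_smul_eq M Q₁ (Q.subtype hQM)
    set x₂ : NX t P := (m : NX t P) * (h * y * h⁻¹) * (m : NX t P)⁻¹ with hx₂
    have hx₂Q : x₂ ∈ (Q : Subgroup (NX t P)) := by
      have h1 : m * ⟨_, hy'⟩ * m⁻¹ ∈ ((Q.subtype hQM : Sylow 2 M) : Subgroup M) := by
        rw [← hm, Sylow.coe_subgroup_smul]
        exact ⟨_, hQ₁ (mem_zpowers _), rfl⟩
      exact h1
    have hx₂z : φ.rangeRestrict x₂ = (z : H) := by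
      rw [hx₂, map_mul, map_mul, map_inv, map_mul φ.rangeRestrict (h * y), map_mul, map_inv, ← hr, hσ]
      have := congrArg Subtype.val (hcentral ⟨_, m.2⟩)
      exact this
    have hz1 : (z : H) ≠ 1 := fun e => hr₀ (Subtype.ext e)
    have hx₂X : (x₂ : G) ∉ P ⊔ zpowers t := fun h' => hz1 (hx₂z ▸ (hker x₂ hx₂Q).2 h')
    have hx₂T : IsConj t (x₂ : G) := hxt.trans (isConj_iff.2 ⟨((m * h : NX t P) : G), by
      rw [hx₂]; show ((m : NX t P) : G) * h * y * (((m : NX t P) : G) * h)⁻¹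
        = ((m : NX t P) : G) * (h * y * (h : G)⁻¹) * ((m : NX t P) : G)⁻¹
      group⟩)
    set w := (x₂ : G) with hw
    have hwn : w ∈ NX t P := x₂.2
    have hw2 : w * w = 1 := L.sq_of_isConj hx₂T
    have hwinv : w⁻¹ = w := inv_eq_of_mul_eq_one_right hw2
    let I : Subgroup P :=
      { carrier := {p | w * (p : G) * w = (p : G)⁻¹}
        one_mem' := by show w * (1 : G) * w = (1 : G)⁻¹; rw [mul_one, hw2, inv_one]
        mul_mem' := fun {a c} ha hc => by
          show w * ((a : G) * c) * w = ((a : G) * c)⁻¹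
          rw [show w * ((a : G) * c) * w = w * a * 1 * c * w by group, ← hw2,
            show w * (a : G) * (w * w) * c * w = w * a * w * (w * c * w) by group,
            show w * (a : G) * w = (a : G)⁻¹ from ha, show w * (c : G) * w = (c : G)⁻¹ from hc,
            C.stage.mul_comm' L a.2 c.2, mul_inv_rev]
        inv_mem' := fun {a} ha => by
          show w * (a : G)⁻¹ * w = ((a : G)⁻¹)⁻¹
          have := congrArg (fun q => q⁻¹) (show w * (a : G) * w = (a : G)⁻¹ from ha)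
          simpa [mul_assoc, hwinv] using this }
    let A : Set G := (fun p : P => w * p) '' (I : Set P)
    have hA : ∀ s ∈ X', s * w * s⁻¹ ∈ A := by
      intro s hs
      obtain ⟨q, hq, rfl⟩ := hs
      set v := q * x₂ * q⁻¹ with hv
      have hvQ : x₂ * v ∈ (Q : Subgroup (NX t P)) := mul_mem hx₂Q (mul_mem (mul_mem hq hx₂Q) (inv_mem hq))
      have hφv : φ.rangeRestrict (x₂ * v) = 1 := by
        have h1 : φ.rangeRestrict q * (z : H) * (φ.rangeRestrict q)⁻¹ = z :=
          congrArg Subtype.val (hcentral ⟨_, q, hq, rfl⟩)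
        rw [map_mul, hv, map_mul φ.rangeRestrict (q * x₂), map_mul φ.rangeRestrict q, map_inv, hx₂z, h1]
        exact congrArg Subtype.val (hfour r₀)
      have hmem := (hker _ hvQ).1 hφv
      set v' := (v : G) with hv'
      change w * v' ∈ P ⊔ zpowers t at hmem
      have hv2 : v' * v' = 1 := sq_conj hw2 _
      have hinv : w * (w * v') * w = (w * v')⁻¹ := by
        rw [mul_inv_rev, hwinv, inv_eq_of_mul_eq_one_right hv2, ← mul_assoc w w, hw2, one_mul]
      have hP : w * v' ∈ P := by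
        refine ((C.stage.mem_X L).1 hmem).resolve_right fun hp => ?_
        have h1 := C.stage.sq_tmul L hp
        rw [← mul_assoc t t, L.sq, one_mul] at h1
        rw [inv_eq_of_mul_eq_one_right h1] at hinv
        refine C.not_commute hne hX'2 hXX' (x := w) ⟨x₂, hx₂Q, rfl⟩ hx₂X hp ?_
        rw [← mul_assoc t t, L.sq, one_mul]
        conv_rhs => rw [← hinv]
        rw [mul_assoc _ w w, hw2, mul_one]
      refine ⟨⟨w * v', hP⟩, hinv, ?_⟩
      show w * (w * v') = v'
      rw [← mul_assoc, hw2, one_mul]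
    have h1 := L.card_class_le hX'2 hx₂T A hA
    rw [hX'card, L.card_S₀, hD8] at h1
    have h2 : A.ncard = Nat.card I := by
      rw [Set.ncard_image_of_injective _ (fun a c e => Subtype.ext (mul_left_cancel e)), ← Nat.card_coe_set_eq]
      rfl
    have hI : I = ⊤ := I.eq_top_of_le_card (by omega)
    refine hz1 (hx₂z ▸ Subtype.ext (hφ1 x₂ (Subgroup.mem_centralizer_iff.2 fun d hd => ?_)))
    have hd' : (⟨d, C.stage.le hd⟩ : P) ∈ I := hI ▸ mem_top _
    have h3 : w * d * w = d⁻¹ := hd'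
    rw [inv_eq_of_mul_eq_one_right (E.sq d hd)] at h3
    conv_lhs => rw [← h3]
    rw [mul_assoc _ w w, hw2, mul_one]
  -- `X'` is a Sylow subgroup
  obtain ⟨S, hS⟩ := hX'2.exists_le_sylow
  have hSX : X' = S := by
    by_contra hn
    obtain ⟨h, hh, hh', hhn⟩ := exists_normalizing S.isPGroup' hS hn
    have hN : h ∈ NX t P := C.mem_NX_of_coset fun p hp => hTX _
      ((Subgroup.mem_normalizer_iff.1 hhn _).1 (mul_mem (hXX' C.stage.t_mem_X) (hXX' (mem_sup_left hp))))
      ((C.coset_all hne hp).trans (isConj_iff.2 ⟨h, rfl⟩))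
    have hle : (Q : Subgroup (NX t P)) ≤ (S : Subgroup G).comap (NX t P).subtype :=
      fun q hq => hS ⟨q, hq, rfl⟩
    have heq := Q.is_maximal' (S.isPGroup'.comap_subtype) hle
    exact hh' ⟨⟨h, hN⟩, heq ▸ hh, rfl⟩
  -- the squares
  obtain ⟨x₀, hx₀, hx₀r⟩ : ∃ x₀ ∈ (Q : Subgroup (NX t P)), φ.rangeRestrict x₀ = (r₀ : H) := r₀.2
  set y₀ : G := (x₀ : G) * x₀ with hy₀
  have hx₀X' : (x₀ : G) ∈ X' := ⟨x₀, hx₀, rfl⟩
  have hy₀n : y₀ ∈ NX t P := mul_mem x₀.2 x₀.2
  have hsqX : ∀ s ∈ X', s * s ∈ P ⊔ zpowers t → s * s ∈ P := fun s hs hm =>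
    ((C.stage.mem_X L).1 hm).resolve_right fun hp => by
      have h1 := C.coset_all hne hp
      rw [← mul_assoc t t, L.sq, one_mul] at h1
      exact L.not_isConj_sq E hX'2 hs h1
  have hz2 : φ.rangeRestrict (x₀ * x₀ * (x₀ * x₀)) = 1 := by
    rw [map_mul, map_mul, hx₀r]
    exact congrArg Subtype.val (hfour r₀)
  have hy₀P : y₀ * y₀ ∈ P := hsqX _ (mul_mem hx₀X' hx₀X')
    ((hker _ (mul_mem (mul_mem hx₀ hx₀) (mul_mem hx₀ hx₀))).1 hz2)
  let W : Subgroup G :=
    { carrier := {w | w ∈ P ∨ y₀ * w ∈ P}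
      one_mem' := Or.inl (one_mem P)
      mul_mem' := by
        rintro a c (ha | ha) (hc | hc)
        · exact Or.inl (mul_mem ha hc)
        · refine Or.inr ?_
          rw [show y₀ * (a * c) = y₀ * a * y₀⁻¹ * (y₀ * c) by group]
          exact mul_mem (C.conj_mem hy₀n ha) hc
        · exact Or.inr (by rw [← mul_assoc]; exact mul_mem ha hc)
        · refine Or.inl ?_
          rw [show a * c = y₀⁻¹ * (y₀ * a) * y₀⁻¹⁻¹ * (y₀ * y₀)⁻¹ * (y₀ * c) by group]
          exact mul_mem (mul_mem (C.conj_mem (inv_mem hy₀n) ha) (inv_mem hy₀P)) hc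
      inv_mem' := by
        rintro a (ha | ha)
        · exact Or.inl (inv_mem ha)
        · refine Or.inr ?_
          rw [show y₀ * a⁻¹ = y₀ * (y₀ * a)⁻¹ * y₀⁻¹ * (y₀ * y₀) by group]
          exact mul_mem (C.conj_mem hy₀n (inv_mem ha)) hy₀P }
  have hWX' : W ≤ X' := by
    rintro w (hw | hw)
    · exact hXX' (mem_sup_left hw)
    · have h1 := mul_mem (inv_mem (show y₀ ∈ X' from mul_mem hx₀X' hx₀X')) (hXX' (mem_sup_left hw))
      rwa [inv_mul_cancel_left] at h1
  have hcomX : ∀ {s a : G}, s ∈ NX t P → a ∈ P ⊔ zpowers t → s⁻¹ * a * s * a ∈ P := by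
    intro s a hs ha
    rcases (C.stage.mem_X L).1 ha with hp | hp
    · exact mul_mem (by simpa using C.conj_mem (inv_mem hs) hp) hp
    · have h1 := C.stage.mem_of_isConj L C.no_conj ((Subgroup.mem_normalizer_iff.1 (inv_mem hs) _).1 ha)
        ((C.coset_all hne hp).trans (isConj_iff.2 ⟨s⁻¹, by rw [← mul_assoc t t, L.sq, one_mul]⟩))
      rw [inv_inv] at h1
      rw [show s⁻¹ * a * s * a = t⁻¹ * (t * (s⁻¹ * a * s)) * t * (t⁻¹ * a) by group, L.inv, C.stage.inverted _ h1]
      exact mul_mem (inv_mem h1) hp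
  have hsq : ∀ s ∈ X', s * s ∈ W := by
    intro s hs
    obtain ⟨q, hq, rfl⟩ := hs
    set σ : R := ⟨φ.rangeRestrict q, q, hq, rfl⟩ with hσdef
    by_cases hσ : σ * σ = 1
    · left
      refine hsqX _ ⟨q, hq, rfl⟩ ((hker (q * q) (mul_mem hq hq)).1 ?_)
      rw [map_mul]
      exact congrArg Subtype.val hσ
    · right
      have key : ∀ e : NX t P, e ∈ (Q : Subgroup (NX t P)) → φ.rangeRestrict e = (σ : H) →
          (y₀ * ((e : G) * e) ∈ P) → y₀ * ((q : G) * q) ∈ P := by
        intro e he heσ hey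
        have ha : ((e⁻¹ * q : NX t P) : G) ∈ P ⊔ zpowers t :=
          (hker _ (mul_mem (inv_mem he) hq)).1 (by rw [map_mul, map_inv, heσ]; exact inv_mul_cancel _)
        push_cast at ha
        rw [show y₀ * ((q : G) * q)
          = y₀ * ((e : G) * e) * ((e : G)⁻¹ * ((e : G)⁻¹ * q) * e * ((e : G)⁻¹ * q)) by group]
        exact mul_mem hey (hcomX e.2 ha)
      rcases huniq σ hσ with e | e
      · exact key x₀ hx₀ (by rw [hx₀r, e]) hy₀P
      · refine key (x₀ * (x₀ * x₀)) (mul_mem hx₀ (mul_mem hx₀ hx₀)) (by rw [map_mul, map_mul, hx₀r, e]; rfl) ?_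
        push_cast
        rw [show y₀ * ((x₀ : G) * (x₀ * x₀) * (x₀ * ((x₀ : G) * x₀))) = y₀ * y₀ * (y₀ * y₀) by
          simp only [hy₀]; group]
        exact mul_mem hy₀P hy₀P
  have htW : t ∉ W := by
    rintro (h | h)
    · exact C.stage.not_mem L h
    · refine hr₀ (Subtype.ext ?_)
      have hy : y₀ ∈ P ⊔ zpowers t := by
        simpa using mul_mem (mem_sup_left (T := zpowers t) h) (inv_mem (C.stage.t_mem_X (t := t)))
      have := (hker (x₀ * x₀) (mul_mem hx₀ hx₀)).2 hy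
      rw [map_mul, hx₀r] at this
      exact this
  exact false_of_squares hno L.sq S W (hSX ▸ hWX') (fun s hs => hsq s (hSX ▸ hs))
    (hSX ▸ hXX' C.stage.t_mem_X) htW (fun y hy hc => Or.inl (hTX y (hSX ▸ hy) hc))

end Cfsg.Agent.H35.JT
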