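import Cfsg.Agent.H35.JT.Translate
import Cfsg.Agent.H35.JT.Exotic

/-!
# An elementary factor has order four

If `D` is elementary abelian and `S₀` is not a Sylow 2-subgroup, a maximal stage gives a contradiction.
-/

set_option autoImplicit false

namespace Cfsg.Agent.H35.JT

open Subgroup

variable {G : Type*} [Group G] [Finite G] {t g : G} {S₀ D : Subgroup G}

theorem Local.elem_false_of_not_sylow (L : Local t S₀ D) (E : Elem t D g)
    (hno : ∀ H : Subgroup G, H.index ≠ 2) (hS : 2 ∣ S₀.index) : False := by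
  classical
  have : Fact (Nat.Prime 2) := ⟨Nat.prime_two⟩
  obtain ⟨hnD, hT⟩ := L.conj_iff_coset E hno hS
  set St : Set (Subgroup G) := {P | ∃ c, Stage t D P c} with hSt
  obtain ⟨P, hP, hmax⟩ := (Set.toFinite St).exists_maximalFor (fun P => P) St ⟨D, g, Stage.base L E⟩
  obtain ⟨g', hstage⟩ := hP
  obtain ⟨K, hin, honto, hker⟩ := hstage.exists_pow L
  have C : Ctx t g' S₀ D P K := ⟨L, hstage, hnD, hT, hin, honto, hker⟩
  obtain ⟨S, hXS⟩ := (hstage.two_X L).exists_le_sylow
  by_cases hX : P ⊔ zpowers t = S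
  · -- `X` is a Sylow subgroup
    refine false_of_squares hno L.sq S P (hX ▸ le_sup_left) (fun s hs => ?_) (hX ▸ hstage.t_mem_X)
      (hstage.not_mem L) (fun y hy hc => hstage.mem_of_isConj L hnD (hX ▸ hy) hc)
    rw [← hX, hstage.mem_X L] at hs
    rcases hs with h | h
    · exact mul_mem h h
    · have h1 := hstage.sq_tmul L h
      rw [← mul_assoc t t, L.sq, one_mul] at h1
      rw [h1]
      exact one_mem P
  have hne := C.exists_cls_ne S.isPGroup' hXS hX
  by_cases htr : ∃ h ∈ NX t P, h ∈ centralizer (D : Set G) ∧ cls K t h ≠ 1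
  · obtain ⟨c, X', T⟩ := C.exists_trans htr
    obtain ⟨P', hP', hlt⟩ := T.next_stage hno
    exact absurd (hmax ⟨c, hP'⟩ hlt.le) (not_le_of_gt hlt)
  · push Not at htr
    exact C.exotic_false hno hne htr

/-- An elementary abelian `D` has order four, and then `S₀` is a Sylow 2-subgroup. -/
theorem Local.elem_four (L : Local t S₀ D) (E : Elem t D g) (hno : ∀ H : Subgroup G, H.index ≠ 2) :
    ¬ 2 ∣ S₀.index ∧ Nat.card D = 4 := by
  have hS : ¬ 2 ∣ S₀.index := fun h => L.elem_false_of_not_sylow E hno h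
  exact ⟨hS, L.card_of_sylow E hno hS⟩

end Cfsg.Agent.H35.JT
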