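import Cfsg.Agent.H35.JT.Class

/-!
# Further tools for stages

No square of a 2-element is conjugate to `t`; a conjugate of `t` outside `X` commutes with no conjugate inside;
classes of conjugates are large; transfer through a subgroup containing all squares.
-/

set_option autoImplicit false

namespace Cfsg.Agent.H35.JT

open Subgroup

variable {G : Type*} [Group G] [Finite G] {t g : G} {S₀ D P : Subgroup G} {K : ℕ}

/-- The square of an element of a 2-group is not conjugate to `t`. -/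
theorem Local.not_isConj_sq (L : Local t S₀ D) (E : Elem t D g) {Q : Subgroup G} (hQ : IsPGroup 2 Q) {s : G}
    (hs : s ∈ Q) : ¬ IsConj t (s * s) := by
  intro h
  obtain ⟨k, hk⟩ := isConj_iff.1 h
  have hC : k⁻¹ * s * k ∈ centralizer ({t} : Set G) := by
    refine mem_centralizer_singleton_iff.2 ?_
    have ht : t = k⁻¹ * (s * s) * k := by rw [← hk]; group
    rw [ht]
    group
  have hm : (zpowers (k⁻¹ * s * k)) ≤ Q.map (MulAut.conj k⁻¹).toMonoidHom := by
    rw [zpowers_le]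
    exact ⟨s, hs, by simp⟩
  obtain ⟨c, -, hc⟩ := L.exists_conj_le ((hQ.map _).to_le hm) (by rwa [zpowers_le])
  have h1 := L.sq_eq_one E (hc _ (mem_zpowers _))
  rw [show c * (k⁻¹ * s * k) * c⁻¹ * (c * (k⁻¹ * s * k) * c⁻¹) = c * k⁻¹ * (s * s) * (c * k⁻¹)⁻¹ by group,
    conj_eq_one_iff] at h1
  rw [h1] at hk
  exact L.ne_one (conj_eq_one_iff.1 hk)

/-- The conjugates of an element conjugate to `t` under a 2-group `Q` are at least `|Q| / |S₀|` many. -/
theorem Local.card_class_le (L : Local t S₀ D) {Q : Subgroup G} (hQ : IsPGroup 2 Q) {x : G}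
    (hx : IsConj t x) (A : Set G) (hA : ∀ s ∈ Q, s * x * s⁻¹ ∈ A) :
    Nat.card Q ≤ A.ncard * Nat.card S₀ := by
  let Cx : Subgroup Q := (centralizer ({x} : Set G)).subgroupOf Q
  have h1 : Cx.index ≤ A.ncard := by
    rw [← Nat.card_coe_set_eq]
    refine Nat.card_le_card_of_injective (α := Q ⧸ Cx)
      (Quotient.lift (fun s : Q => (⟨s * x * (s : G)⁻¹, hA s s.2⟩ : A)) fun a b hab => Subtype.ext ?_) ?_
    · have h2' : a⁻¹ * b ∈ Cx := QuotientGroup.leftRel_apply.1 hab
      have h2 : (a : G)⁻¹ * b ∈ centralizer ({x} : Set G) := h2'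
      have h3 := conj_fix_of_mem_cent h2
      show (a : G) * x * (a : G)⁻¹ = b * x * (b : G)⁻¹
      conv_lhs => rw [← h3]
      group
    · intro a b
      refine Quotient.inductionOn₂ a b fun a b hab => Quotient.sound (QuotientGroup.leftRel_apply.2 ?_)
      have h2 : (a : G) * x * (a : G)⁻¹ = b * x * (b : G)⁻¹ := congrArg Subtype.val hab
      refine mem_cent_of_conj_fix (t := x) ?_
      calc (a : G)⁻¹ * b * x * ((a : G)⁻¹ * b)⁻¹ = (a : G)⁻¹ * (b * x * (b : G)⁻¹) * a := by group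
        _ = x := by rw [← h2]; group
  have h2 : Nat.card Cx ≤ Nat.card S₀ := by
    rw [Nat.card_congr (Subgroup.equivMapOfInjective Cx Q.subtype Q.subtype_injective).toEquiv]
    refine L.card_le ((hQ.to_subgroup Cx).map _) hx ?_
    rintro _ ⟨y, hy, rfl⟩
    exact hy
  rw [← Cx.card_mul_index]
  exact le_trans (Nat.mul_le_mul h2 h1) (le_of_eq (mul_comm _ _))

/-- Transfer through a subgroup containing all squares of a Sylow 2-subgroup. -/
theorem false_of_squares (hno : ∀ H : Subgroup G, H.index ≠ 2) (ht : t * t = 1) (S : Sylow 2 G) (W : Subgroup G)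
    (hW : W ≤ (S : Subgroup G)) (hsq : ∀ s ∈ (S : Subgroup G), s * s ∈ W) (htS : t ∈ (S : Subgroup G))
    (htW : t ∉ W) (hT : ∀ y ∈ (S : Subgroup G), IsConj t y → t * y ∈ W) : False := by
  have : Fact (Nat.Prime 2) := ⟨Nat.prime_two⟩
  set W' : Subgroup (S : Subgroup G) := W.subgroupOf (S : Subgroup G) with hW'
  have hnorm : W'.Normal := ⟨fun w hw s => by
    rw [hW', Subgroup.mem_subgroupOf] at hw ⊢
    push_cast
    have h1 := hsq _ (mul_mem s.2 (hW hw))
    have h2 := hsq _ (inv_mem s.2)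
    have : (s : G) * w * (s : G)⁻¹
        = ((s : G) * w * ((s : G) * w)) * (w : G)⁻¹ * ((s : G)⁻¹ * (s : G)⁻¹) := by group
    rw [this]
    exact mul_mem (mul_mem h1 (inv_mem hw)) h2⟩
  have hsq' : ∀ a : (S : Subgroup G) ⧸ W', a * a = 1 := fun a => by
    induction a using QuotientGroup.induction_on with
    | H s => exact (QuotientGroup.eq_one_iff (s * s)).2 (hsq _ s.2)
  letI : CommGroup ((S : Subgroup G) ⧸ W') :=
    { (inferInstance : Group ((S : Subgroup G) ⧸ W')) with
      mul_comm := fun a b => by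
        have h : ∀ c : (S : Subgroup G) ⧸ W', c⁻¹ = c := fun c => inv_eq_of_mul_eq_one_right (hsq' c)
        conv_lhs => rw [← h (a * b), mul_inv_rev, h, h] }
  have h1 := transfer_const hno ht (S : Subgroup G) S.not_dvd_index (S.isPGroup'.to_quotient W')
    (QuotientGroup.mk' W') (QuotientGroup.mk' W' ⟨t, htS⟩) (fun y hy hc => (QuotientGroup.eq.2 ?_).symm)
  · exact htW ((QuotientGroup.eq_one_iff (N := W') (⟨t, htS⟩ : (S : Subgroup G))).1 h1)
  · rw [hW', Subgroup.mem_subgroupOf]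
    push_cast
    rw [inv_eq_of_mul_eq_one_right ht]
    exact hT y hy hc

namespace Ctx

variable (C : Ctx t g S₀ D P K)
include C

/-- If some class is non-trivial then `N(X)` fuses `t` with all of `tP`. -/
theorem exists_conj (hne : ∃ h ∈ NX t P, cls K t h ≠ 1) {p : G} (hp : p ∈ P) :
    ∃ k ∈ NX t P, k * t * k⁻¹ = t * p := by
  obtain ⟨h₁, hh₁, hc₁⟩ := hne
  obtain ⟨h, hh, hc⟩ := C.cls_surjective hh₁ hc₁ (C.pow_mem p hp)
  have hd := C.disp_mem hh
  set e := t * (h * t * h⁻¹) with he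
  obtain ⟨q, hq, hqq⟩ := C.pow_ker _ (mul_mem (inv_mem hd) hp) (by
    rw [C.stage.pow_mul_pow C.loc (inv_mem hd) hp, inv_pow, show e ^ (2 ^ K) = cls K t h from rfl, hc,
      inv_mul_cancel])
  have hht : h * t * h⁻¹ = t * e := by rw [he, ← mul_assoc t t, C.loc.sq, one_mul]
  refine ⟨q⁻¹ * h, mul_mem (inv_mem (C.mem_NX_of_X (mem_sup_left hq))) hh, ?_⟩
  rw [show q⁻¹ * h * t * (q⁻¹ * h)⁻¹ = q⁻¹ * (h * t * h⁻¹) * q by group, hht, ← mul_assoc,
    C.stage.commute_mul C.loc (inv_mem hq), inv_inv, show t * q * e * q = t * (q * e * q) by group,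
    C.stage.mul_comm' C.loc hq hd, show e * q * q = e * (q * q) by group, hqq, mul_inv_cancel_left]

/-- If some class is non-trivial then all elements of `tP` are conjugates of `t`. -/
theorem coset_all (hne : ∃ h ∈ NX t P, cls K t h ≠ 1) {p : G} (hp : p ∈ P) : IsConj t (t * p) := by
  obtain ⟨k, -, hk⟩ := C.exists_conj hne hp
  exact isConj_iff.2 ⟨k, hk⟩

/-- An element of a 2-group over `X` outside `X` commutes with no conjugate of `t` in `X`. -/
theorem not_commute (hne : ∃ h ∈ NX t P, cls K t h ≠ 1) {Q : Subgroup G} (hQ : IsPGroup 2 Q)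
    (hXQ : P ⊔ zpowers t ≤ Q) {x : G} (hx : x ∈ Q) (hxX : x ∉ P ⊔ zpowers t) {p : G}
    (hp : p ∈ P) : x * (t * p) ≠ t * p * x := by
  intro hcom
  obtain ⟨k, hkn, hk⟩ := C.exists_conj hne hp
  have hXk : P ⊔ zpowers t ≤ Q.map (MulAut.conj k⁻¹).toMonoidHom := fun y hy =>
    ⟨k * y * k⁻¹, hXQ ((Subgroup.mem_normalizer_iff.1 hkn y).1 hy), by simp [mul_assoc]⟩
  have hm := C.loc.mem_of_two_group (hQ.map _) ((C.stage.S₀_le_X C.loc).trans hXk) (u := k⁻¹ * x * k)
    ⟨x, hx, by simp [MulAut.conj_apply]⟩ (mem_centralizer_singleton_iff.2 (by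
      calc k⁻¹ * x * k * t = k⁻¹ * (x * (k * t * k⁻¹)) * k := by group
        _ = k⁻¹ * (k * t * k⁻¹ * x) * k := by rw [hk, hcom]
        _ = t * (k⁻¹ * x * k) := by group))
  have := (Subgroup.mem_normalizer_iff.1 hkn _).1 (C.stage.S₀_le_X C.loc hm)
  rw [show k * (k⁻¹ * x * k) * k⁻¹ = x by group] at this
  exact hxX this

end Ctx

end Cfsg.Agent.H35.JT
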