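import Cfsg.Agent.H35.JT.Tools
import Cfsg.Agent.PGroups.Basic

/-!
# The local set-up `C(t) ~ <t> x L` and the fusion of `t`

`Local t S₀ D` records what the Janko-Thompson theorem uses about the centraliser `C` of the involution
`t`: a Sylow 2-subgroup `S₀ = <t> x D` of `C` such that all involutions of `D` are conjugate in `C` and none
is conjugate in `C` to an element of `tD`.  `Inner t D u x` says that `x` is an involution in the position of
`D` with respect to the conjugate `u` of `t`.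
-/

set_option autoImplicit false

namespace Cfsg.Agent.H35.JT

open Subgroup

variable {G : Type*} [Group G]

/-- The local data at `t`. -/
structure Local (t : G) (S₀ D : Subgroup G) : Prop where
  invol : orderOf t = 2
  two : IsPGroup 2 S₀
  le_cent : S₀ ≤ centralizer ({t} : Set G)
  sylow : ¬ 2 ∣ S₀.relIndex (centralizer ({t} : Set G))
  D_le : D ≤ S₀
  mem : t ∈ S₀
  not_mem : t ∉ D
  split : ∀ s ∈ S₀, s ∈ D ∨ t * s ∈ D
  one : ∀ a ∈ D, ∀ b ∈ D, a * a = 1 → b * b = 1 → a ≠ 1 → b ≠ 1 →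
    ∃ c ∈ centralizer ({t} : Set G), c * a * c⁻¹ = b
  sep : ∀ a ∈ D, ∀ b ∈ D, a * a = 1 → a ≠ 1 → ∀ c ∈ centralizer ({t} : Set G), c * a * c⁻¹ ≠ t * b
  nontrivial : D ≠ ⊥

/-- `x` is an involution in the position of `D` with respect to the conjugate `u` of `t`. -/
def Inner (t : G) (D : Subgroup G) (u x : G) : Prop :=
  ∃ g : G, g * t * g⁻¹ = u ∧ g⁻¹ * x * g ∈ D ∧ x ≠ 1 ∧ x * x = 1

theorem Inner.conj {t : G} {D : Subgroup G} {u x : G} (h : Inner t D u x) (k : G) :
    Inner t D (k * u * k⁻¹) (k * x * k⁻¹) := by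
  obtain ⟨g, hg, hx, h1, h2⟩ := h
  refine ⟨k * g, by rw [← hg]; group, ?_, fun e => h1 (conj_eq_one_iff.1 e), ?_⟩
  · rw [show (k * g)⁻¹ * (k * x * k⁻¹) * (k * g) = g⁻¹ * x * g by group]
    exact hx
  · rw [show k * x * k⁻¹ * (k * x * k⁻¹) = k * (x * x) * k⁻¹ by group, h2]
    group

theorem comm_of_mem_cent {t c : G} (h : c ∈ centralizer ({t} : Set G)) : c * t = t * c :=
  mem_centralizer_singleton_iff.1 h

theorem conj_fix_of_mem_cent {t c : G} (h : c ∈ centralizer ({t} : Set G)) : c * t * c⁻¹ = t := by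
  rw [comm_of_mem_cent h]; group

theorem mem_cent_of_conj_fix {t c : G} (h : c * t * c⁻¹ = t) : c ∈ centralizer ({t} : Set G) :=
  mem_centralizer_singleton_iff.2 (mul_inv_eq_iff_eq_mul.1 h)

theorem sq_conj {x : G} (hx : x * x = 1) (g : G) : g * x * g⁻¹ * (g * x * g⁻¹) = 1 := by
  rw [show g * x * g⁻¹ * (g * x * g⁻¹) = g * (x * x) * g⁻¹ by group, hx]
  group

variable {t : G} {S₀ D : Subgroup G}

theorem Local.ne_one (L : Local t S₀ D) : t ≠ 1 := by
  intro h
  have := L.invol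
  rw [h, orderOf_one] at this
  omega

theorem Local.sq (L : Local t S₀ D) : t * t = 1 := by
  rw [← pow_two, ← L.invol, pow_orderOf_eq_one]

theorem Local.inv (L : Local t S₀ D) : t⁻¹ = t := inv_eq_of_mul_eq_one_right L.sq

theorem Local.comm (L : Local t S₀ D) {s : G} (hs : s ∈ S₀) : s * t = t * s :=
  comm_of_mem_cent (L.le_cent hs)

theorem Local.t_mem_cent (_L : Local t S₀ D) : t ∈ centralizer ({t} : Set G) :=
  mem_centralizer_singleton_iff.2 rfl

theorem Local.sq_tmul (L : Local t S₀ D) {d : G} (hd : d ∈ S₀) (h : d * d = 1) : t * d * (t * d) = 1 := by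
  rw [show t * d * (t * d) = t * (d * t) * d by group, L.comm hd,
    show t * (t * d) * d = (t * t) * (d * d) by group, L.sq, h, one_mul]

theorem Local.inner_self_iff (L : Local t S₀ D) {x : G} :
    Inner t D t x ↔ x ≠ 1 ∧ x * x = 1 ∧ ∃ c ∈ centralizer ({t} : Set G), c * x * c⁻¹ ∈ D := by
  constructor
  · rintro ⟨g, hg, hx, h1, h2⟩
    refine ⟨h1, h2, g⁻¹, inv_mem (mem_cent_of_conj_fix hg), ?_⟩
    rwa [inv_inv]
  · rintro ⟨h1, h2, c, hc, hx⟩
    refine ⟨c⁻¹, conj_fix_of_mem_cent (inv_mem hc), ?_, h1, h2⟩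
    rwa [inv_inv]

theorem Local.inner_of_mem (L : Local t S₀ D) {x : G} (hx : x ∈ D) (h1 : x ≠ 1) (h2 : x * x = 1) :
    Inner t D t x := ⟨1, by group, by simpa using hx, h1, h2⟩

/-- The involutions of `D` are conjugate. -/
theorem Local.exists_invol [Finite G] (L : Local t S₀ D) : ∃ z ∈ D, z ≠ 1 ∧ z * z = 1 := by
  have : Fact (Nat.Prime 2) := ⟨Nat.prime_two⟩
  obtain ⟨x, hx⟩ := exists_prime_orderOf_dvd_card' (G := D) 2 (by
    have hD : IsPGroup 2 D := L.two.to_le L.D_le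
    obtain ⟨k, hk⟩ := IsPGroup.iff_card.1 hD
    rcases k with - | k
    · exact absurd (Subgroup.card_eq_one.1 (by simpa using hk)) L.nontrivial
    · rw [hk]; exact dvd_pow_self 2 (Nat.succ_ne_zero k))
  refine ⟨x, x.2, fun h => ?_, ?_⟩
  · have h1 : x = 1 := Subtype.ext h
    rw [h1, orderOf_one] at hx
    omega
  · have h1 := pow_orderOf_eq_one x
    rw [hx, pow_two] at h1
    exact congrArg Subtype.val h1

theorem Local.inner_conj_invol (L : Local t S₀ D) {u x z : G} (h : Inner t D u x) (hz : z ∈ D) (hz1 : z ≠ 1)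
    (hz2 : z * z = 1) : IsConj z x := by
  obtain ⟨g, -, hx, h1, h2⟩ := h
  have h2' : g⁻¹ * x * g * (g⁻¹ * x * g) = 1 := by
    rw [show g⁻¹ * x * g * (g⁻¹ * x * g) = g⁻¹ * (x * x) * g by group, h2]
    group
  have h1' : g⁻¹ * x * g ≠ 1 := fun e => h1 (by
    have := congrArg (fun y => g * y * g⁻¹) e
    simpa [mul_assoc] using this)
  obtain ⟨c, -, hc⟩ := L.one z hz _ hx hz2 h2' hz1 h1'
  exact isConj_iff.2 ⟨g * c, by
    rw [show g * c * z * (g * c)⁻¹ = g * (c * z * c⁻¹) * g⁻¹ by group, hc]; group⟩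

/-- The 2-subgroups of `C(t)` are conjugate in `C(t)` into `S₀`. -/
theorem Local.exists_conj_le [Finite G] (L : Local t S₀ D) {K : Subgroup G} (hK : IsPGroup 2 K)
    (hKC : K ≤ centralizer ({t} : Set G)) :
    ∃ c ∈ centralizer ({t} : Set G), ∀ k ∈ K, c * k * c⁻¹ ∈ S₀ := by
  have : Fact (Nat.Prime 2) := ⟨Nat.prime_two⟩
  set C := centralizer ({t} : Set G) with hC
  let P : Sylow 2 C := (L.two.comap_subtype (K := C)).toSylow L.sylow
  obtain ⟨Q, hQ⟩ := IsPGroup.exists_le_sylow (hK.comap_subtype (K := C))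
  obtain ⟨c, hc⟩ := MulAction.exists_smul_eq C Q P
  refine ⟨c, c.2, fun k hk => ?_⟩
  have h1 : (⟨k, hKC hk⟩ : C) ∈ Q := hQ hk
  have h2 : c * ⟨k, hKC hk⟩ * c⁻¹ ∈ (P : Subgroup C) := by
    rw [← hc, Sylow.coe_subgroup_smul]
    exact ⟨⟨k, hKC hk⟩, h1, rfl⟩
  exact h2

/-- A 2-group centralising a conjugate of `t` is no larger than `S₀`. -/
theorem Local.card_le [Finite G] (L : Local t S₀ D) {K : Subgroup G} (hK : IsPGroup 2 K) {u : G}
    (hu : IsConj t u) (hKu : K ≤ centralizer ({u} : Set G)) : Nat.card K ≤ Nat.card S₀ := by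
  obtain ⟨g, hg⟩ := isConj_iff.1 hu
  have hle : K.map (MulAut.conj g⁻¹).toMonoidHom ≤ centralizer ({t} : Set G) := by
    rintro _ ⟨k, hk, rfl⟩
    have h := comm_of_mem_cent (hKu hk)
    refine mem_centralizer_singleton_iff.2 ?_
    rw [← hg] at h
    simp only [MulEquiv.coe_toMonoidHom, MulAut.conj_apply, inv_inv]
    calc g⁻¹ * k * g * t = g⁻¹ * (k * (g * t * g⁻¹)) * g := by group
      _ = g⁻¹ * (g * t * g⁻¹ * k) * g := by rw [h]
      _ = t * (g⁻¹ * k * g) := by group
  obtain ⟨c, -, hc⟩ := L.exists_conj_le (hK.map _) hle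
  refine Nat.card_le_card_of_injective (fun k : K => (⟨c * (g⁻¹ * k * g) * c⁻¹, hc _
    ⟨k, k.2, by simp [MulAut.conj_apply]⟩⟩ : S₀)) fun a b e => ?_
  have := congrArg Subtype.val e
  simpa using this

/-- An involution of `C(t)` other than `t` is inner or `t` times an inner one, and not both. -/
theorem Local.dichotomy_self [Finite G] (L : Local t S₀ D) {x : G} (hxC : x ∈ centralizer ({t} : Set G))
    (hx2 : x * x = 1) (hx1 : x ≠ 1) (hxt : x ≠ t) : Inner t D t x ↔ ¬ Inner t D t (t * x) := by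
  have hcomm : x * t = t * x := comm_of_mem_cent hxC
  constructor
  · intro h h'
    obtain ⟨-, -, c, hc, hcx⟩ := L.inner_self_iff.1 h
    obtain ⟨h1, h2, c', hc', hcx'⟩ := L.inner_self_iff.1 h'
    refine L.sep _ hcx' _ hcx (sq_conj h2 _) (fun e => h1 (conj_eq_one_iff.1 e)) (c * c'⁻¹)
      (mul_mem hc (inv_mem hc')) ?_
    calc c * c'⁻¹ * (c' * (t * x) * c'⁻¹) * (c * c'⁻¹)⁻¹ = c * t * c⁻¹ * (c * x * c⁻¹) := by group
      _ = t * (c * x * c⁻¹) := by rw [conj_fix_of_mem_cent hc]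
  · intro hn
    obtain ⟨c, hc, hcK⟩ := L.exists_conj_le (K := zpowers x) (IsPGroup.of_card (n := 1) (by
      rw [Nat.card_zpowers, pow_one]
      exact orderOf_eq_prime (by rw [pow_two]; exact hx2) hx1)) (by rw [zpowers_le]; exact hxC)
    have hs := hcK x (mem_zpowers x)
    refine L.inner_self_iff.2 ⟨hx1, hx2, c, hc, ?_⟩
    rcases L.split _ hs with h | h
    · exact h
    · refine absurd (L.inner_self_iff.2 ⟨?_, ?_, c, hc, ?_⟩) hn
      · intro e
        exact hxt ((mul_eq_one_iff_eq_inv'.1 e).trans L.inv)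
      · rw [show t * x * (t * x) = t * (x * t) * x by group, hcomm,
          show t * (t * x) * x = (t * t) * (x * x) by group, L.sq, hx2, one_mul]
      · rw [show c * (t * x) * c⁻¹ = c * t * c⁻¹ * (c * x * c⁻¹) by group, conj_fix_of_mem_cent hc]
        exact h

/-- An involution commuting with a conjugate `u` of `t`, other than `u`, is inner or `u` times an inner one. -/
theorem Local.dichotomy [Finite G] (L : Local t S₀ D) {u x : G} (hu : IsConj t u) (hux : x * u = u * x)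
    (hx2 : x * x = 1) (hx1 : x ≠ 1) (hxu : x ≠ u) : Inner t D u x ↔ ¬ Inner t D u (u * x) := by
  obtain ⟨g, hg⟩ := isConj_iff.1 hu
  have hyC : g⁻¹ * x * g ∈ centralizer ({t} : Set G) := by
    refine mem_centralizer_singleton_iff.2 ?_
    rw [← hg] at hux
    calc g⁻¹ * x * g * t = g⁻¹ * (x * (g * t * g⁻¹)) * g := by group
      _ = g⁻¹ * (g * t * g⁻¹ * x) * g := by rw [hux]
      _ = t * (g⁻¹ * x * g) := by group
  have hy2 : g⁻¹ * x * g * (g⁻¹ * x * g) = 1 := by simpa using sq_conj hx2 g⁻¹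
  have hy1 : g⁻¹ * x * g ≠ 1 := fun e => hx1 (by simpa [mul_assoc] using congrArg (fun y => g * y * g⁻¹) e)
  have hyt : g⁻¹ * x * g ≠ t := fun e => hxu (by rw [← hg, ← e]; group)
  have key : ∀ y, Inner t D u (g * y * g⁻¹) ↔ Inner t D t y := by
    intro y
    constructor
    · intro h
      have := h.conj g⁻¹
      rw [← hg] at this
      simpa [mul_assoc] using this
    · intro h
      have := h.conj g
      rwa [hg] at this
  have h1 := key (g⁻¹ * x * g)
  have h2 := key (t * (g⁻¹ * x * g))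
  rw [show g * (g⁻¹ * x * g) * g⁻¹ = x by group] at h1
  rw [show g * (t * (g⁻¹ * x * g)) * g⁻¹ = g * t * g⁻¹ * x by group, hg] at h2
  rw [h1, h2]
  exact L.dichotomy_self hyC hy2 hy1 hyt

/-- If exactly one of `z`, `tz` is conjugate to `t`, then of two commuting involutions `x`, `u x`, with `u` a
conjugate of `t`, exactly one is a conjugate of `t`. -/
theorem Local.partner [Finite G] (L : Local t S₀ D) {z : G} (hz : z ∈ D) (hz1 : z ≠ 1) (hz2 : z * z = 1)
    (hxor : IsConj t z ↔ ¬ IsConj t (t * z)) {u x : G} (hu : IsConj t u) (hux : x * u = u * x)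
    (hx2 : x * x = 1) (hx1 : x ≠ 1) (hxu : x ≠ u) : IsConj t x ↔ ¬ IsConj t (u * x) := by
  have hin : ∀ {v}, Inner t D u v → (IsConj t v ↔ IsConj t z) := fun h =>
    ⟨fun h' => h'.trans (L.inner_conj_invol h hz hz1 hz2).symm,
      fun h' => h'.trans (L.inner_conj_invol h hz hz1 hz2)⟩
  have hout : ∀ {v}, Inner t D u v → (IsConj t (u * v) ↔ IsConj t (t * z)) := by
    intro v h
    obtain ⟨g, hg, hv, h1, h2⟩ := h
    have h2' : g⁻¹ * v * g * (g⁻¹ * v * g) = 1 := by simpa using sq_conj h2 g⁻¹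
    obtain ⟨c, hc, hcz⟩ := L.one z hz _ hv hz2 h2' hz1
      (fun e => h1 (by simpa [mul_assoc] using congrArg (fun y => g * y * g⁻¹) e))
    have : IsConj (t * z) (u * v) := isConj_iff.2 ⟨g * c, by
      calc g * c * (t * z) * (g * c)⁻¹ = g * ((c * t * c⁻¹) * (c * z * c⁻¹)) * g⁻¹ := by group
        _ = g * (t * (g⁻¹ * v * g)) * g⁻¹ := by rw [hcz, conj_fix_of_mem_cent hc]
        _ = g * t * g⁻¹ * v := by group
        _ = u * v := by rw [hg]⟩
    exact ⟨fun h' => h'.trans this.symm, fun h' => h'.trans this⟩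
  have huu : u * u = 1 := by
    obtain ⟨g, rfl⟩ := isConj_iff.1 hu
    exact sq_conj L.sq g
  by_cases hi : Inner t D u x
  · rw [hin hi, hout hi]
    exact hxor
  · have hi' : Inner t D u (u * x) := by
      by_contra h
      exact hi ((L.dichotomy hu hux hx2 hx1 hxu).2 h)
    have h1 := hout hi'
    rw [← mul_assoc, huu, one_mul] at h1
    rw [h1, hin hi']
    tauto

end Cfsg.Agent.H35.JT
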