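import Cfsg.Agent.H35.JT.PSL
import Cfsg.Agent.H35.JT.DihFalse
import Cfsg.Agent.H35.JT.ElemFalse

/-!
# The local data from the centraliser of `t`

A normal subgroup `N` of `C(t)` containing all 2-elements maps onto `Z₂ × L` with odd kernel.
-/

set_option autoImplicit false

namespace Cfsg.Agent.H35.JT

open Subgroup

/-- The group of order two. -/
abbrev M2 := Multiplicative (ZMod 2)

theorem M2.cases (m : M2) : m = 1 ∨ m = Multiplicative.ofAdd 1 := by
  revert m; decide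

theorem M2.gen_ne : (Multiplicative.ofAdd 1 : M2) ≠ 1 := by decide

theorem M2.gen_sq : (Multiplicative.ofAdd 1 : M2) * Multiplicative.ofAdd 1 = 1 := by decide

variable {G : Type*} [Group G] [Finite G]

theorem sylow_elem_eight (hno : ∀ H : Subgroup G, H.index ≠ 2) {t : G} (ht : orderOf t = 2)
    {L : Type*} [Group L] [Finite L] (hperf : ∀ χ : L →* M2, χ = 1)
    (hcen : ∀ z : L, (∀ l, z * l = l * z) → z = 1)
    (hone : ∀ a b : L, orderOf a = 2 → orderOf b = 2 → IsConj a b)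
    (hsyl : ∀ P : Sylow 2 L,
      (∃ c ∈ (P : Subgroup L), 4 ∣ orderOf c ∧
        (∀ d ∈ (P : Subgroup L), d ∈ zpowers c ∨ (d * d = 1 ∧ d * c * d = c⁻¹)) ∧
        ∃ d ∈ (P : Subgroup L), d ∉ zpowers c) ∨
      ((∀ p ∈ (P : Subgroup L), p * p = 1) ∧ 4 ≤ Nat.card (P : Subgroup L) ∧
        ∃ x, Scalar (P : Subgroup L) x))
    (N : Subgroup (centralizer ({t} : Set G))) [N.Normal]
    (h2mem : ∀ x : centralizer ({t} : Set G), (∃ k : ℕ, orderOf x = 2 ^ k) → x ∈ N)
    (f : N →* M2 × L) (hf : Function.Surjective f) (hkodd : ∀ n, f n = 1 → Odd (orderOf n))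
    (hker : ∀ (c : centralizer ({t} : Set G)) (n : N), f n = 1 →
      f ⟨c * n * c⁻¹, (inferInstance : N.Normal).conj_mem n n.2 c⟩ = 1)
    (S : Sylow 2 G) :
    Nat.card (S : Subgroup G) = 8 ∧ ∀ x ∈ (S : Subgroup G), x ^ 2 = 1 := by
  classical
  have : Fact (Nat.Prime 2) := ⟨Nat.prime_two⟩
  set μ : M2 := Multiplicative.ofAdd 1 with hμ
  have hμ1 : μ ≠ 1 := M2.gen_ne
  have hμ2 : μ * μ = 1 := M2.gen_sq
  let em : N →* G := (centralizer ({t} : Set G)).subtype.comp N.subtype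
  have hem : Function.Injective em := fun a b e => Subtype.ext (Subtype.ext e)
  let ψ : N →* L := (MonoidHom.snd M2 L).comp f
  let φ : N →* M2 := (MonoidHom.fst M2 L).comp f
  have hf1 : ∀ n, φ n = 1 → ψ n = 1 → f n = 1 := fun n h1 h2 => Prod.ext h1 h2
  -- the image of `t`
  let tC : (centralizer ({t} : Set G)) := ⟨t, mem_centralizer_singleton_iff.2 rfl⟩
  have htC : orderOf tC = 2 := by
    rw [← ht]; exact (orderOf_injective (centralizer ({t} : Set G)).subtype (centralizer ({t} : Set G)).subtype_injective tC).symm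
  let tN : N := ⟨tC, h2mem tC ⟨1, by rw [htC, pow_one]⟩⟩
  have htN : orderOf tN = 2 := by
    rw [← htC]; exact (orderOf_injective N.subtype N.subtype_injective tN).symm
  have htcomm : ∀ n : N, n * tN = tN * n := fun n =>
    hem (by rw [map_mul, map_mul]; exact mem_centralizer_singleton_iff.1 (n : (centralizer ({t} : Set G))).2)
  have hft : f tN = (μ, 1) := by
    have h1 : ψ tN = 1 := hcen _ fun l => by
      obtain ⟨n, hn⟩ := hf (1, l)
      have hl : ψ n = l := congrArg Prod.snd hn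
      rw [← hl, ← map_mul, ← map_mul, htcomm]
    refine Prod.ext ((M2.cases (φ tN)).resolve_left fun h => ?_) h1
    have := hkodd tN (hf1 _ h h1)
    rw [htN] at this
    exact absurd this (by decide)
  have hφt : φ tN = μ := congrArg Prod.fst hft
  have hψt : ψ tN = 1 := congrArg Prod.snd hft
  -- the Sylow subgroup
  obtain ⟨S1, hS1t⟩ := (IsPGroup.of_card (G := zpowers tC) (n := 1)
    (by rw [Nat.card_zpowers, htC, pow_one]) : IsPGroup 2 (zpowers tC)).exists_le_sylow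
  have hSN : (S1 : Subgroup (centralizer ({t} : Set G))) ≤ N := fun x hx => by
    obtain ⟨k, hk⟩ := S1.isPGroup' ⟨x, hx⟩
    obtain ⟨i, -, hi⟩ := (Nat.dvd_prime_pow Nat.prime_two).1
      (orderOf_dvd_of_pow_eq_one (show x ^ (2 ^ k) = 1 from congrArg Subtype.val hk))
    exact h2mem x ⟨i, hi⟩
  let SN : Sylow 2 N := S1.subtype hSN
  have htSN : tN ∈ (SN : Subgroup N) := hS1t (mem_zpowers tC)
  have hinjS : ∀ n ∈ (SN : Subgroup N), f n = 1 → n = 1 := by
    intro n hn h1
    obtain ⟨k, hk⟩ := SN.isPGroup' ⟨n, hn⟩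
    obtain ⟨i, -, hi⟩ := (Nat.dvd_prime_pow Nat.prime_two).1
      (orderOf_dvd_of_pow_eq_one (show n ^ (2 ^ k) = 1 from congrArg Subtype.val hk))
    have h2 := hkodd n h1
    rw [hi] at h2
    rcases Nat.eq_zero_or_pos i with rfl | hi0
    · exact orderOf_eq_one_iff.1 (by simpa using hi)
    · exact absurd h2 (Nat.not_odd_iff_even.2 ((Nat.even_pow).2 ⟨even_two, hi0.ne'⟩))
  have hψsurj : Function.Surjective ψ := fun l => by
    obtain ⟨n, hn⟩ := hf (1, l)
    exact ⟨n, congrArg Prod.snd hn⟩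
  set P : Sylow 2 L := SN.mapSurjective (f := ψ) hψsurj with hP
  let DN : Subgroup N := (SN : Subgroup N) ⊓ φ.ker
  have hDN : ∀ n, n ∈ DN ↔ n ∈ (SN : Subgroup N) ∧ φ n = 1 := fun n => Iff.rfl
  have honto : ∀ p ∈ (P : Subgroup L), ∃ n ∈ DN, ψ n = p := by
    rintro _ ⟨n, hn, rfl⟩
    rcases M2.cases (φ n) with h | h
    · exact ⟨n, ⟨hn, h⟩, rfl⟩
    · refine ⟨tN * n, ⟨mul_mem htSN hn, ?_⟩, ?_⟩
      · show φ (tN * n) = 1
        rw [map_mul, hφt, h, hμ2]
      · rw [map_mul, hψt, one_mul]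
  have hinto : ∀ n ∈ DN, ψ n ∈ (P : Subgroup L) := fun n hn => ⟨n, hn.1, rfl⟩
  have hDinj : ∀ a ∈ DN, ∀ b ∈ DN, ψ a = ψ b → a = b := fun a ha b hb e => by
    refine inv_mul_eq_one.1 (hinjS _ (mul_mem (inv_mem ha.1) hb.1) (hf1 _ ?_ ?_))
    · rw [map_mul, map_inv, show φ a = 1 from ha.2, show φ b = 1 from hb.2]; simp
    · rw [map_mul, map_inv, e, inv_mul_cancel]
  -- conjugation by elements of the centraliser
  let cj : (centralizer ({t} : Set G)) → N → N := fun c n => ⟨c * n * c⁻¹, (inferInstance : N.Normal).conj_mem n n.2 c⟩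
  have hcj : ∀ c n, em (cj c n) = (c : G) * em n * (c : G)⁻¹ := fun c n => by simp [cj, em]
  have hφcj : ∀ c n, φ n = 1 → φ (cj c n) = 1 := by
    intro c n hn
    let F : N →* M2 × L := MonoidHom.mk' (fun m => f (cj c m)) fun a b => by
      rw [← map_mul]; congr 1; apply Subtype.ext; simp only [cj, Subgroup.coe_mul]; group
    have hle : f.ker ≤ F.ker := fun m hm => MonoidHom.mem_ker.2 (hker c m (MonoidHom.mem_ker.1 hm))
    let α := f.liftOfSurjective hf ⟨F, hle⟩
    have h := hperf ((MonoidHom.fst M2 L).comp (α.comp (MonoidHom.inr M2 L)))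
    have h2 := DFunLike.congr_fun h (ψ n)
    simp only [MonoidHom.comp_apply, MonoidHom.inr_apply, MonoidHom.coe_fst, MonoidHom.one_apply] at h2
    rw [show ((1 : M2), ψ n) = f n from Prod.ext (show (1 : M2) = φ n from hn.symm) rfl,
      f.liftOfRightInverse_comp_apply] at h2
    exact h2
  have hψcj : ∀ c n m, φ n = 1 → φ m = 1 → ψ n = ψ m → ψ (cj c n) = ψ (cj c m) := by
    intro c n m hn hm e
    have h1 : f (n⁻¹ * m) = 1 := hf1 _ (by rw [map_mul, map_inv, hn, hm]; simp)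
      (by rw [map_mul, map_inv, e, inv_mul_cancel])
    have h2 : ψ (cj c (n⁻¹ * m)) = 1 := congrArg Prod.snd (hker c (n⁻¹ * m) h1)
    have h3 : cj c m = cj c n * cj c (n⁻¹ * m) := by
      apply Subtype.ext; simp only [cj, Subgroup.coe_mul, Subgroup.coe_inv]; group
    rw [h3, map_mul, h2, mul_one]
  -- the local data
  set S₀ : Subgroup G := (SN : Subgroup N).map em with hS₀
  set D : Subgroup G := DN.map em with hD
  have hS₀C : S₀ = (S1 : Subgroup (centralizer ({t} : Set G))).map (centralizer ({t} : Set G)).subtype := by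
    ext x
    constructor
    · rintro ⟨n, hn, rfl⟩; exact ⟨(n : (centralizer ({t} : Set G))), hn, rfl⟩
    · rintro ⟨c, hc, rfl⟩; exact ⟨⟨c, hSN hc⟩, hc, rfl⟩
  have hLoc : Local t S₀ D := by
    refine ⟨ht, SN.isPGroup'.map em, ?_, ?_, Subgroup.map_mono inf_le_left, ⟨tN, htSN, rfl⟩, ?_, ?_, ?_, ?_, ?_⟩
    · rintro _ ⟨n, -, rfl⟩; exact (n : (centralizer ({t} : Set G))).2
    · rw [hS₀C, Subgroup.relIndex,
        show ((S1 : Subgroup (centralizer ({t} : Set G))).map (centralizer ({t} : Set G)).subtype).subgroupOf (centralizer ({t} : Set G)) = (S1 : Subgroup (centralizer ({t} : Set G))) from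
          Subgroup.comap_map_eq_self_of_injective (centralizer ({t} : Set G)).subtype_injective _]
      exact S1.not_dvd_index
    · rintro ⟨n, hn, e⟩
      have : n = tN := hem e
      subst this
      exact hμ1 (hφt.symm.trans hn.2)
    · rintro _ ⟨n, hn, rfl⟩
      rcases M2.cases (φ n) with h | h
      · exact Or.inl ⟨n, ⟨hn, h⟩, rfl⟩
      · refine Or.inr ⟨tN * n, ⟨mul_mem htSN hn, ?_⟩, map_mul em tN n⟩
        show φ (tN * n) = 1
        rw [map_mul, hφt, h, hμ2]
    · rintro _ ⟨a, ha, rfl⟩ _ ⟨b, hb, rfl⟩ ha2 hb2 ha1 hb1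
      rw [← map_mul] at ha2 hb2
      have ha2' : a * a = 1 := hem (ha2.trans (map_one em).symm)
      have hb2' : b * b = 1 := hem (hb2.trans (map_one em).symm)
      have hord : ∀ x ∈ DN, x * x = 1 → x ≠ 1 → orderOf (ψ x) = 2 := fun x hx h2 h1 =>
        orderOf_eq_prime (by rw [pow_two, ← map_mul, h2, map_one])
          (fun e => h1 (hDinj x hx 1 (one_mem _) (e.trans (map_one ψ).symm)))
      obtain ⟨l, hl⟩ := isConj_iff.1 (hone _ _ (hord a ha ha2' fun e => ha1 (by rw [e, map_one]))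
        (hord b hb hb2' fun e => hb1 (by rw [e, map_one])))
      obtain ⟨n, hn⟩ := hf (1, l)
      set y := n * a * n⁻¹ with hy
      have hy2 : y * y = 1 := sq_conj ha2' n
      have hfy : f y = f b := Prod.ext
        (by show φ y = φ b; rw [hy, map_mul, map_mul, map_inv, show φ a = 1 from ha.2, show φ b = 1 from hb.2]; simp)
        (by show ψ y = ψ b; rw [hy, map_mul, map_mul, map_inv, show ψ n = l from congrArg Prod.snd hn, hl])
      set d := b * y with hd
      obtain ⟨k, hk⟩ := hkodd d (by rw [hd, map_mul, hfy, ← map_mul, hb2', map_one])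
      have hby : b = d * y := by rw [hd, mul_assoc, hy2, mul_one]
      have hinv : y * d * y = d⁻¹ := by
        rw [hd, mul_inv_rev, inv_eq_of_mul_eq_one_right hy2, inv_eq_of_mul_eq_one_right hb2',
          show y * (b * y) * y = y * b * (y * y) by simp only [mul_assoc], hy2, mul_one]
      have hinvj : ∀ j : ℕ, y * d ^ j * y = (d ^ j)⁻¹ := fun j => by
        have h : y⁻¹ = y := inv_eq_of_mul_eq_one_right hy2
        calc y * d ^ j * y = y * d ^ j * y⁻¹ := by rw [h]
          _ = (y * d * y⁻¹) ^ j := (conj_pow).symm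
          _ = (d⁻¹) ^ j := by rw [h, hinv]
          _ = (d ^ j)⁻¹ := inv_pow d j
      refine ⟨em (d ^ (k + 1) * n), ((d ^ (k + 1) * n : N) : (centralizer ({t} : Set G))).2, ?_⟩
      rw [← map_inv, ← map_mul, ← map_mul]
      congr 1
      calc d ^ (k + 1) * n * a * (d ^ (k + 1) * n)⁻¹ = d ^ (k + 1) * y * (d ^ (k + 1))⁻¹ := by
            rw [hy]; group
        _ = d ^ (k + 1) * d ^ (k + 1) * y := by
            rw [← hinvj, show d ^ (k + 1) * y * (y * d ^ (k + 1) * y) = d ^ (k + 1) * (y * y) * d ^ (k + 1) * y by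
              group, hy2, mul_one]
        _ = d * y := by
            rw [← pow_add, show k + 1 + (k + 1) = orderOf d + 1 by omega, pow_succ, pow_orderOf_eq_one, one_mul]
        _ = b := hby.symm
    · rintro _ ⟨a, ha, rfl⟩ _ ⟨b, hb, rfl⟩ - - c hc e
      have h1 := hφcj ⟨c, hc⟩ a ha.2
      have h2 : cj ⟨c, hc⟩ a = tN * b := hem (by rw [hcj, map_mul]; exact e)
      rw [h2, map_mul, hφt, show φ b = 1 from hb.2, mul_one] at h1
      exact hμ1 h1
    · intro hbot
      have hb : ∀ n ∈ DN, n = 1 := fun n hn =>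
        hem ((Subgroup.mem_bot.1 (hbot ▸ (⟨n, hn, rfl⟩ : em n ∈ D))).trans (map_one em).symm)
      have hP1 : ∀ p ∈ (P : Subgroup L), p = 1 := fun p hp => by
        obtain ⟨n, hn, rfl⟩ := honto p hp
        rw [hb n hn, map_one]
      rcases hsyl P with ⟨c, hc, h4, -, -⟩ | ⟨-, h4, -⟩
      · rw [hP1 c hc, orderOf_one] at h4
        omega
      · rw [(Subgroup.eq_bot_iff_forall _).2 hP1, Subgroup.card_bot] at h4
        omega
  rcases hsyl P with ⟨c, hc, h4, hcases, d₁, hd₁, hd₁'⟩ | ⟨hsq, hcard, x, hx⟩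
  · -- the dihedral case
    exfalso
    obtain ⟨c₀, hc₀, rfl⟩ := honto c hc
    have hpow : ∀ n ∈ DN, ψ n ∈ zpowers (ψ c₀) → em n ∈ zpowers (em c₀) := by
      intro n hn h
      obtain ⟨i, hi⟩ := mem_zpowers_iff.1 h
      refine mem_zpowers_iff.2 ⟨i, ?_⟩
      rw [← map_zpow, hDinj _ (zpow_mem hc₀ i) n hn (by rw [map_zpow, hi])]
    refine hLoc.dih_false (c := em c₀) ⟨⟨c₀, hc₀, rfl⟩, ?_, orderOf_pos _, ?_, ?_⟩ hno
    · rw [orderOf_injective em hem]
      exact h4.trans (orderOf_map_dvd ψ c₀)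
    · rintro _ ⟨n, hn, rfl⟩
      rcases hcases _ (hinto n hn) with h | ⟨h2, h3⟩
      · exact Or.inl (hpow n hn h)
      · refine Or.inr ⟨?_, ?_⟩
        · rw [← map_mul, hDinj _ (mul_mem hn hn) 1 (one_mem _) (by rw [map_mul, h2, map_one]), map_one]
        · rw [← map_mul, ← map_mul, ← map_inv]
          exact congrArg em (hDinj _ (mul_mem (mul_mem hn hc₀) hn) _ (inv_mem hc₀)
            (by rw [map_mul, map_mul, h3, map_inv]))
    · obtain ⟨n, hn, rfl⟩ := honto d₁ hd₁
      refine ⟨em n, ⟨n, hn, rfl⟩, fun h => hd₁' ?_⟩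
      obtain ⟨i, hi⟩ := mem_zpowers_iff.1 h
      rw [← map_zpow] at hi
      exact mem_zpowers_iff.2 ⟨i, by rw [← map_zpow, hem hi]⟩
  -- the elementary case
  have hPab : ∀ a ∈ (P : Subgroup L), ∀ b ∈ (P : Subgroup L), a * b = b * a := fun a ha b hb => by
    have h := inv_eq_of_mul_eq_one_right (hsq _ (mul_mem ha hb))
    rw [mul_inv_rev, inv_eq_of_mul_eq_one_right (hsq _ ha), inv_eq_of_mul_eq_one_right (hsq _ hb)] at h
    exact h.symm
  -- Frattini
  obtain ⟨n₀, hn₀⟩ := hf (1, x)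
  set Kp : Subgroup N := ((SN : Subgroup N).map f).comap f with hKp
  have hSKp : (SN : Subgroup N) ≤ Kp := fun n hn => ⟨n, hn, rfl⟩
  have hle : ((n₀ • SN : Sylow 2 N) : Subgroup N) ≤ Kp := by
    rw [Sylow.coe_subgroup_smul]
    rintro _ ⟨n, hn, rfl⟩
    show f (n₀ * n * n₀⁻¹) ∈ (SN : Subgroup N).map f
    have hψn : x * ψ n * x⁻¹ ∈ (P : Subgroup L) := hx.norm _ ⟨n, hn, rfl⟩
    obtain ⟨m, hm, hme⟩ := honto _ hψn
    have h1 : φ (n₀ * n * n₀⁻¹) = φ n := by
      rw [map_mul, map_mul, map_inv, show φ n₀ = 1 from congrArg Prod.fst hn₀]; simp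
    have h2 : ψ (n₀ * n * n₀⁻¹) = x * ψ n * x⁻¹ := by
      rw [map_mul, map_mul, map_inv, show ψ n₀ = x from congrArg Prod.snd hn₀]
    rcases M2.cases (φ n) with h | h
    · exact ⟨m, hm.1, Prod.ext (show φ m = φ _ by rw [h1, h]; exact hm.2) (show ψ m = ψ _ by rw [h2, hme])⟩
    · refine ⟨tN * m, mul_mem htSN hm.1, Prod.ext (show φ _ = φ _ from ?_) (show ψ _ = ψ _ from ?_)⟩
      · rw [h1, h, map_mul, hφt, show φ m = 1 from hm.2, mul_one]
      · rw [h2, map_mul, hψt, one_mul, hme]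
  obtain ⟨m, hm⟩ := MulAction.exists_smul_eq Kp ((n₀ • SN).subtype hle) (SN.subtype hSKp)
  rw [Sylow.smul_subtype] at hm
  have hm' : ((m : N) * n₀) • SN = SN := by rw [mul_smul]; exact Sylow.subtype_injective hm
  set g : N := (m : N) * n₀ with hg
  have hgS : ∀ n ∈ (SN : Subgroup N), g * n * g⁻¹ ∈ (SN : Subgroup N) := fun n hn =>
    (Subgroup.mem_normalizer_iff.1 (Sylow.smul_eq_iff_mem_normalizer.1 hm') n).1 hn
  have hgD : ∀ n ∈ DN, g * n * g⁻¹ ∈ DN := fun n hn => ⟨hgS n hn.1, by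
    show φ (g * n * g⁻¹) = 1
    rw [map_mul, map_mul, map_inv, show φ n = 1 from hn.2]; simp⟩
  have hψg : ∀ n ∈ DN, ψ (g * n * g⁻¹) = x * ψ n * x⁻¹ := by
    intro n hn
    obtain ⟨s, hs, hsm⟩ := (m.2 : f (m : N) ∈ (SN : Subgroup N).map f)
    have hp : ψ (m : N) ∈ (P : Subgroup L) := ⟨s, hs, congrArg Prod.snd hsm⟩
    rw [map_mul, map_mul, map_inv, hg, map_mul, show ψ n₀ = x from congrArg Prod.snd hn₀,
      show ψ (m : N) * x * ψ n * (ψ (m : N) * x)⁻¹ = ψ (m : N) * (x * ψ n * x⁻¹) * (ψ (m : N))⁻¹ by group,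
      hPab _ hp _ (hx.norm _ (hinto n hn)), mul_inv_cancel_right]
  have hψgk : ∀ (k : ℕ), ∀ n ∈ DN, g ^ k * n * (g ^ k)⁻¹ ∈ DN ∧
      ψ (g ^ k * n * (g ^ k)⁻¹) = x ^ k * ψ n * (x ^ k)⁻¹ := by
    intro k
    induction k with
    | zero => intro n hn; simp [hn]
    | succ k ih =>
      intro n hn
      obtain ⟨h1, h2⟩ := ih n hn
      rw [pow_succ', pow_succ', show g * g ^ k * n * (g * g ^ k)⁻¹ = g * (g ^ k * n * (g ^ k)⁻¹) * g⁻¹ by group]
      refine ⟨hgD _ h1, ?_⟩
      rw [hψg _ h1, h2]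
      group
  have hE : Elem t D (em g) := by
    refine ⟨?_, ?_, (g : (centralizer ({t} : Set G))).2, ?_, ?_, ?_⟩
    · rintro _ ⟨n, hn, rfl⟩
      rw [← map_mul, hDinj _ (mul_mem hn hn) 1 (one_mem _) (by rw [map_mul, hsq _ (hinto n hn), map_one]),
        map_one]
    · rw [hD, Subgroup.card_map_of_injective hem]
      refine le_trans hcard (Nat.card_le_card_of_surjective (fun n : DN => (⟨ψ n, hinto n n.2⟩ : (P : Subgroup L))) ?_)
      rintro ⟨p, hp⟩
      obtain ⟨n, hn, e⟩ := honto p hp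
      exact ⟨⟨n, hn⟩, Subtype.ext e⟩
    · rintro _ ⟨n, hn, rfl⟩
      exact ⟨_, hgD n hn, by rw [map_mul, map_mul, map_inv]⟩
    · rintro _ ⟨a, ha, rfl⟩ _ ⟨b, hb, rfl⟩ ha1 hb1
      obtain ⟨k, hk⟩ := hx.trans _ (hinto a ha) _ (hinto b hb)
        (fun e => ha1 (by rw [hDinj a ha 1 (one_mem _) (e.trans (map_one ψ).symm), map_one]))
        (fun e => hb1 (by rw [hDinj b hb 1 (one_mem _) (e.trans (map_one ψ).symm), map_one]))
      obtain ⟨h1, h2⟩ := hψgk k a ha
      exact ⟨k, by rw [← map_pow, ← map_inv, ← map_mul, ← map_mul, hDinj _ h1 b hb (h2.trans hk)]⟩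
    · intro h hh hnorm
      set c : (centralizer ({t} : Set G)) := ⟨h, hh⟩ with hc
      have hcD : ∀ n ∈ DN, cj c n ∈ DN := fun n hn => by
        obtain ⟨n', hn', e⟩ := hnorm (em n) ⟨n, hn, rfl⟩
        have : n' = cj c n := hem (e.trans (hcj c n).symm)
        exact this ▸ hn'
      have hcm : ∀ a b, cj c (a * b) = cj c a * cj c b := fun a b => by
        apply Subtype.ext; simp only [cj, Subgroup.coe_mul]; group
      have hci : ∀ a, cj c a⁻¹ = (cj c a)⁻¹ := fun a => by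
        apply Subtype.ext; simp only [cj, Subgroup.coe_inv]; group
      -- the image of the scalar element
      set nx := ψ (cj c n₀) with hnx
      have hnxP : ∀ n ∈ DN, nx * ψ (cj c n) * nx⁻¹ = ψ (cj c (g * n * g⁻¹)) := by
        intro n hn
        have h1 : ψ (cj c (n₀ * n * n₀⁻¹)) = ψ (cj c (g * n * g⁻¹)) := by
          refine hψcj c _ _ ?_ (hgD n hn).2 ?_
          · rw [map_mul, map_mul, map_inv, show φ n = 1 from hn.2]; simp
          · rw [hψg n hn, map_mul, map_mul, map_inv, show ψ n₀ = x from congrArg Prod.snd hn₀]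
        rw [← h1, hcm, hcm, hci, map_mul, map_mul, map_inv]
      have hsurj : ∀ p ∈ (P : Subgroup L), ∃ n ∈ DN, ψ (cj c n) = p := by
        have hb : Function.Surjective (fun n : DN => (⟨cj c n, hcD n n.2⟩ : DN)) :=
          Finite.injective_iff_surjective.1 fun a b e => by
            have e' := congrArg em (congrArg Subtype.val e)
            simp only [hcj] at e'
            exact Subtype.ext (hem (mul_left_cancel (mul_right_cancel e')))
        intro p hp
        obtain ⟨n, hn, rfl⟩ := honto p hp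
        obtain ⟨n', e⟩ := hb ⟨n, hn⟩
        exact ⟨n', n'.2, congrArg ψ (congrArg Subtype.val e)⟩
      obtain ⟨k, hk⟩ := hx.powers nx fun p hp => by
        obtain ⟨n, hn, rfl⟩ := hsurj p hp
        rw [hnxP n hn]
        exact hinto _ (hcD _ (hgD n hn))
      refine ⟨k, ?_⟩
      rintro _ ⟨n, hn, rfl⟩
      have key : cj c (g * n * g⁻¹) = g ^ k * cj c n * (g ^ k)⁻¹ := by
        obtain ⟨h1, h2⟩ := hψgk k _ (hcD n hn)
        refine hDinj _ (hcD _ (hgD n hn)) _ h1 ?_
        rw [h2, ← hk _ (hinto _ (hcD n hn)), hnxP n hn]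
      have := congrArg em key
      rw [hcj] at this
      simp only [map_mul, map_inv, map_pow, hcj] at this
      exact this
  obtain ⟨hodd, h4⟩ := hLoc.elem_four hE hno
  have h8 : Nat.card S₀ = 8 := by rw [hLoc.card_S₀, h4]
  let S₀' : Sylow 2 G := hLoc.two.toSylow hodd
  obtain ⟨w, hw⟩ := MulAction.exists_smul_eq G S₀' S
  refine ⟨?_, fun y hy => ?_⟩
  · rw [← h8]
    exact Nat.card_congr (S.equiv S₀').toEquiv
  · rw [← hw, Sylow.coe_subgroup_smul] at hy
    obtain ⟨s, hs, rfl⟩ := hy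
    rw [pow_two]
    exact sq_conj (hLoc.sq_eq_one hE hs) w

end Cfsg.Agent.H35.JT
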