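import Cfsg.Agent.H35.JT.Elem

/-!
# Stages: abelian 2-groups inverted by `t`

A stage is an abelian 2-group `P ⊇ D` inverted by `t` with `C_P(t) = D`, normalised by a scalar generator.
`cls K t h` is the class of `h t h⁻¹` among the conjugates `t p`, read in `D` through the power map.
-/

set_option autoImplicit false

namespace Cfsg.Agent.H35.JT

open Subgroup

variable {G : Type*} [Group G] {t g : G} {S₀ D P : Subgroup G}

/-- An abelian 2-group `P ⊇ D` inverted by `t`, with `C_P(t) = D`, normalised by the scalar generator `g`. -/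
structure Stage (t : G) (D P : Subgroup G) (g : G) : Prop where
  elem : Elem t D g
  two : IsPGroup 2 P
  le : D ≤ P
  inf : ∀ p ∈ P, p * t = t * p → p ∈ D
  inverted : ∀ p ∈ P, t * p * t = p⁻¹
  norm : ∀ p ∈ P, g * p * g⁻¹ ∈ P

/-- The position of `h t h⁻¹` in `tP`, read in `D` by the power map. -/
def cls (K : ℕ) (t h : G) : G := (t * (h * t * h⁻¹)) ^ (2 ^ K)

namespace Stage

theorem base (L : Local t S₀ D) (E : Elem t D g) : Stage t D D g where
  elem := E
  two := L.two.to_le L.D_le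
  le := le_rfl
  inf := fun _ hp _ => hp
  inverted := fun p hp => by
    rw [inv_eq_of_mul_eq_one_right (E.sq p hp), ← L.comm (L.D_le hp), mul_assoc, L.sq, mul_one]
  norm := E.gnorm

theorem not_mem (St : Stage t D P g) (L : Local t S₀ D) : t ∉ P := fun h => L.not_mem (St.inf t h rfl)

theorem mul_comm' (St : Stage t D P g) (L : Local t S₀ D) {a b : G} (ha : a ∈ P) (hb : b ∈ P) :
    a * b = b * a := by
  have h1 := St.inverted _ (mul_mem ha hb)
  rw [show t * (a * b) * t = t * a * 1 * b * t by group, ← L.sq,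
    show t * a * (t * t) * b * t = (t * a * t) * (t * b * t) by group, St.inverted a ha, St.inverted b hb] at h1
  have h2 := congrArg (fun x => x⁻¹) h1
  simp only [mul_inv_rev, inv_inv] at h2
  exact h2.symm

theorem mem_of_sq (St : Stage t D P g) (L : Local t S₀ D) {p : G} (hp : p ∈ P) (h : p * p = 1) : p ∈ D := by
  refine St.inf p hp ?_
  have h1 := St.inverted p hp
  rw [inv_eq_of_mul_eq_one_right h] at h1
  calc p * t = t * p * t * t := by rw [h1]
    _ = t * p := by rw [mul_assoc, L.sq, mul_one]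

theorem commute_mul (St : Stage t D P g) (L : Local t S₀ D) {p : G} (hp : p ∈ P) : p * t = t * p⁻¹ := by
  rw [← St.inverted p hp, ← mul_assoc, ← mul_assoc, L.sq, one_mul]

theorem sq_tmul (St : Stage t D P g) (L : Local t S₀ D) {p : G} (hp : p ∈ P) : t * p * (t * p) = 1 := by
  rw [show t * p * (t * p) = t * p * t * p by group, St.inverted p hp, inv_mul_cancel]

theorem conj_t (St : Stage t D P g) (L : Local t S₀ D) {p : G} (hp : p ∈ P) :
    p * t * p⁻¹ = t * (p⁻¹ * p⁻¹) := by
  rw [St.commute_mul L hp]; group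

/-- The 2-group `X = P<t>`. -/
theorem mem_X (St : Stage t D P g) (L : Local t S₀ D) {x : G} :
    x ∈ P ⊔ zpowers t ↔ x ∈ P ∨ t * x ∈ P := by
  constructor
  · intro hx
    rw [← Subgroup.closure_eq P, zpowers_eq_closure, ← Subgroup.closure_union] at hx
    induction hx using Subgroup.closure_induction with
    | mem y hy =>
      rcases hy with hy | hy
      · exact Or.inl hy
      · exact Or.inr (by rw [Set.mem_singleton_iff.1 hy, L.sq]; exact one_mem P)
    | one => exact Or.inl (one_mem P)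
    | mul a b _ _ ha hb =>
      rcases ha with ha | ha <;> rcases hb with hb | hb
      · exact Or.inl (mul_mem ha hb)
      · refine Or.inr ?_
        rw [show t * (a * b) = t * a * b by group, show t * a = a⁻¹ * t by
          rw [St.commute_mul L (inv_mem ha), inv_inv], mul_assoc]
        exact mul_mem (inv_mem ha) hb
      · exact Or.inr (by rw [← mul_assoc]; exact mul_mem ha hb)
      · refine Or.inl ?_
        have h1 := St.inverted _ ha
        rw [show t * (t * a) * t = (t * t) * a * t by group, L.sq, one_mul] at h1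
        have : a * b = (t * a)⁻¹ * (t * b) := by
          rw [← h1, show a * t * (t * b) = a * (t * t) * b by group, L.sq, mul_one]
        rw [this]
        exact mul_mem (inv_mem ha) hb
    | inv a _ ha =>
      rcases ha with ha | ha
      · exact Or.inl (inv_mem ha)
      · refine Or.inr ?_
        have h1 := St.inverted _ ha
        rw [show t * (t * a) * t = (t * t) * a * t by group, L.sq, one_mul] at h1
        have : t * a⁻¹ = t * a := by
          have h2 := congrArg (fun x => x⁻¹) h1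
          simp only [mul_inv_rev, inv_inv, L.inv] at h2
          exact h2
        rw [this]
        exact ha
  · rintro (hx | hx)
    · exact mem_sup_left hx
    · have := mul_mem (mem_sup_right (S := P) (mem_zpowers t)) (mem_sup_left (T := zpowers t) hx)
      rwa [← mul_assoc, L.sq, one_mul] at this

theorem t_mem_X (_St : Stage t D P g) : t ∈ P ⊔ zpowers t := mem_sup_right (mem_zpowers t)

theorem S₀_le_X (St : Stage t D P g) (L : Local t S₀ D) : S₀ ≤ P ⊔ zpowers t := fun s hs => by
  rw [St.mem_X L]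
  rcases L.split s hs with h | h
  exacts [Or.inl (St.le h), Or.inr (St.le h)]

theorem two_X (St : Stage t D P g) (L : Local t S₀ D) : IsPGroup 2 (P ⊔ zpowers t : Subgroup G) := by
  have ht : IsPGroup 2 (zpowers t) := IsPGroup.of_card (n := 1) (by rw [Nat.card_zpowers, L.invol, pow_one])
  refine St.two.to_sup_of_normal_left' ht ?_
  rw [Subgroup.zpowers_le]
  refine Subgroup.mem_normalizer_iff.2 fun p => ⟨fun hp => ?_, fun hp => ?_⟩
  · rw [L.inv, St.inverted p hp]
    exact inv_mem hp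
  · rw [L.inv] at hp
    have h1 := St.inverted _ hp
    rw [show t * (t * p * t) * t = t * t * p * (t * t) by group, L.sq, one_mul, mul_one] at h1
    rw [h1]
    exact inv_mem hp

/-- No element of `P` is a conjugate of `t`, and a conjugate of `t` in `X` lies in `tP`. -/
theorem not_isConj [Finite G] (St : Stage t D P g) (L : Local t S₀ D) (hnD : ∀ d ∈ D, ¬ IsConj t d) {p : G}
    (hp : p ∈ P) : ¬ IsConj t p :=
  fun h => hnD p (St.mem_of_sq L hp (L.sq_of_isConj h)) h

theorem mem_of_isConj [Finite G] (St : Stage t D P g) (L : Local t S₀ D) (hnD : ∀ d ∈ D, ¬ IsConj t d) {x : G}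
    (hx : x ∈ P ⊔ zpowers t) (h : IsConj t x) : t * x ∈ P :=
  ((St.mem_X L).1 hx).resolve_left fun hp => St.not_isConj L hnD hp h

/-- `N(X)` normalises `P`. -/
theorem conj_mem [Finite G] (St : Stage t D P g) (L : Local t S₀ D) (hnD : ∀ d ∈ D, ¬ IsConj t d)
    (hT : ∀ d ∈ D, IsConj t (t * d)) {h : G}
    (hh : h ∈ normalizer ((P ⊔ zpowers t : Subgroup G) : Set G)) {p : G} (hp : p ∈ P) : h * p * h⁻¹ ∈ P := by
  have hX : ∀ {x}, x ∈ P ⊔ zpowers t → h * x * h⁻¹ ∈ P ⊔ zpowers t := fun hx =>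
    (Subgroup.mem_normalizer_iff.1 hh _).1 hx
  have hbig : ∀ {q}, q ∈ P → q * q ≠ 1 → h * q * h⁻¹ ∈ P := by
    intro q hq hq2
    refine ((St.mem_X L).1 (hX (mem_sup_left hq))).resolve_right fun h1 => hq2 ?_
    have h2 := St.sq_tmul L h1
    rw [show t * (t * (h * q * h⁻¹)) = h * q * h⁻¹ by rw [← mul_assoc, L.sq, one_mul],
      show h * q * h⁻¹ * (h * q * h⁻¹) = h * (q * q) * h⁻¹ by group] at h2
    exact conj_eq_one_iff.1 h2
  by_cases hp2 : p * p = 1
  swap
  · exact hbig hp hp2
  by_cases hall : ∀ q ∈ P, q * q = 1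
  · -- then `P = D`
    refine ((St.mem_X L).1 (hX (mem_sup_left hp))).resolve_right fun h1 => ?_
    have hd := St.mem_of_sq L h1 (hall _ h1)
    have h2 := hT _ hd
    rw [← mul_assoc, L.sq, one_mul] at h2
    exact hnD p (St.mem_of_sq L hp hp2) (h2.trans (isConj_iff.2 ⟨h, rfl⟩ : IsConj p (h * p * h⁻¹)).symm)
  · push Not at hall
    obtain ⟨a, ha, ha2⟩ := hall
    have hpa : p * a * (p * a) ≠ 1 := fun e => ha2 (by
      rw [show p * a * (p * a) = p * (a * p) * a by group, St.mul_comm' L ha hp,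
        show p * (p * a) * a = p * p * (a * a) by group, hp2, one_mul] at e
      exact e)
    have h1 := mul_mem (hbig (mul_mem hp ha) hpa) (inv_mem (hbig ha ha2))
    rwa [show h * (p * a) * h⁻¹ * (h * a * h⁻¹)⁻¹ = h * p * h⁻¹ by group] at h1

theorem conj_memD [Finite G] (St : Stage t D P g) (L : Local t S₀ D) (hnD : ∀ d ∈ D, ¬ IsConj t d)
    (hT : ∀ d ∈ D, IsConj t (t * d)) {h : G}
    (hh : h ∈ normalizer ((P ⊔ zpowers t : Subgroup G) : Set G)) {d : G} (hd : d ∈ D) : h * d * h⁻¹ ∈ D :=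
  St.mem_of_sq L (St.conj_mem L hnD hT hh (St.le hd)) (sq_conj (St.elem.sq d hd) h)

theorem g_mem_normalizer [Finite G] (St : Stage t D P g) (L : Local t S₀ D) :
    g ∈ normalizer ((P ⊔ zpowers t : Subgroup G) : Set G) := by
  rw [Subgroup.mem_normalizer_iff_map_conj_eq]
  refine Subgroup.eq_of_le_of_card_ge ?_ (Subgroup.card_map_of_injective (MulAut.conj g).injective).ge
  rintro _ ⟨x, hx, rfl⟩
  show g * x * g⁻¹ ∈ P ⊔ zpowers t
  rw [SetLike.mem_coe, St.mem_X L] at hx
  rw [St.mem_X L]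
  rcases hx with hx | hx
  · exact Or.inl (St.norm x hx)
  · refine Or.inr ?_
    have := St.norm _ hx
    rwa [show g * (t * x) * g⁻¹ = g * t * g⁻¹ * (g * x * g⁻¹) by group, conj_fix_of_mem_cent St.elem.gC] at this

theorem gpow_conj_mem (St : Stage t D P g) (k : ℕ) {p : G} (hp : p ∈ P) : g ^ k * p * (g ^ k)⁻¹ ∈ P := by
  induction k with
  | zero => simpa using hp
  | succ k ih =>
    rw [pow_succ', show g * g ^ k * p * (g * g ^ k)⁻¹ = g * (g ^ k * p * (g ^ k)⁻¹) * g⁻¹ by group]
    exact St.norm _ ih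

theorem pow_mul_pow (St : Stage t D P g) (L : Local t S₀ D) {a b : G} (ha : a ∈ P) (hb : b ∈ P) (n : ℕ) :
    (a * b) ^ n = a ^ n * b ^ n :=
  (show Commute a b from St.mul_comm' L ha hb).mul_pow n

open Classical in
/-- The power map of a stage: onto `D`, with the squares as kernel. -/
theorem exists_pow [Finite G] (St : Stage t D P g) (L : Local t S₀ D) : ∃ K : ℕ,
    (∀ p ∈ P, p ^ (2 ^ K) ∈ D) ∧ (∀ d ∈ D, ∃ p ∈ P, p ^ (2 ^ K) = d) ∧
      ∀ p ∈ P, p ^ (2 ^ K) = 1 → ∃ q ∈ P, q * q = p := by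
  have : Fact (Nat.Prime 2) := ⟨Nat.prime_two⟩
  have hex : ∃ K : ℕ, ∀ p ∈ P, p ^ (2 ^ (K + 1)) = 1 := by
    obtain ⟨e, he⟩ := IsPGroup.iff_card.1 St.two
    refine ⟨e, fun p hp => ?_⟩
    rw [pow_succ, pow_mul, ← he]
    have h1 : (⟨p, hp⟩ : P) ^ Nat.card P = 1 := pow_card_eq_one'
    have h2 : p ^ Nat.card P = 1 := congrArg Subtype.val h1
    rw [h2, one_pow]
  set K := Nat.find hex with hK
  have hspec : ∀ p ∈ P, p ^ (2 ^ (K + 1)) = 1 := Nat.find_spec hex
  have hin : ∀ p ∈ P, p ^ (2 ^ K) ∈ D := fun p hp => St.mem_of_sq L (pow_mem hp _) (by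
    rw [← pow_add, ← two_mul, ← pow_succ']; exact hspec p hp)
  obtain ⟨p₀, hp₀, hp₀'⟩ : ∃ p ∈ P, p ^ (2 ^ K) ≠ 1 := by
    by_contra hc
    push Not at hc
    rcases Nat.eq_zero_or_pos K with h0 | h0
    · obtain ⟨d, hd, hd1⟩ := D.bot_or_exists_ne_one.resolve_left L.nontrivial
      have := hc d (St.le hd)
      rw [h0, pow_zero, pow_one] at this
      exact hd1 this
    · refine Nat.find_min hex (show K - 1 < K by omega) fun p hp => ?_
      rw [show K - 1 + 1 = K by omega]
      exact hc p hp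
  have honto : ∀ d ∈ D, ∃ p ∈ P, p ^ (2 ^ K) = d := by
    intro d hd
    by_cases hd1 : d = 1
    · exact ⟨1, one_mem P, by rw [one_pow, hd1]⟩
    · obtain ⟨k, hk⟩ := St.elem.trans _ (hin p₀ hp₀) d hd hp₀' hd1
      refine ⟨g ^ k * p₀ * (g ^ k)⁻¹, St.gpow_conj_mem k hp₀, ?_⟩
      rw [conj_pow, hk]
  refine ⟨K, hin, honto, fun p hp h1 => ?_⟩
  -- the kernel consists of squares, by counting
  let f : P →* P := MonoidHom.mk' (fun x => ⟨(x : G) * x, mul_mem x.2 x.2⟩) fun a b => Subtype.ext (by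
    show (a : G) * b * (a * b) = a * a * (b * b)
    rw [show (a : G) * b * (a * b) = a * (b * a) * b by group, St.mul_comm' L b.2 a.2]; group)
  let π : P →* D := MonoidHom.mk' (fun x => ⟨(x : G) ^ (2 ^ K), hin x x.2⟩) fun a b =>
    Subtype.ext (St.pow_mul_pow L a.2 b.2 _)
  have hπ : Function.Surjective π := fun d => by
    obtain ⟨q, hq, e⟩ := honto d d.2
    exact ⟨⟨q, hq⟩, Subtype.ext e⟩
  have hle : f.range ≤ π.ker := by
    rintro _ ⟨x, rfl⟩
    refine MonoidHom.mem_ker.2 (Subtype.ext ?_)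
    show ((x : G) * x) ^ (2 ^ K) = 1
    rw [← pow_two, ← pow_mul, ← pow_succ']
    exact hspec x x.2
  have hfk : f.ker = D.subgroupOf P := by
    ext x
    rw [MonoidHom.mem_ker, Subgroup.mem_subgroupOf]
    refine ⟨fun e => St.mem_of_sq L x.2 (congrArg Subtype.val e), fun e => Subtype.ext (St.elem.sq _ e)⟩
  have c1 := f.ker.card_mul_index
  have c2 := π.ker.card_mul_index
  rw [Subgroup.index_ker, hfk, Nat.card_congr (Subgroup.subgroupOfEquivOfLe St.le).toEquiv] at c1
  rw [Subgroup.index_ker, MonoidHom.range_eq_top.2 hπ, Subgroup.card_top, mul_comm] at c2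
  have heq : f.range = π.ker := Subgroup.eq_of_le_of_card_ge hle
    (Nat.eq_of_mul_eq_mul_left (Nat.card_pos (α := D)) (c2.trans c1.symm)).le
  have hmem : (⟨p, hp⟩ : P) ∈ π.ker := MonoidHom.mem_ker.2 (Subtype.ext h1)
  rw [← heq] at hmem
  obtain ⟨q, hq⟩ := hmem
  exact ⟨q, q.2, congrArg Subtype.val hq⟩

end Stage

end Cfsg.Agent.H35.JT
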