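import Cfsg.Agent.H67.TwoSym.Count
import Cfsg.Agent.H48.GTwoFusion.Transfer

/-!
# Transfer tools for the Janko-Thompson theorem

* `index_mod_four`: in a group without subgroups of index two the number of conjugates of an involution `t`
  lying in its centraliser is congruent to the number of all its conjugates modulo 4 (sign of `t`).
* `transfer_const`: a homomorphism of a subgroup of odd index to an abelian 2-group which is constant on the
  conjugates of `t` is trivial on them.
* `false_of_avoid`: no maximal subgroup of a Sylow 2-subgroup avoids all conjugates of `t`.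
-/

set_option autoImplicit false

namespace Cfsg.Agent.H35.JT

open Subgroup

variable {G : Type*} [Group G] [Finite G]

/-- The number of conjugates of `t` is congruent modulo 4 to the number of those centralising `t`. -/
theorem index_mod_four (hno : ∀ H : Subgroup G, H.index ≠ 2) {t : G} (ht : t * t = 1) :
    Nat.card {y : G // y ∈ centralizer ({t} : Set G) ∧ IsConj t y} % 4
      = (centralizer ({t} : Set G)).index % 4 := by
  obtain ⟨f, hf, hmod⟩ := H67.TwoSym.fixed_congr hno ht (centralizer ({t} : Set G))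
  rw [mul_comm] at hf
  rw [← Nat.eq_of_mul_eq_mul_left Nat.card_pos hf]
  exact hmod

/-- Transfer: a constant value on the conjugates of an involution in a subgroup of odd index is trivial. -/
theorem transfer_const (hno : ∀ H : Subgroup G, H.index ≠ 2) {t : G} (ht : t * t = 1) (K : Subgroup G)
    (hK : ¬ 2 ∣ K.index) {A : Type*} [CommGroup A] (hA : IsPGroup 2 A) (φ : K →* A) (z : A)
    (hz : ∀ (y : G) (hy : y ∈ K), IsConj t y → φ ⟨y, hy⟩ = z) : z = 1 := by
  obtain ⟨m, hm, hprod⟩ := H67.TwoSym.transfer_parts hno ht K hA φ (I := Unit) (fun _ => ())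
    (fun _ _ _ _ _ => rfl) (fun _ => z) (fun y hy hc => hz y hy hc)
  obtain ⟨f, hf, hmod⟩ := H67.TwoSym.fixed_congr hno ht K
  have h1 := hm ()
  have hcard : Nat.card {y : G // (y ∈ K ∧ (() : Unit) = ()) ∧ IsConj t y}
      = Nat.card {y : G // y ∈ K ∧ IsConj t y} :=
    Nat.card_congr (Equiv.subtypeEquivRight fun y => by simp)
  rw [hcard, ← hf] at h1
  have hmf : m () = f := Nat.eq_of_mul_eq_mul_right Nat.card_pos h1
  rw [Fintype.prod_unique] at hprod
  obtain ⟨k, hk⟩ := hA z
  have hodd : ¬ 2 ∣ m () := by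
    rw [hmf]; omega
  have hco : Nat.Coprime (2 ^ k) (m ()) :=
    Nat.Coprime.pow_left k ((Nat.prime_two.coprime_iff_not_dvd).2 hodd)
  exact orderOf_eq_one_iff.1 (Nat.eq_one_of_dvd_one (hco ▸ Nat.dvd_gcd (orderOf_dvd_of_pow_eq_one hk)
    (orderOf_dvd_of_pow_eq_one hprod)))

/-- Thompson transfer: every maximal subgroup of a Sylow 2-subgroup contains a conjugate of `t`. -/
theorem false_of_avoid (hno : ∀ H : Subgroup G, H.index ≠ 2) (P : Sylow 2 G) (Q : Subgroup G)
    (hQP : Q ≤ (P : Subgroup G)) (hQi : Q.relIndex (P : Subgroup G) = 2) {t : G} (ht : orderOf t = 2)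
    (h : ∀ y ∈ Q, ¬ IsConj t y) : False := by
  obtain ⟨g, hg, -⟩ := H48.GTwoFusion.transfer_extremal (fun N _ => hno N) P Q hQP hQi t ht ⊥
    IsPGroup.of_bot (by simp)
  exact h _ hg (isConj_iff.2 ⟨g, rfl⟩)

omit [Finite G] in
/-- A simple group which is not abelian has no subgroup of index two. -/
theorem no_index_two [IsSimpleGroup G] (hG : ¬ IsMulCommutative G) (H : Subgroup G) : H.index ≠ 2 := by
  intro h
  have hn := Subgroup.normal_of_index_eq_two h
  rcases hn.eq_bot_or_eq_top with rfl | rfl
  · rw [Subgroup.index_bot] at h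
    have : Fact (Nat.Prime 2) := ⟨Nat.prime_two⟩
    have := isCyclic_of_prime_card (α := G) (p := 2) h
    exact hG ⟨⟨fun a b => by
      obtain ⟨g, hg⟩ := IsCyclic.exists_generator (α := G)
      obtain ⟨i, rfl⟩ := mem_zpowers_iff.1 (hg a)
      obtain ⟨j, rfl⟩ := mem_zpowers_iff.1 (hg b)
      rw [← zpow_add, ← zpow_add, add_comm]⟩⟩
  · rw [Subgroup.index_top] at h
    omega

end Cfsg.Agent.H35.JT
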